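import Mathlib
import Cfsg.Prelude.Def_Solvable
import Cfsg.Prelude.Def_OddOrderLocal

set_option autoImplicit false

namespace Cfsg.Agent.Helper62

universe u

/-- `H` is a `π`-group: all prime divisors of its order lie in `π`. -/
def IsPi {G : Type*} [Group G] (π : Set ℕ) (H : Subgroup G) : Prop :=
  ∀ p : ℕ, p.Prime → p ∣ Nat.card H → p ∈ π

section
variable {G : Type*} [Group G]

theorem sSup_induction_finite [Finite G] (S : Set (Subgroup G)) (P : Subgroup G → Prop)
    (hbot : P ⊥) (hsup : ∀ a b, P a → P b → P (a ⊔ b)) (hS : ∀ a ∈ S, P a) : P (sSup S) := by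
  have hfin : S.Finite := Set.toFinite S
  have h1 : sSup S = hfin.toFinset.sup id := by
    rw [Finset.sup_id_eq_sSup, Set.Finite.coe_toFinset]
  rw [h1]
  apply Finset.sup_induction hbot (fun a ha b hb => hsup a b ha hb)
  intro b hb
  exact hS b (hfin.mem_toFinset.mp hb)

theorem isPi_bot (π : Set ℕ) : IsPi π (⊥ : Subgroup G) := by
  intro p hp hdvd
  rw [Subgroup.card_bot] at hdvd
  exact absurd (Nat.dvd_one.mp hdvd) hp.one_lt.ne'

theorem card_sup_dvd [Finite G] (H K : Subgroup G) [K.Normal] :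
    Nat.card (H ⊔ K : Subgroup G) ∣ Nat.card K * Nat.card H := by
  have h1 : (⊥ : Subgroup G).relIndex K * K.relIndex (H ⊔ K) = (⊥ : Subgroup G).relIndex (H ⊔ K) :=
    Subgroup.relIndex_mul_relIndex _ _ _ bot_le le_sup_right
  rw [Subgroup.relIndex_bot_left, Subgroup.relIndex_bot_left, Subgroup.relIndex_sup_right] at h1
  rw [← h1]
  exact Nat.mul_dvd_mul_left _ (Subgroup.relIndex_dvd_card K H)

theorem isPi_sup [Finite G] (π : Set ℕ) (H K : Subgroup G) [K.Normal] (hH : IsPi π H)
    (hK : IsPi π K) : IsPi π (H ⊔ K) := by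
  intro p hp hdvd
  have := hdvd.trans (card_sup_dvd H K)
  rcases (Nat.Prime.dvd_mul hp).mp this with h | h
  · exact hK p hp h
  · exact hH p hp h

theorem isPi_piCore [Finite G] (π : Set ℕ) : IsPi π (Cfsg.piCore π G) := by
  unfold Cfsg.piCore
  have := sSup_induction_finite {N : Subgroup G | N.Normal ∧ ∀ p : ℕ, p.Prime → p ∣ Nat.card N → p ∈ π}
    (fun N => N.Normal ∧ IsPi π N) ⟨inferInstance, isPi_bot π⟩
    (fun a b ha hb => by
      have := ha.1; have := hb.1
      exact ⟨inferInstance, isPi_sup π a b ha.2 hb.2⟩)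
    (fun a ha => ha)
  exact this.2

theorem le_piCore (π : Set ℕ) {N : Subgroup G} (hN : N.Normal) (h : IsPi π N) :
    N ≤ Cfsg.piCore π G :=
  le_sSup ⟨hN, h⟩

theorem isPi_map_equiv {G' : Type*} [Group G'] (π : Set ℕ) (φ : G ≃* G') {N : Subgroup G}
    (h : IsPi π N) : IsPi π (N.map φ.toMonoidHom) := by
  intro p hp hdvd
  apply h p hp
  have : Nat.card (N.map φ.toMonoidHom) = Nat.card N :=
    Nat.card_congr (N.equivMapOfInjective φ.toMonoidHom φ.injective).symm.toEquiv
  rwa [this] at hdvd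

theorem isPi_map_subtype (π : Set ℕ) (K : Subgroup G) {N : Subgroup K}
    (h : IsPi π N) : IsPi π (N.map K.subtype) := by
  intro p hp hdvd
  apply h p hp
  have : Nat.card (N.map K.subtype) = Nat.card N :=
    Nat.card_congr (N.equivMapOfInjective K.subtype K.subtype_injective).symm.toEquiv
  rwa [this] at hdvd

theorem isPi_subgroupOf (π : Set ℕ) {A K : Subgroup G} (hAK : A ≤ K)
    (h : IsPi π A) : IsPi π (A.subgroupOf K) := by
  intro p hp hdvd
  apply h p hp
  have : Nat.card (A.subgroupOf K) = Nat.card A :=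
    Nat.card_congr (Subgroup.subgroupOfEquivOfLe hAK).toEquiv
  rwa [this] at hdvd

instance piCore_characteristic (π : Set ℕ) : (Cfsg.piCore π G).Characteristic := by
  rw [Subgroup.characteristic_iff_le_comap]
  intro φ
  unfold Cfsg.piCore
  apply sSup_le
  rintro N ⟨hN, hπ⟩
  rw [← Subgroup.map_le_iff_le_comap]
  apply le_sSup
  exact ⟨hN.map _ φ.surjective, isPi_map_equiv π φ hπ⟩

end

/-- A subnormal `π`-subgroup lies in `O_π(G)`. -/
theorem subnormal_le_piCore_aux (π : Set ℕ) : ∀ (n : ℕ) (G : Type u) [Group G] [Finite G],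
    Nat.card G = n → ∀ (A : Subgroup G), A.IsSubnormal → IsPi π A → A ≤ Cfsg.piCore π G := by
  intro n
  induction n using Nat.strong_induction_on with
  | _ n ih =>
    intro G _ _ hcard A hA hπ
    by_cases hAtop : A = ⊤
    · subst hAtop
      exact le_piCore π inferInstance hπ
    obtain ⟨N, hNn, hAN, hNlt⟩ := hA.exists_normal_and_le_and_lt_top_of_ne hAtop
    have hcardN : Nat.card N < n := by
      rw [← hcard]
      have hidx : N.index ≠ 1 := by
        intro h; exact hNlt.ne (Subgroup.index_eq_one.mp h)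
      have := Subgroup.card_mul_index N
      have hpos : 0 < Nat.card N := Nat.card_pos
      have hidx0 : N.index ≠ 0 := Subgroup.index_ne_zero_of_finite
      have : 2 ≤ N.index := by omega
      nlinarith
    have h1 := ih (Nat.card N) hcardN N rfl (A.subgroupOf N) hA.subgroupOf (isPi_subgroupOf π hAN hπ)
    have h2 : A ≤ (Cfsg.piCore π N).map N.subtype := by
      intro a ha
      exact ⟨⟨a, hAN ha⟩, h1 (Subgroup.mem_subgroupOf.mpr ha), rfl⟩
    have h3 : ((Cfsg.piCore π N).map N.subtype).Normal := by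
      have := hNn; infer_instance
    exact h2.trans (le_piCore π h3 (isPi_map_subtype π N (isPi_piCore π)))

theorem subnormal_le_piCore {G : Type u} [Group G] [Finite G] (π : Set ℕ) {A : Subgroup G}
    (hA : A.IsSubnormal) (hπ : IsPi π A) : A ≤ Cfsg.piCore π G :=
  subnormal_le_piCore_aux π (Nat.card G) G rfl A hA hπ

section
variable {G : Type*} [Group G]

theorem isPGroup_iff_isPi [Finite G] {p : ℕ} [hp : Fact p.Prime] (N : Subgroup G) :
    IsPGroup p N ↔ IsPi {p} N := by
  constructor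
  · intro h q hq hdvd
    obtain ⟨n, hn⟩ := IsPGroup.iff_card.mp h
    rw [hn] at hdvd
    exact (Nat.prime_dvd_prime_iff_eq hq hp.out).mp (hq.dvd_of_dvd_pow hdvd)
  · intro h
    rw [IsPGroup.iff_card]
    refine ⟨_, Nat.eq_prime_pow_of_unique_prime_dvd Nat.card_pos.ne' ?_⟩
    intro d hd hdvd
    exact h d hd hdvd

theorem pCore_eq_piCore [Finite G] {p : ℕ} [Fact p.Prime] :
    Cfsg.pCore p G = Cfsg.piCore {p} G := by
  unfold Cfsg.pCore Cfsg.piCore
  congr 1
  ext N
  simp only [Set.mem_ofPred_eq]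
  rw [isPGroup_iff_isPi]
  rfl

theorem isPGroup_pCore [Finite G] {p : ℕ} [Fact p.Prime] : IsPGroup p (Cfsg.pCore p G) := by
  rw [isPGroup_iff_isPi, pCore_eq_piCore]
  exact isPi_piCore {p}

theorem pCore_le_fitting [Finite G] {p : ℕ} [Fact p.Prime] :
    Cfsg.pCore p G ≤ Cfsg.fittingSubgroup G := by
  apply le_sSup
  exact ⟨inferInstance, isPGroup_pCore.isNilpotent⟩

theorem subnormal_pGroup_le_pCore [Finite G] {p : ℕ} [Fact p.Prime] {A : Subgroup G}
    (hA : A.IsSubnormal) (hp : IsPGroup p A) : A ≤ Cfsg.pCore p G := by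
  rw [pCore_eq_piCore]
  exact subnormal_le_piCore {p} hA ((isPGroup_iff_isPi A).mp hp)

/-- A finite group is generated by its Sylow subgroups. -/
theorem iSup_sylow_eq_top [Finite G] :
    (⨆ (p : Nat.Primes), ⨆ (P : @Sylow p G _), (P : Subgroup G)) = ⊤ := by
  rw [← Subgroup.index_eq_one, Nat.eq_one_iff_not_exists_prime_dvd]
  intro q hq hdvd
  have : Fact q.Prime := ⟨hq⟩
  obtain ⟨Q⟩ : Nonempty (Sylow q G) := inferInstance
  have hle : (Q : Subgroup G) ≤ ⨆ (p : Nat.Primes), ⨆ (P : @Sylow p G _), (P : Subgroup G) :=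
    le_iSup_of_le ⟨q, hq⟩ (le_iSup (fun P : Sylow q G => (P : Subgroup G)) Q)
  exact Q.not_dvd_index (hdvd.trans (Subgroup.index_dvd_of_le hle))

/-- A subnormal nilpotent subgroup lies in the Fitting subgroup. -/
theorem subnormal_nilpotent_le_fitting [Finite G] {A : Subgroup G} (hA : A.IsSubnormal)
    (hnil : Group.IsNilpotent A) : A ≤ Cfsg.fittingSubgroup G := by
  have key : ∀ (p : Nat.Primes) (P : @Sylow p A _),
      (P : Subgroup A).map A.subtype ≤ Cfsg.fittingSubgroup G := by
    intro p P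
    have : Fact (p : ℕ).Prime := ⟨p.2⟩
    have hPn : (P : Subgroup A).Normal := inferInstance
    have hsn : ((P : Subgroup A).map A.subtype).IsSubnormal := hPn.isSubnormal.trans' hA
    have hpg : IsPGroup p ((P : Subgroup A).map A.subtype) := P.isPGroup'.map A.subtype
    exact (subnormal_pGroup_le_pCore hsn hpg).trans pCore_le_fitting
  have htop := iSup_sylow_eq_top (G := A)
  intro a ha
  have hmem : (⟨a, ha⟩ : A) ∈ (⊤ : Subgroup A) := Subgroup.mem_top _
  rw [← htop] at hmem
  have h2 : a ∈ (⨆ (p : Nat.Primes), ⨆ (P : @Sylow p A _), (P : Subgroup A)).map A.subtype :=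
    ⟨⟨a, ha⟩, hmem, rfl⟩
  rw [Subgroup.map_iSup] at h2
  refine (iSup_le ?_ : _ ≤ Cfsg.fittingSubgroup G) h2
  intro p
  rw [Subgroup.map_iSup]
  exact iSup_le (key p)

end

end Cfsg.Agent.Helper62
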