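import Mathlib

set_option autoImplicit false

namespace Cfsg.Agent.Helper62

universe u

variable {G : Type u} [Group G]

/-- `K` is a minimal normal subgroup of `G`. -/
def IsMinNormal (K : Subgroup G) : Prop :=
  K.Normal ∧ K ≠ ⊥ ∧ ∀ K' : Subgroup G, K'.Normal → K' ≤ K → K' = ⊥ ∨ K' = K

theorem exists_isMinNormal_le [Finite G] (N : Subgroup G) (hN : N.Normal) (hN1 : N ≠ ⊥) :
    ∃ K : Subgroup G, IsMinNormal K ∧ K ≤ N := by
  have wf : WellFounded ((· < ·) : Subgroup G → Subgroup G → Prop) := wellFounded_lt
  let S : Set (Subgroup G) := {X | X.Normal ∧ X ≠ ⊥ ∧ X ≤ N}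
  have hS : S.Nonempty := ⟨N, hN, hN1, le_rfl⟩
  have hmem := wf.min_mem S hS
  refine ⟨wf.min S hS, ⟨hmem.1, hmem.2.1, ?_⟩, hmem.2.2⟩
  intro K' hK' hle
  by_cases h : K' = ⊥
  · exact Or.inl h
  · right
    have hK'S : K' ∈ S := ⟨hK', h, hle.trans hmem.2.2⟩
    have hnlt : ¬ K' < wf.min S hS := wf.not_lt_min S hK'S
    exact (eq_or_lt_of_le hle).resolve_right hnlt

theorem exists_isMinNormal [Finite G] [Nontrivial G] : ∃ K : Subgroup G, IsMinNormal K := by
  obtain ⟨K, hK, _⟩ := exists_isMinNormal_le (⊤ : Subgroup G) inferInstance top_ne_bot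
  exact ⟨K, hK⟩

theorem IsMinNormal.map_equiv {G' : Type*} [Group G'] {K : Subgroup G} (hK : IsMinNormal K)
    (φ : G ≃* G') : IsMinNormal (K.map φ.toMonoidHom) := by
  obtain ⟨hn, h1, hmin⟩ := hK
  refine ⟨hn.map _ φ.surjective, ?_, ?_⟩
  · intro h
    exact h1 ((Subgroup.map_eq_bot_iff_of_injective K φ.injective).mp h)
  · intro K' hK' hle
    have hc : (K'.comap φ.toMonoidHom).Normal := hK'.comap _
    have hle' : K'.comap φ.toMonoidHom ≤ K := by
      intro x hx
      have : φ x ∈ K.map φ.toMonoidHom := hle hx
      obtain ⟨y, hy, hyx⟩ := this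
      have : y = x := φ.injective hyx
      exact this ▸ hy
    have hback : (K'.comap φ.toMonoidHom).map φ.toMonoidHom = K' :=
      Subgroup.map_comap_eq_self_of_surjective φ.surjective K'
    rcases hmin _ hc hle' with h | h
    · left
      rw [← hback, h, Subgroup.map_bot]
    · right
      rw [← hback, h]

/-- Minimal normal subgroups normalize subnormal subgroups (finite groups). -/
theorem IsMinNormal.le_normalizer_aux : ∀ (n : ℕ) (G : Type u) [Group G] [Finite G],
    Nat.card G = n → ∀ (H K : Subgroup G), H.IsSubnormal → IsMinNormal K →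
    K ≤ Subgroup.normalizer (H : Set G) := by
  intro n
  induction n using Nat.strong_induction_on with
  | _ n ih =>
    intro G _ _ hcard H K hH hK
    by_cases hHtop : H = ⊤
    · subst hHtop
      intro x _
      rw [Subgroup.mem_normalizer_iff]
      intro h; simp
    obtain ⟨N, hNn, hHN, hNlt⟩ := hH.exists_normal_and_le_and_lt_top_of_ne hHtop
    obtain ⟨hKn, hK1, hKmin⟩ := hK
    have hKN : (K ⊓ N).Normal := by
      have := hKn; have := hNn; infer_instance
    rcases hKmin (K ⊓ N) hKN inf_le_left with h0 | h0
    · -- K and N commute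
      intro k hk
      rw [Subgroup.mem_normalizer_iff]
      have hcomm : ∀ h ∈ H, k * h * k⁻¹ = h := by
        intro h hh
        have hhN : h ∈ N := hHN hh
        have hmem : k * h * k⁻¹ * h⁻¹ ∈ K ⊓ N := by
          refine ⟨?_, ?_⟩
          · have h5 : h * k⁻¹ * h⁻¹ ∈ K := hKn.conj_mem _ (K.inv_mem hk) h
            have h6 := K.mul_mem hk h5
            simpa [mul_assoc] using h6
          · have h5 : k * h * k⁻¹ ∈ N := hNn.conj_mem _ hhN k
            exact N.mul_mem h5 (N.inv_mem hhN)
        rw [h0, Subgroup.mem_bot] at hmem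
        exact mul_inv_eq_one.mp hmem
      intro h
      constructor
      · intro hh; rw [hcomm h hh]; exact hh
      · intro hh
        have h2 := hcomm _ hh
        have h3 : k * h * k⁻¹ = h := by
          have : k * (k * h * k⁻¹) * k⁻¹ = k * h * k⁻¹ := h2
          have h4 := congrArg (fun x => k⁻¹ * x * k) this
          simp only [mul_assoc, inv_mul_cancel_left, inv_mul_cancel, mul_one] at h4
          simpa [mul_assoc] using h4
        rw [← h3]; exact hh
    · -- K ≤ N
      have hKleN : K ≤ N := by rw [← h0]; exact inf_le_right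
      have := hNn
      have hcardN : Nat.card N < n := by
        rw [← hcard]
        have hidx : N.index ≠ 1 := by
          intro h; exact hNlt.ne (Subgroup.index_eq_one.mp h)
        have := Subgroup.card_mul_index N
        have hpos : 0 < Nat.card N := Nat.card_pos
        have hidx0 : N.index ≠ 0 := Subgroup.index_ne_zero_of_finite
        have : 2 ≤ N.index := by omega
        nlinarith
      -- minimal normal subgroup of N inside K
      have hK'n : (K.subgroupOf N).Normal := by
        have := hKn; infer_instance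
      have hK'1 : K.subgroupOf N ≠ ⊥ := by
        intro h
        rw [Subgroup.subgroupOf_eq_bot] at h
        apply hK1
        rw [← h0]; exact disjoint_iff.mp h
      obtain ⟨K₁, hK₁, hK₁le⟩ := exists_isMinNormal_le (K.subgroupOf N) hK'n hK'1
      -- the normal closure of K₁ in G
      let J : Subgroup G := Subgroup.normalClosure ((K₁.map N.subtype : Subgroup G) : Set G)
      have hK₁K : K₁.map N.subtype ≤ K := by
        rintro _ ⟨x, hx, rfl⟩
        exact hK₁le hx
      have hJK : J ≤ K := by
        have := hKn
        exact Subgroup.normalClosure_le_normal hK₁K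
      have hJ1 : J ≠ ⊥ := by
        intro h
        have hle : K₁.map N.subtype ≤ J := Subgroup.le_normalClosure
        rw [h, le_bot_iff] at hle
        exact hK₁.2.1 ((Subgroup.map_eq_bot_iff_of_injective K₁ N.subtype_injective).mp hle)
      have hJeq : J = K := (hKmin J inferInstance hJK).resolve_left hJ1
      rw [← hJeq]
      show Subgroup.closure _ ≤ _
      rw [Subgroup.closure_le]
      intro y hy
      rw [Group.mem_conjugatesOfSet_iff] at hy
      obtain ⟨a, ha, hconj⟩ := hy
      obtain ⟨g, hg⟩ := isConj_iff.mp hconj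
      obtain ⟨a', ha', rfl⟩ := ha
      -- y = g a' g⁻¹ lies in the image of K₁ under conjNormal g
      have hmin' : IsMinNormal (K₁.map (MulAut.conjNormal g : MulAut N).toMonoidHom) :=
        hK₁.map_equiv (MulAut.conjNormal g : MulAut N)
      have hsub : (H.subgroupOf N).IsSubnormal := hH.subgroupOf
      have hnorm := ih (Nat.card N) hcardN N rfl (H.subgroupOf N) _ hsub hmin'
      have hmem : (MulAut.conjNormal g : MulAut N) a' ∈
          K₁.map (MulAut.conjNormal g : MulAut N).toMonoidHom := ⟨a', ha', rfl⟩
      have hn := hnorm hmem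
      have hn' := Subgroup.inv_mem _ hn
      rw [Subgroup.mem_normalizer_iff] at hn hn'
      show y ∈ Subgroup.normalizer (H : Set G)
      rw [Subgroup.mem_normalizer_iff]
      have hy' : ((MulAut.conjNormal g : MulAut N) a' : G) = y := by
        rw [← hg]; rfl
      have key : ∀ h : G, h ∈ H → y * h * y⁻¹ ∈ H ∧ y⁻¹ * h * y ∈ H := by
        intro h hh
        have hhN : h ∈ N := hHN hh
        have h1 := (hn ⟨h, hhN⟩).mp (by exact Subgroup.mem_subgroupOf.mpr hh)
        have h2 := (hn' ⟨h, hhN⟩).mp (by exact Subgroup.mem_subgroupOf.mpr hh)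
        rw [Subgroup.mem_subgroupOf] at h1 h2
        simp only [Subgroup.coe_mul, Subgroup.coe_inv, hy', inv_inv] at h1 h2
        exact ⟨h1, h2⟩
      intro h
      constructor
      · intro hh; exact (key h hh).1
      · intro hh
        have := (key _ hh).2
        simpa [mul_assoc] using this

theorem IsMinNormal.le_normalizer_of_isSubnormal [Finite G] {H K : Subgroup G}
    (hK : IsMinNormal K) (hH : H.IsSubnormal) : K ≤ Subgroup.normalizer (H : Set G) :=
  IsMinNormal.le_normalizer_aux (Nat.card G) G rfl H K hH hK

end Cfsg.Agent.Helper62
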