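import Mathlib
import Cfsg.Agent.Lib.Helper87.PsuA
import Cfsg.Agent.Lib.Helper87.PsuB0
import Cfsg.Agent.Lib.Helper87.PsuHB

/-!
# SUO: definitions for `SU_n(q)`, `n ≥ 5` odd, generated by three conjugate regular unipotents
(lemma server of helper62 for S2282)
-/

set_option autoImplicit false
set_option linter.unusedSectionVars false
set_option linter.unusedVariables false
set_option quotPrecheck false

namespace Cfsg.Agent.Helper62.SUO

open Matrix Cfsg Cfsg.Agent.Helper13 Cfsg.Agent.Helper87.PsuA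

variable {F : Type*} [Field F] [Fintype F] {q n : ℕ}

local notation "V" => Fin n → F
local notation "G" => ↥(Cfsg.SU n F q)
local notation "H" => Cfsg.hermForm n F q

/-- the orbit of `e0` under `Hs` -/
def Orb (Hs : Subgroup G) (e0 : V) : Set V := {x | ∃ h ∈ Hs, actv h e0 = x}

/-- parameters of the transvections with centre `e0` in `Hs` -/
def MM (hF : Fintype.card F = q ^ 2) (Hs : Subgroup G) (e0 : V) : Set F :=
  {c | c + c ^ q = 0 ∧ eich hF e0 0 c ∈ Hs}

/-- vectors `w ⊥ e0` such that some Eichler element `eich e0 w a` lies in `Hs` -/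
def QQ (hF : Fintype.card F = q ^ 2) (Hs : Subgroup G) (e0 : V) : Set V :=
  {w | H e0 w = 0 ∧ ∃ a : F, a + a ^ q + H w w = 0 ∧ eich hF e0 w a ∈ Hs}

/-- full centres: the whole group `Q_v = {eich v w a}` lies in `Hs` -/
def WW (hF : Fintype.card F = q ^ 2) (Hs : Subgroup G) : Set V :=
  {v | H v v = 0 ∧ ∀ (w : V) (a : F), H v w = 0 → a + a ^ q + H w w = 0 → eich hF v w a ∈ Hs}

/-- generation condition: an additive subgroup containing `c`, `κ` and stable under `ρ` is `F` -/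
def Gen2 (c κ ρ : F) : Prop :=
  ∀ S : AddSubgroup F, c ∈ S → κ ∈ S → (∀ a ∈ S, ρ * a ∈ S) → S = ⊤

/-- the hypotheses of the abstract generation criterion -/
structure Hyp (hF : Fintype.card F = q ^ 2) (Hs : Subgroup G) (u l : G) (e0 e1 p : V)
    (c γ : F) : Prop where
  hu : u ∈ Hs
  hl : l ∈ Hs
  e0e0 : H e0 e0 = 0
  ue0 : actv u e0 = e0
  ue1 : actv u e1 = e1 + e0
  le0 : actv l e0 = e1
  lp : actv l p = e0
  e0e1 : H e0 e1 = 0
  e1p : H e1 p = γ
  γ0 : γ ≠ 0
  hc : c • e1 ∈ QQ hF Hs e0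
  κ0 : c - c ^ q ≠ 0
  gen : Gen2 c (c - c ^ q) ((c - c ^ q) ^ 2 * (γ * γ ^ q))
  cyc : ∀ S : Submodule F V, p ∈ S → (∀ x ∈ S, actv u x ∈ S) → ∀ x, H e0 x = 0 → x ∈ S

/-- all superdiagonal entries (in the hyperbolic basis `b`) are nonzero -/
def SupNZ (q : ℕ) (b : Fin n → V) (u : G) : Prop :=
  ∀ i j : Fin n, i.val + 1 = j.val → co q b (actv u (b j)) i ≠ 0

end Cfsg.Agent.Helper62.SUO
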