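import Mathlib
import Cfsg.Agent.Lib.Helper24.SZInternal

set_option autoImplicit false

namespace Cfsg.Agent.Helper62

universe u

section basic
variable {G : Type*} [Group G]

/-- conjugate of a subgroup, in the `map` form used by the statements -/
abbrev cj (g : G) (H : Subgroup G) : Subgroup G := H.map (MulAut.conj g).toMonoidHom

theorem mem_cj {g x : G} {H : Subgroup G} : x ∈ cj g H ↔ g⁻¹ * x * g ∈ H := by
  constructor
  · rintro ⟨y, hy, rfl⟩
    simpa [mul_assoc] using hy
  · intro h
    exact ⟨g⁻¹ * x * g, h, by simp [mul_assoc]⟩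

theorem card_cj (g : G) (H : Subgroup G) : Nat.card (cj g H) = Nat.card H :=
  Nat.card_congr (H.equivMapOfInjective _ (MulAut.conj g).injective).symm.toEquiv

theorem index_cj (g : G) (H : Subgroup G) : (cj g H).index = H.index :=
  Subgroup.index_map_equiv H (MulAut.conj g)

theorem cj_cj (g h : G) (H : Subgroup G) : cj g (cj h H) = cj (g * h) H := by
  ext x
  simp only [mem_cj]
  constructor <;> intro hx <;> simpa [mul_assoc] using hx

theorem cj_one (H : Subgroup G) : cj 1 H = H := by
  ext x; simp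

theorem cj_mono {g : G} {H K : Subgroup G} (h : H ≤ K) : cj g H ≤ cj g K :=
  Subgroup.map_mono h

theorem le_cj_iff {g : G} {H K : Subgroup G} : H ≤ cj g K ↔ cj g⁻¹ H ≤ K := by
  constructor
  · intro h
    have := cj_mono (g := g⁻¹) h
    rwa [cj_cj, inv_mul_cancel, cj_one] at this
  · intro h
    have := cj_mono (g := g) h
    rwa [cj_cj, mul_inv_cancel, cj_one] at this

/-- `|N ⊔ B| = |N| |B|` if `N` is normal and `N ⊓ B = ⊥`. -/
theorem card_sup_of_inf_eq_bot [Finite G] (N B : Subgroup G) [N.Normal] (h : N ⊓ B = ⊥) :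
    Nat.card (N ⊔ B : Subgroup G) = Nat.card N * Nat.card B := by
  have h1 : (⊥ : Subgroup G).relIndex N * N.relIndex (N ⊔ B) = (⊥ : Subgroup G).relIndex (N ⊔ B) :=
    Subgroup.relIndex_mul_relIndex _ _ _ bot_le le_sup_left
  rw [Subgroup.relIndex_bot_left, Subgroup.relIndex_bot_left, Subgroup.relIndex_sup_left,
    ← Subgroup.inf_relIndex_right, h, Subgroup.relIndex_bot_left] at h1
  exact h1.symm

/-- order of a full preimage under the quotient map -/
theorem card_comap_mk' [Finite G] (N : Subgroup G) [N.Normal] (Hb : Subgroup (G ⧸ N)) :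
    Nat.card (Hb.comap (QuotientGroup.mk' N)) = Nat.card N * Nat.card Hb := by
  set K := Hb.comap (QuotientGroup.mk' N) with hK
  have hNK : N ≤ K := by
    intro x hx
    show (QuotientGroup.mk' N) x ∈ Hb
    rw [QuotientGroup.mk'_apply, (QuotientGroup.eq_one_iff x).mpr hx]
    exact one_mem _
  have h1 : (⊥ : Subgroup G).relIndex N * N.relIndex K = (⊥ : Subgroup G).relIndex K :=
    Subgroup.relIndex_mul_relIndex _ _ _ bot_le hNK
  rw [Subgroup.relIndex_bot_left, Subgroup.relIndex_bot_left] at h1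
  have h2 : N.relIndex K = Nat.card Hb := by
    have h3 : N = (⊥ : Subgroup (G ⧸ N)).comap (QuotientGroup.mk' N) := by
      rw [MonoidHom.comap_bot, QuotientGroup.ker_mk']
    conv_lhs => rw [h3]
    rw [Subgroup.relIndex_comap, Subgroup.relIndex_bot_left, hK,
      Subgroup.map_comap_eq_self_of_surjective (QuotientGroup.mk'_surjective N)]
  rw [h2] at h1
  exact h1.symm

end basic

/-- `H` is a `p`-complement: order prime to `p`, index a power of `p`. -/
def IsPCompl {G : Type*} [Group G] (p : ℕ) (H : Subgroup G) : Prop :=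
  (Nat.card H).Coprime p ∧ ∃ n : ℕ, H.index = p ^ n

/-- `G` has a dominant `p`-complement. -/
def HasDom (p : ℕ) (G : Type*) [Group G] : Prop :=
  ∃ H : Subgroup G, IsPCompl p H ∧
    ∀ U : Subgroup G, (Nat.card U).Coprime p → ∃ g : G, U ≤ cj g H

section transfer
variable {G : Type*} [Group G] [Finite G] {p : ℕ} [hp : Fact p.Prime]

/-- two `p`-complements have the same order -/
theorem IsPCompl.card_eq {H₁ H₂ : Subgroup G} (h₁ : IsPCompl p H₁) (h₂ : IsPCompl p H₂) :
    Nat.card H₁ = Nat.card H₂ := by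
  obtain ⟨c1, n1, i1⟩ := h₁
  obtain ⟨c2, n2, i2⟩ := h₂
  have e1 := Subgroup.card_mul_index H₁
  have e2 := Subgroup.card_mul_index H₂
  rw [i1] at e1
  rw [i2] at e2
  apply Nat.dvd_antisymm
  · have : Nat.card H₁ ∣ Nat.card H₂ * p ^ n2 := by rw [e2, ← e1]; exact dvd_mul_right _ _
    exact (Nat.Coprime.pow_right n2 c1).dvd_of_dvd_mul_right this
  · have : Nat.card H₂ ∣ Nat.card H₁ * p ^ n1 := by rw [e1, ← e2]; exact dvd_mul_right _ _
    exact (Nat.Coprime.pow_right n1 c2).dvd_of_dvd_mul_right this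

/-- transfer through a normal `p'`-subgroup -/
theorem hasDom_of_quotient_pPrime (N : Subgroup G) [N.Normal] (hN : (Nat.card N).Coprime p)
    (h : HasDom p (G ⧸ N)) : HasDom p G := by
  obtain ⟨Hb, ⟨hc, n, hn⟩, hdom⟩ := h
  refine ⟨Hb.comap (QuotientGroup.mk' N), ⟨?_, n, ?_⟩, ?_⟩
  · rw [card_comap_mk']
    exact Nat.Coprime.mul_left hN hc
  · rw [Subgroup.index_comap_of_surjective _ (QuotientGroup.mk'_surjective N), hn]
  · intro U hU
    have hUb : (Nat.card (U.map (QuotientGroup.mk' N))).Coprime p :=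
      Nat.Coprime.coprime_dvd_left (Subgroup.card_map_dvd U _) hU
    obtain ⟨gb, hgb⟩ := hdom _ hUb
    obtain ⟨g, rfl⟩ := QuotientGroup.mk'_surjective N gb
    refine ⟨g, ?_⟩
    intro u hu
    rw [mem_cj]
    have h1 : (QuotientGroup.mk' N) u ∈ cj ((QuotientGroup.mk' N) g) Hb :=
      hgb ⟨u, hu, rfl⟩
    rw [mem_cj] at h1
    show (QuotientGroup.mk' N) (g⁻¹ * u * g) ∈ Hb
    simpa using h1

end transfer


section transfer2
variable {G : Type u} [Group G] [Finite G] {p : ℕ} [hp : Fact p.Prime]

/-- internal Schur–Zassenhaus existence: a complement to `N` inside `K`. -/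
theorem exists_internal_complement (N K : Subgroup G) [N.Normal] (hNK : N ≤ K)
    (hcop : (Nat.card N).Coprime (N.relIndex K)) :
    ∃ H : Subgroup G, H ≤ K ∧ N ⊓ H = ⊥ ∧ N ⊔ H = K ∧ Nat.card H = N.relIndex K ∧
      H.relIndex K = Nat.card N := by
  have hN'n : (N.subgroupOf K).Normal := inferInstance
  have hcN' : Nat.card (N.subgroupOf K) = Nat.card N :=
    Nat.card_congr (Subgroup.subgroupOfEquivOfLe hNK).toEquiv
  have hcop' : (Nat.card (N.subgroupOf K)).Coprime (N.subgroupOf K).index := by
    rw [hcN']; exact hcop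
  obtain ⟨H', hH'⟩ := Subgroup.exists_right_complement'_of_coprime hcop'
  refine ⟨H'.map K.subtype, Subgroup.map_subtype_le H', ?_, ?_, ?_, ?_⟩
  · rw [eq_bot_iff]
    rintro x ⟨hxN, y, hy, rfl⟩
    have : y ∈ N.subgroupOf K ⊓ H' := ⟨Subgroup.mem_subgroupOf.mpr hxN, hy⟩
    rw [hH'.disjoint.eq_bot, Subgroup.mem_bot] at this
    rw [Subgroup.mem_bot, this]; rfl
  · have h1 := congrArg (Subgroup.map K.subtype) hH'.sup_eq_top
    rw [Subgroup.map_sup, Subgroup.map_subgroupOf_eq_of_le hNK, ← MonoidHom.range_eq_map,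
      Subgroup.range_subtype] at h1
    exact h1
  · have h1 : Nat.card (H'.map K.subtype) = Nat.card H' :=
      Nat.card_congr (H'.equivMapOfInjective _ K.subtype_injective).symm.toEquiv
    rw [h1, Subgroup.relIndex, hH'.symm.index_eq_card]
  · have : (H'.map K.subtype).subgroupOf K = H' :=
      Subgroup.comap_map_eq_self_of_injective K.subtype_injective H'
    rw [Subgroup.relIndex, this, hH'.index_eq_card, hcN']

/-- transfer through a normal `p`-subgroup -/
theorem hasDom_of_quotient_pGroup (N : Subgroup G) [N.Normal] (hN : IsPGroup p N)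
    (h : HasDom p (G ⧸ N)) : HasDom p G := by
  obtain ⟨Hb, ⟨hc, n, hn⟩, hdom⟩ := h
  set K := Hb.comap (QuotientGroup.mk' N) with hK
  have hNK : N ≤ K := by
    intro x hx
    show (QuotientGroup.mk' N) x ∈ Hb
    rw [QuotientGroup.mk'_apply, (QuotientGroup.eq_one_iff x).mpr hx]
    exact one_mem _
  obtain ⟨a, ha⟩ := IsPGroup.iff_card.mp hN
  have hcardK : Nat.card K = Nat.card N * Nat.card Hb := card_comap_mk' N Hb
  have hrel : N.relIndex K = Nat.card Hb := by
    have h1 : (⊥ : Subgroup G).relIndex N * N.relIndex K = (⊥ : Subgroup G).relIndex K :=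
      Subgroup.relIndex_mul_relIndex _ _ _ bot_le hNK
    rw [Subgroup.relIndex_bot_left, Subgroup.relIndex_bot_left, hcardK] at h1
    exact Nat.eq_of_mul_eq_mul_left Nat.card_pos h1
  have hcopN : ∀ m : ℕ, m.Coprime p → (Nat.card N).Coprime m := by
    intro m hm
    rw [ha]
    exact Nat.Coprime.pow_left a hm.symm
  obtain ⟨H, hHK, hNH, hNHK, hcardH, hHrel⟩ :=
    exists_internal_complement N K hNK (by rw [hrel]; exact hcopN _ hc)
  have hHcop : (Nat.card H).Coprime p := by rw [hcardH, hrel]; exact hc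
  refine ⟨H, ⟨hHcop, a + n, ?_⟩, ?_⟩
  · rw [← Subgroup.relIndex_mul_index hHK, hHrel, ha,
      Subgroup.index_comap_of_surjective _ (QuotientGroup.mk'_surjective N), hn, pow_add]
  · intro U hU
    have hUb : (Nat.card (U.map (QuotientGroup.mk' N))).Coprime p :=
      Nat.Coprime.coprime_dvd_left (Subgroup.card_map_dvd U _) hU
    obtain ⟨gb, hgb⟩ := hdom _ hUb
    obtain ⟨g, rfl⟩ := QuotientGroup.mk'_surjective N gb
    -- B = U conjugated back into K
    set B := cj g⁻¹ U with hB
    have hBK : B ≤ K := by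
      intro x hx
      rw [hB, mem_cj, inv_inv] at hx
      have h1 : (QuotientGroup.mk' N) (g * x * g⁻¹) ∈ cj ((QuotientGroup.mk' N) g) Hb :=
        hgb ⟨_, hx, rfl⟩
      rw [mem_cj] at h1
      show (QuotientGroup.mk' N) x ∈ Hb
      simpa [mul_assoc] using h1
    have hBcop : (Nat.card B).Coprime p := by rw [hB, card_cj]; exact hU
    set L := N ⊔ B with hL
    set A := H ⊓ L with hA
    have hNB : N ⊓ B = ⊥ := by
      rw [← disjoint_iff]
      exact Subgroup.disjoint_of_coprime_natCard (hcopN _ hBcop)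
    have hNA : N ⊓ A = ⊥ := by
      rw [eq_bot_iff, ← hNH]
      exact inf_le_inf_left _ inf_le_left
    have hLK : L ≤ K := sup_le hNK hBK
    have hNAL : N ⊔ A = L := by
      apply le_antisymm (sup_le le_sup_left inf_le_right)
      intro x hx
      have hxK : x ∈ N ⊔ H := by rw [hNHK]; exact hLK hx
      rw [Subgroup.mem_sup_of_normal_left] at hxK
      obtain ⟨y, hy, z, hz, rfl⟩ := hxK
      have hzL : z ∈ L := by
        have : y⁻¹ * (y * z) ∈ L := L.mul_mem (L.inv_mem ((le_sup_left : N ≤ L) hy)) hx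
        simpa using this
      exact Subgroup.mul_mem_sup hy ⟨hz, hzL⟩
    have hcardAB : Nat.card B = Nat.card A := by
      have e1 := card_sup_of_inf_eq_bot N B hNB
      have e2 := card_sup_of_inf_eq_bot N A hNA
      rw [← hL] at e1
      rw [hNAL, e1] at e2
      exact Nat.eq_of_mul_eq_mul_left Nat.card_pos e2
    have hAcop : (Nat.card N).Coprime (Nat.card A) := by
      rw [← hcardAB]; exact hcopN _ hBcop
    obtain ⟨x, _, hx⟩ := Cfsg.Agent.Helper24.sz_conj_internal N A B
      (Subgroup.le_normalizer_of_normal)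
      (have := hN.isNilpotent; inferInstance) hAcop hcardAB
      (by rw [hNAL]; exact le_sup_right)
    refine ⟨g * x, ?_⟩
    rw [← cj_cj, le_cj_iff, ← hB, hx]
    exact cj_mono inf_le_left

end transfer2

section main
variable {p : ℕ} [hp : Fact p.Prime]

theorem hasDom_of_chain : ∀ (n : ℕ) (G : Type u) [Group G] [Finite G]
    (H : Fin (n + 1) → Subgroup G),
    H 0 = ⊥ → H (Fin.last n) = ⊤ → Monotone H → (∀ i, (H i).Normal) →
    (∀ i : Fin n, (∃ m : ℕ, (H i.castSucc).relIndex (H i.succ) = p ^ m) ∨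
      ((H i.castSucc).relIndex (H i.succ)).Coprime p) → HasDom p G := by
  intro n
  induction n with
  | zero =>
    intro G _ _ H h0 hlast _ _ _
    have hbt : (⊥ : Subgroup G) = ⊤ := by rw [← h0, ← hlast]; rfl
    refine ⟨⊤, ⟨?_, 0, ?_⟩, ?_⟩
    · rw [← hbt, Subgroup.card_bot]; exact Nat.coprime_one_left p
    · simp
    · intro U _; exact ⟨1, by rw [cj_one]; exact le_top⟩
  | succ n ih =>
    intro G _ _ H h0 hlast hmono hnorm hfac
    have hNn : (H 1).Normal := hnorm 1
    -- quotient chain
    let H' : Fin (n + 1) → Subgroup (G ⧸ H 1) := fun i => (H i.succ).map (QuotientGroup.mk' (H 1))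
    have h1le : ∀ i : Fin (n + 1), H 1 ≤ H i.succ := by
      intro i
      apply hmono
      rw [← Fin.succ_zero_eq_one]
      exact Fin.succ_le_succ_iff.mpr (Fin.zero_le i)
    have hq : HasDom p (G ⧸ H 1) := by
      apply ih (G ⧸ H 1) H'
      · show (H (0 : Fin (n + 1)).succ).map (QuotientGroup.mk' (H 1)) = ⊥
        rw [Fin.succ_zero_eq_one, QuotientGroup.map_mk'_self]
      · show (H (Fin.last n).succ).map (QuotientGroup.mk' (H 1)) = ⊤
        rw [Fin.succ_last, hlast]
        exact Subgroup.map_top_of_surjective _ (QuotientGroup.mk'_surjective _)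
      · intro i j hij
        exact Subgroup.map_mono (hmono (Fin.succ_le_succ_iff.mpr hij))
      · intro i
        exact (hnorm i.succ).map _ (QuotientGroup.mk'_surjective _)
      · intro i
        have hf := hfac i.succ
        have e : (H' i.castSucc).relIndex (H' i.succ)
            = (H i.succ.castSucc).relIndex (H i.succ.succ) := by
          show ((H i.castSucc.succ).map (QuotientGroup.mk' (H 1))).relIndex
            ((H i.succ.succ).map (QuotientGroup.mk' (H 1))) = _
          rw [Subgroup.relIndex_map_map, QuotientGroup.ker_mk', Fin.succ_castSucc]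
          have e1 : H i.succ.castSucc ⊔ H 1 = H i.succ.castSucc := by
            apply sup_of_le_left
            rw [← Fin.succ_castSucc]
            exact h1le _
          have e2 : H i.succ.succ ⊔ H 1 = H i.succ.succ := sup_of_le_left (h1le _)
          rw [e1, e2]
        rw [e]
        exact hf
    -- first factor
    have hf0 := hfac 0
    rw [Fin.castSucc_zero, Fin.succ_zero_eq_one, h0, Subgroup.relIndex_bot_left] at hf0
    rcases hf0 with ⟨m, hm⟩ | hcop
    · exact hasDom_of_quotient_pGroup (H 1) (IsPGroup.of_card hm) hq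
    · exact hasDom_of_quotient_pPrime (H 1) hcop hq

end main

end Cfsg.Agent.Helper62
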