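import Mathlib
import Cfsg.Agent.Lib.Helper93.U20

/-!
# SLN project (S2332): definitions

Minimal degree `(q^n - q)/(q - 1)` of `SL_n(q)`, `n ≥ 3`.  We work in `SL (Unit ⊕ κ) F`
(`n = |κ| + 1`): the first basis vector is `Sum.inl ()`, the Levi complement acts on `κ`.
-/

set_option autoImplicit false

namespace Cfsg.Agent.Helper62.SLN

open Matrix Cfsg.Agent.Helper93.U2

/-- geometric sum `1 + q + ... + q^(n-1)` -/
def gs (q n : ℕ) : ℕ := ∑ i ∈ Finset.range n, q ^ i

section Defs

variable {F : Type*} [Field F] {κ : Type} [Fintype κ] [DecidableEq κ]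

/-- `x_u = [[1, uᵀ],[0, 1]]`: the elements of the unipotent radical `U` of the stabiliser of
the first basis vector (transvections with centre `e_1`). -/
def uEl (u : κ → F) : SpecialLinearGroup (Unit ⊕ κ) F :=
  ⟨fromBlocks 1 (replicateRow Unit u) 0 1, by
    rw [det_fromBlocks_zero₂₁]; simp⟩

theorem uEl_val (u : κ → F) :
    (uEl u : Matrix (Unit ⊕ κ) (Unit ⊕ κ) F) = fromBlocks 1 (replicateRow Unit u) 0 1 := rfl

/-- `diag(1, A)`, `A ∈ SL κ`: the Levi complement `L' ≅ SL_{n-1}`. -/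
def lEl (A : SpecialLinearGroup κ F) : SpecialLinearGroup (Unit ⊕ κ) F :=
  ⟨fromBlocks 1 0 0 A.1, by
    rw [det_fromBlocks_zero₂₁]; simp⟩

theorem lEl_val (A : SpecialLinearGroup κ F) :
    (lEl A : Matrix (Unit ⊕ κ) (Unit ⊕ κ) F) = fromBlocks 1 0 0 A.1 := rfl

/-- `diag(a, A)` with a proof of `a * det A = 1` -/
def dMk (a : F) (A : Matrix κ κ F) (h : a * A.det = 1) : SpecialLinearGroup (Unit ⊕ κ) F :=
  ⟨fromBlocks (a • (1 : Matrix Unit Unit F)) 0 0 A, by
    rw [det_fromBlocks_zero₂₁]; simpa using h⟩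

open Classical in
/-- `diag(a, A)` with `a * det A = 1`: the full Levi complement `L ≅ GL_{n-1}`
(junk value `1` if `a * det A ≠ 1`). -/
noncomputable def dEl (a : F) (A : Matrix κ κ F) : SpecialLinearGroup (Unit ⊕ κ) F :=
  if h : a * A.det = 1 then dMk a A h else 1

theorem dEl_val (a : F) (A : Matrix κ κ F) (h : a * A.det = 1) :
    (dEl a A : Matrix (Unit ⊕ κ) (Unit ⊕ κ) F) = fromBlocks (a • (1 : Matrix Unit Unit F)) 0 0 A := by
  unfold dEl
  rw [dif_pos h]
  rfl

/-- the transvection `1 + e_j tᵀ` of `SL κ` (the entry `t j` is ignored / replaced by `0`) -/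
def tvEl (j : κ) (t : κ → F) : SpecialLinearGroup κ F :=
  ⟨1 + vecMulVec (Pi.single j 1) (Function.update t j 0), by
    rw [vecMulVec_eq Unit, det_one_add_replicateCol_mul_replicateRow]
    simp [dotProduct, Pi.single_apply, Function.update_apply]⟩

theorem tvEl_val (j : κ) (t : κ → F) :
    (tvEl j t : Matrix κ κ F) = 1 + vecMulVec (Pi.single j 1) (Function.update t j 0) := rfl

/-- `q_t = diag(1, 1 + e_j tᵀ)`: the elements of `Q`, the unipotent radical of the stabiliser
of `e_j` inside `L'`. -/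
def qEl (j : κ) (t : κ → F) : SpecialLinearGroup (Unit ⊕ κ) F := lEl (tvEl j t)

/-- the column-type transvections `[[1, 0],[y, 1]]` -/
def cEl (y : κ → F) : SpecialLinearGroup (Unit ⊕ κ) F :=
  ⟨fromBlocks 1 0 (replicateCol Unit y) 1, by
    rw [det_fromBlocks_zero₁₂]; simp⟩

end Defs

section Rep

variable {G : Type*} [Group G] {V : Type*} [AddCommGroup V] [Module ℂ V]

/-- the space of vectors fixed by all elements of `S` -/
def fixSp (ρ : Representation ℂ G V) (S : Set G) : Submodule ℂ V where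
  carrier := {v | ∀ g ∈ S, ρ g v = v}
  zero_mem' := by
    intro g _
    rw [map_zero]
  add_mem' := by
    intro v w hv hw g hg
    rw [map_add, hv g hg, hw g hg]
  smul_mem' := by
    intro c v hv g hg
    rw [map_smul, hv g hg]

theorem mem_fixSp (ρ : Representation ℂ G V) (S : Set G) (v : V) :
    v ∈ fixSp ρ S ↔ ∀ g ∈ S, ρ g v = v := Iff.rfl

end Rep

section Wt

variable {F : Type*} [Field F] {κ : Type} [Fintype κ] [DecidableEq κ]
  {V : Type*} [AddCommGroup V] [Module ℂ V]

/-- the weight space of `U = {uEl u}` for the weight `w` (the character `u ↦ pr.β w u`) -/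
abbrev wt (pr : Pairing (κ → F)) (ρ : Representation ℂ (SpecialLinearGroup (Unit ⊕ κ) F) V)
    (w : κ → F) : Submodule ℂ V := wsp pr uEl ρ w

/-- `U_0 = {uEl u : u j = 0}` -/
def U0set (j : κ) : Set (SpecialLinearGroup (Unit ⊕ κ) F) := {g | ∃ u : κ → F, u j = 0 ∧ g = uEl u}

/-- `Q = {qEl j t}` -/
def Qset (j : κ) : Set (SpecialLinearGroup (Unit ⊕ κ) F) := Set.range (qEl (F := F) j)

end Wt

end Cfsg.Agent.Helper62.SLN
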