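import Mathlib

/-!
# Iterated commutators with the whole group (helper62)

* `three_subgroups_le` : three subgroups lemma modulo a normal subgroup.
* `ic K k = [K, G, ..., G]` (`k` copies of `G`).
* `commutator_lcs_le_ic` : `[K, γ_{n+1}(G)] ≤ [K, G; n+1]` for `K` normal.
* `le_of_le_commutator_sup` : in a nilpotent group, `K ≤ [K, G] L` with `L` normal forces `K ≤ L`.
* `ic_le_of_relIndex_le` : in a finite `p`-group, `|K : L| ≤ p ^ k` forces `[K, G; k] ≤ L`.
-/

set_option autoImplicit false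

namespace Cfsg.Agent.Helper62

open scoped commutatorElement

variable {G : Type*} [Group G]

theorem le_iff_map_mk'_eq_bot (T : Subgroup G) [T.Normal] (A : Subgroup G) :
    A ≤ T ↔ A.map (QuotientGroup.mk' T) = ⊥ := by
  rw [Subgroup.map_eq_bot_iff, QuotientGroup.ker_mk']

/-- Three subgroups lemma modulo a normal subgroup. -/
theorem three_subgroups_le {H₁ H₂ H₃ T : Subgroup G} [T.Normal] (h1 : ⁅⁅H₂, H₃⁆, H₁⁆ ≤ T)
    (h2 : ⁅⁅H₃, H₁⁆, H₂⁆ ≤ T) : ⁅⁅H₁, H₂⁆, H₃⁆ ≤ T := by
  rw [le_iff_map_mk'_eq_bot, Subgroup.map_commutator, Subgroup.map_commutator] at *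
  exact Subgroup.commutator_commutator_eq_bot_of_rotate h1 h2

/-- Iterated commutator `[K, G, ..., G]`. -/
def ic (K : Subgroup G) : ℕ → Subgroup G
  | 0 => K
  | k + 1 => ⁅ic K k, (⊤ : Subgroup G)⁆

@[simp] theorem ic_zero (K : Subgroup G) : ic K 0 = K := rfl

theorem ic_succ (K : Subgroup G) (k : ℕ) : ic K (k + 1) = ⁅ic K k, (⊤ : Subgroup G)⁆ := rfl

instance ic_normal (K : Subgroup G) [K.Normal] (k : ℕ) : (ic K k).Normal := by
  induction k with
  | zero => simpa using (inferInstance : K.Normal)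
  | succ k ih => rw [ic_succ]; infer_instance

theorem ic_succ' (K : Subgroup G) (k : ℕ) : ic K (k + 1) = ic ⁅K, (⊤ : Subgroup G)⁆ k := by
  induction k with
  | zero => rfl
  | succ k ih => rw [ic_succ, ih, ic_succ]

theorem ic_mono {K K' : Subgroup G} (h : K ≤ K') (k : ℕ) : ic K k ≤ ic K' k := by
  induction k with
  | zero => simpa using h
  | succ k ih => rw [ic_succ, ic_succ]; exact Subgroup.commutator_mono ih le_rfl

theorem ic_succ_le (K : Subgroup G) [K.Normal] (k : ℕ) : ic K (k + 1) ≤ ic K k := by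
  rw [ic_succ]; exact Subgroup.commutator_le_left _ _

theorem ic_le (K : Subgroup G) [K.Normal] (k : ℕ) : ic K k ≤ K := by
  induction k with
  | zero => simp
  | succ k ih => exact (ic_succ_le K k).trans ih

theorem ic_add (K : Subgroup G) (a b : ℕ) : ic K (a + b) = ic (ic K a) b := by
  induction b with
  | zero => rfl
  | succ b ih => rw [← add_assoc, ic_succ, ih, ic_succ]

/-- `[K, γ_{n+1}(G)] ≤ [K, G; n+1]` for normal `K`. -/
theorem commutator_lcs_le_ic (n : ℕ) : ∀ (K : Subgroup G) [K.Normal],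
    ⁅K, (⊤ : Subgroup G).lowerCentralSeries n⁆ ≤ ic K (n + 1) := by
  induction n with
  | zero => intro K _; rfl
  | succ n ih =>
    intro K _
    rw [Subgroup.lowerCentralSeries_succ, Subgroup.commutator_comm]
    -- ⁅⁅γ, ⊤⁆, K⁆ ≤ T
    apply three_subgroups_le
    · -- ⁅⁅⊤, K⁆, γ⁆ ≤ T
      rw [Subgroup.commutator_comm ⊤ K]
      have := ih ⁅K, (⊤ : Subgroup G)⁆
      rwa [← ic_succ'] at this
    · -- ⁅⁅K, γ⁆, ⊤⁆ ≤ T
      rw [ic_succ K (n + 1)]
      exact Subgroup.commutator_mono (ih K) le_rfl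

/-- In a nilpotent group, `K ≤ [K, G] L` with `L` normal forces `K ≤ L`. -/
theorem le_of_le_commutator_sup [hG : Group.IsNilpotent G] {K L : Subgroup G} [L.Normal]
    (h : K ≤ ⁅K, (⊤ : Subgroup G)⁆ ⊔ L) : K ≤ L := by
  rw [le_iff_map_mk'_eq_bot]
  set π := QuotientGroup.mk' L with hπ
  have hsurj : Function.Surjective π := QuotientGroup.mk'_surjective L
  have h1 : K.map π ≤ ⁅K.map π, (⊤ : Subgroup (G ⧸ L))⁆ := by
    have := Subgroup.map_mono (f := π) h
    rw [Subgroup.map_sup, Subgroup.map_commutator, Subgroup.map_top_of_surjective π hsurj] at this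
    have h2 : L.map π = ⊥ := (le_iff_map_mk'_eq_bot L L).1 le_rfl
    rwa [h2, sup_bot_eq] at this
  have h3 : ∀ m : ℕ, K.map π ≤ (⊤ : Subgroup (G ⧸ L)).lowerCentralSeries m := by
    intro m
    induction m with
    | zero => simp
    | succ m ih =>
      rw [Subgroup.lowerCentralSeries_succ]
      exact h1.trans (Subgroup.commutator_mono ih le_rfl)
  have hQ : Group.IsNilpotent (G ⧸ L) := inferInstance
  obtain ⟨m, hm⟩ := Subgroup.nilpotent_iff_lowerCentralSeries.1 hQ
  rw [eq_bot_iff, ← hm]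
  exact h3 m

/-- In a finite `p`-group, normal subgroups `L ≤ K` with `|K : L| ≤ p ^ k` satisfy
`[K, G; k] ≤ L`. -/
theorem ic_le_of_relIndex_le [Finite G] {p : ℕ} [hp : Fact p.Prime] (hG : IsPGroup p G) (k : ℕ) :
    ∀ (K L : Subgroup G) [K.Normal] [L.Normal], L ≤ K → L.relIndex K ≤ p ^ k → ic K k ≤ L := by
  have hnil : Group.IsNilpotent G := hG.isNilpotent
  induction k with
  | zero =>
    intro K L _ _ hLK hrel
    have h1 : L.relIndex K = 1 := by
      have : L.IsFiniteRelIndex K := Subgroup.isFiniteRelIndex_of_finiteIndex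
      have hpos : 0 < L.relIndex K := Nat.pos_of_ne_zero Subgroup.relIndex_ne_zero
      simp at hrel
      omega
    simpa using Subgroup.relIndex_eq_one.1 h1
  | succ k ih =>
    intro K L _ _ hLK hrel
    by_cases hKL : K ≤ L
    · exact (ic_le K (k + 1)).trans hKL
    · set K₁ := ⁅K, (⊤ : Subgroup G)⁆ ⊔ L with hK₁
      have hK₁K : K₁ ≤ K := sup_le (Subgroup.commutator_le_left _ _) hLK
      have hLK₁ : L ≤ K₁ := le_sup_right
      have hne : ¬ K ≤ K₁ := fun h => hKL (le_of_le_commutator_sup h)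
      have hmul : L.relIndex K₁ * K₁.relIndex K = L.relIndex K :=
        Subgroup.relIndex_mul_relIndex L K₁ K hLK₁ hK₁K
      have hpow : ∃ n, K₁.relIndex K = p ^ n := by
        have := (hG.to_subgroup K).index (K₁.subgroupOf K)
        simpa [Subgroup.relIndex] using this
      obtain ⟨n, hn⟩ := hpow
      have hn0 : n ≠ 0 := by
        intro h0
        rw [h0, pow_zero] at hn
        exact hne (Subgroup.relIndex_eq_one.1 hn)
      have hge : p ≤ K₁.relIndex K := by
        rw [hn]
        calc p = p ^ 1 := (pow_one p).symm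
          _ ≤ p ^ n := Nat.pow_le_pow_right hp.out.pos (Nat.one_le_iff_ne_zero.2 hn0)
      have hrel₁ : L.relIndex K₁ ≤ p ^ k := by
        have h1 : L.relIndex K₁ * p ≤ p ^ k * p := by
          calc L.relIndex K₁ * p ≤ L.relIndex K₁ * K₁.relIndex K := Nat.mul_le_mul_left _ hge
            _ = L.relIndex K := hmul
            _ ≤ p ^ (k + 1) := hrel
            _ = p ^ k * p := pow_succ p k
        exact Nat.le_of_mul_le_mul_right h1 hp.out.pos
      have h2 : ic K₁ k ≤ L := ih K₁ L hLK₁ hrel₁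
      rw [ic_succ']
      exact (ic_mono le_sup_left k).trans h2

end Cfsg.Agent.Helper62
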