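import Mathlib
import Cfsg.Prelude.Def_Classical
import Cfsg.Agent.Lib.Helper40.LangOrth
import Cfsg.Agent.Lib.Helper44.QFStd
import Cfsg.Agent.Lib.Helper43.OrthMinus
import Cfsg.Agent.Lib.Helper43.OrthPlus
import Cfsg.Agent.Lib.Helper43.OrthCard

/-!
# OMF (L): Lang's theorem for the minus-type form, by descent (all characteristics)

`G` a similarity of `quadFormMinus m F a b` with `N_σ(G) = 1` (where `σ` fixes `a, b`): then
`G σ(H) = H` for an invertible similarity `H`.
-/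

set_option autoImplicit false
set_option linter.unusedSectionVars false
set_option linter.unusedVariables false

namespace Cfsg.Agent.Helper62.OMF

open Matrix QuadraticMap Cfsg.Agent.Helper40.LangO Cfsg.Agent.Helper40.H90
  Cfsg.Agent.Helper40.AutPSLNorm Cfsg.Agent.Helper40.FixK Cfsg.Agent.Helper44.QF

section Descent

variable {F : Type*} [Field F]

/-- coordinatewise inclusion of `K ^ κ` into `F ^ κ` -/
def emb (K : Subfield F) {κ : Type*} (z : κ → K) : κ → F := fun i => (z i : F)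

theorem emb_add (K : Subfield F) {κ : Type*} (x y : κ → K) :
    emb K (x + y) = emb K x + emb K y := by
  funext i
  simp [emb]

theorem emb_smul (K : Subfield F) {κ : Type*} (c : K) (x : κ → K) :
    emb K (c • x) = (c : F) • emb K x := by
  funext i
  simp [emb]

theorem emb_single (K : Subfield F) {κ : Type*} [DecidableEq κ] (i : κ) :
    emb K (Pi.single i (1 : K)) = Pi.single i (1 : F) := by
  funext j
  by_cases h : j = i
  · subst h; simp [emb]
  · simp [emb, h]

theorem emb_eq_zero (K : Subfield F) {κ : Type*} (x : κ → K) (h : emb K x = 0) : x = 0 := by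
  funext i
  have := congrFun h i
  exact Subtype.ext this

theorem map_mulVec_emb (K : Subfield F) {κ κ' : Type*} [Fintype κ] (A : Matrix κ' κ K)
    (w : κ → K) : (A.map K.subtype) *ᵥ emb K w = emb K (A *ᵥ w) := by
  funext i
  simp only [Matrix.mulVec, dotProduct, Matrix.map_apply, emb]
  rw [show ((∑ j, A i j * w j : K) : F) = K.subtype (∑ j, A i j * w j) from rfl, map_sum]
  rfl

/-- descent of a quadratic form whose values on `K`-rational vectors lie in `K` -/
theorem exists_descent (K : Subfield F) {κ : Type*} (Q' : QuadraticForm F (κ → F))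
    (h : ∀ z : κ → K, Q' (emb K z) ∈ K) :
    ∃ Q0 : QuadraticForm K (κ → K), ∀ z, ((Q0 z : K) : F) = Q' (emb K z) := by
  have hpol : ∀ x y : κ → K,
      ((polar (fun z : κ → K => (⟨Q' (emb K z), h z⟩ : K)) x y : K) : F) =
        polar Q' (emb K x) (emb K y) := by
    intro x y
    simp only [polar, emb_add]
    rfl
  refine ⟨QuadraticMap.ofPolar (fun z => (⟨Q' (emb K z), h z⟩ : K)) ?_ ?_ ?_, fun z => rfl⟩
  · intro c x
    apply Subtype.ext
    show Q' (emb K (c • x)) = ((c * c : K) : F) * Q' (emb K x)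
    rw [emb_smul, QuadraticMap.map_smul]
    rfl
  · intro x x' y
    apply Subtype.ext
    rw [hpol, emb_add, polar_add_left]
    show _ = ((polar (fun z : κ → K => (⟨Q' (emb K z), h z⟩ : K)) x y : K) : F) +
      ((polar (fun z : κ → K => (⟨Q' (emb K z), h z⟩ : K)) x' y : K) : F)
    rw [hpol, hpol]
  · intro c x y
    apply Subtype.ext
    rw [hpol, emb_smul, polar_smul_left]
    show _ = (c : F) * ((polar (fun z : κ → K => (⟨Q' (emb K z), h z⟩ : K)) x y : K) : F)
    rw [hpol]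
    rfl

/-- two quadratic forms over `F` agreeing on the `K`-rational vectors are equal -/
theorem ext_of_emb (K : Subfield F) {κ : Type*} [Fintype κ] [DecidableEq κ]
    (Q₁ Q₂ : QuadraticForm F (κ → F)) (h : ∀ z : κ → K, Q₁ (emb K z) = Q₂ (emb K z)) :
    Q₁ = Q₂ := by
  apply Cfsg.Agent.Helper43.quadraticForm_ext_of_span Q₁ Q₂
    (fun i : κ => (Pi.single i (1 : F) : κ → F))
  · have : (fun i : κ => (Pi.single i (1 : F) : κ → F)) = ⇑(Pi.basisFun F κ) := by
      funext i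
      simp
    rw [this]
    exact Module.Basis.span_eq _
  · intro i
    rw [← emb_single K i]
    exact h _
  · intro i j
    simp only [polar]
    rw [← emb_single K i, ← emb_single K j, ← emb_add, h, h, h]

end Descent

section Types

variable {F : Type*} [Field F] [Fintype F]

theorem hasType_smul {V : Type*} (Q : V → F) (c : F) (hc : c ≠ 0) (k : ℕ) (ε : ℤ)
    (h : HasType Q k ε) : HasType (fun v => c * Q v) k ε := by
  intro t
  have hrep : rep (fun v => c * Q v) t = rep Q (c⁻¹ * t) := by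
    unfold rep
    apply Nat.card_congr
    refine Equiv.subtypeEquivRight (fun v => ?_)
    constructor
    · intro hv
      have hv' : c * Q v = t := hv
      rw [← hv', ← mul_assoc, inv_mul_cancel₀ hc, one_mul]
    · intro hv
      show c * Q v = t
      rw [hv, ← mul_assoc, mul_inv_cancel₀ hc, one_mul]
  rw [hrep, h (c⁻¹ * t)]
  by_cases ht : t = 0
  · rw [if_pos ht, if_pos (by rw [ht, mul_zero])]
  · rw [if_neg ht, if_neg (mul_ne_zero (inv_ne_zero hc) ht)]

end Types

section Main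

variable {F : Type*} [Field F]

theorem sigma_mulVec (σ : F ≃+* F) {κ κ' : Type*} [Fintype κ] (A : Matrix κ' κ F) (v : κ → F) :
    (A.map σ) *ᵥ (fun j => σ (v j)) = fun i => σ ((A *ᵥ v) i) := by
  funext i
  simp only [Matrix.mulVec, dotProduct, Matrix.map_apply, map_sum, map_mul]

theorem minus_sigma (m : ℕ) (a b : F) (σ : F ≃+* F) (ha : σ a = a) (hb : σ b = b)
    (v : (Fin m ⊕ Fin m) ⊕ Fin 2 → F) :
    Cfsg.quadFormMinus m F a b (fun i => σ (v i)) = σ (Cfsg.quadFormMinus m F a b v) := by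
  unfold Cfsg.quadFormMinus
  simp only [map_add, map_pow, map_sum, map_mul, ha, hb]

theorem mult_nrmQ (m : ℕ) (a b : F) (σ : F ≃+* F) (ha : σ a = a) (hb : σ b = b)
    (G : Matrix ((Fin m ⊕ Fin m) ⊕ Fin 2) ((Fin m ⊕ Fin m) ⊕ Fin 2) F) (μ : Fˣ)
    (hG : ∀ v, Cfsg.quadFormMinus m F a b (G *ᵥ v) = (μ : F) * Cfsg.quadFormMinus m F a b v)
    (k : ℕ) : ∀ v, Cfsg.quadFormMinus m F a b (nrmI σ G k *ᵥ v) =
      ((nrmU σ μ k : Fˣ) : F) * Cfsg.quadFormMinus m F a b v := by
  induction k with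
  | zero =>
    intro v
    show Cfsg.quadFormMinus m F a b ((1 : Matrix _ _ F) *ᵥ v) = ((1 : Fˣ) : F) * _
    rw [Matrix.one_mulVec, Units.val_one, one_mul]
  | succ k ih =>
    intro v
    show Cfsg.quadFormMinus m F a b ((G * smI σ (nrmI σ G k)) *ᵥ v) =
      ((μ * Units.map (σ : F →* F) (nrmU σ μ k) : Fˣ) : F) * Cfsg.quadFormMinus m F a b v
    rw [← Matrix.mulVec_mulVec, hG]
    have hv : v = fun i => σ (σ.symm (v i)) := by
      funext i
      simp
    have h1 : smI σ (nrmI σ G k) *ᵥ v =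
        fun i => σ ((nrmI σ G k *ᵥ (fun j => σ.symm (v j))) i) := by
      conv_lhs => rw [hv]
      exact sigma_mulVec σ _ _
    rw [h1, minus_sigma m a b σ ha hb, ih, map_mul, ← minus_sigma m a b σ ha hb, ← hv,
      Units.val_mul, mul_assoc]
    rfl

end Main

theorem lang_minus {F : Type*} [Field F] [Fintype F] (m : ℕ) (a b : F)
    (hab : ∀ z₁ z₂ : F, z₁ ^ 2 + a * z₁ * z₂ + b * z₂ ^ 2 = 0 → z₁ = 0 ∧ z₂ = 0)
    (σ : F ≃+* F) (ha : σ a = a) (hb : σ b = b) {r : ℕ} (hr : 0 < r) (hσ : orderOf σ = r)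
    (G : Matrix ((Fin m ⊕ Fin m) ⊕ Fin 2) ((Fin m ⊕ Fin m) ⊕ Fin 2) F) (μ : Fˣ)
    (hG : ∀ v, Cfsg.quadFormMinus m F a b (G *ᵥ v) = (μ : F) * Cfsg.quadFormMinus m F a b v)
    (hN : nrmI σ G r = 1) :
    ∃ H H' : Matrix ((Fin m ⊕ Fin m) ⊕ Fin 2) ((Fin m ⊕ Fin m) ⊕ Fin 2) F,
      H * H' = 1 ∧ H' * H = 1 ∧ G * smI σ H = H ∧
      ∃ ν : Fˣ, ∀ v, Cfsg.quadFormMinus m F a b (H *ᵥ v) =
        (ν : F) * Cfsg.quadFormMinus m F a b v := by
  classical
  set Q := Cfsg.Agent.Helper43.stdMinus F m a b with hQdef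
  have hQ : ∀ v, Q v = Cfsg.quadFormMinus m F a b v := Cfsg.Agent.Helper43.stdMinus_apply F m a b
  -- the multiplier has norm one
  have hNμ : nrmU σ μ r = 1 := by
    have h1 := mult_nrmQ m a b σ ha hb G μ hG r (Pi.single (Sum.inr 0) 1)
    rw [hN, Matrix.one_mulVec] at h1
    have h2 : Cfsg.quadFormMinus m F a b (Pi.single (Sum.inr 0) 1) = 1 := by
      unfold Cfsg.quadFormMinus
      simp
    rw [h2, mul_one] at h1
    exact Units.ext h1.symm
  obtain ⟨ν, hν⟩ := h90_units σ hr hσ μ hNμ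
  have hν' : σ (ν : F) * (μ : F) = (ν : F) := by
    rw [hν, Units.val_mul]
    have h6 : ((Units.map (σ : F →* F) ν : Fˣ) : F) = σ (ν : F) := rfl
    rw [← h6, mul_comm (ν : F), ← mul_assoc, ← Units.val_mul, mul_inv_cancel, Units.val_one,
      one_mul]
  obtain ⟨H₁, H₁', hH1, hH2, hH3⟩ := hilbert90_I σ G hr hσ hN
  have hν0 : (ν : F) ≠ 0 := ν.ne_zero
  set c : F := (ν : F)⁻¹ with hc
  have hc0 : c ≠ 0 := inv_ne_zero hν0
  have hcσ : σ c = c * (μ : F) := by
    rw [hc, map_inv₀]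
    have h1 : σ (ν : F) ≠ 0 := by rw [Ne, map_eq_zero_iff σ σ.injective]; exact hν0
    field_simp
    exact hν'.symm
  -- the twisted form
  let Q₁ : QuadraticForm F ((Fin m ⊕ Fin m) ⊕ Fin 2 → F) := c • Q.comp (Matrix.toLin' H₁)
  have hQ₁ : ∀ z, Q₁ z = c * Cfsg.quadFormMinus m F a b (H₁ *ᵥ z) := by
    intro z
    show c • Q (Matrix.toLin' H₁ z) = _
    rw [Matrix.toLin'_apply, hQ, smul_eq_mul]
  have hQ₁σ : ∀ z : (Fin m ⊕ Fin m) ⊕ Fin 2 → F, Q₁ (fun i => σ (z i)) = σ (Q₁ z) := by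
    intro z
    rw [hQ₁, hQ₁, map_mul, hcσ]
    conv_lhs => rw [← hH3]
    rw [← Matrix.mulVec_mulVec, hG]
    have : smI σ H₁ *ᵥ (fun i => σ (z i)) = fun i => σ ((H₁ *ᵥ z) i) := sigma_mulVec σ H₁ z
    rw [this, minus_sigma m a b σ ha hb]
    ring
  let K := fixK σ
  have hK : ∀ z : (Fin m ⊕ Fin m) ⊕ Fin 2 → K, Q₁ (emb K z) ∈ K := by
    intro z
    show σ (Q₁ (emb K z)) = Q₁ (emb K z)
    rw [← hQ₁σ]
    congr 1
    funext i
    exact (z i).2
  obtain ⟨Q0, hQ0⟩ := exists_descent K Q₁ hK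
  -- polar of Q₁
  have hpolQ₁ : ∀ u w, polar Q₁ u w = c * polar Q (H₁ *ᵥ u) (H₁ *ᵥ w) := by
    intro u w
    simp only [polar, hQ₁, hQ, Matrix.mulVec_add]
    ring
  have hQnd := (Cfsg.Agent.Helper43.stdMinus_nondegenerate m hab).1
  have hQ₁nd : ∀ u, (∀ w, polar Q₁ u w = 0) → u = 0 := by
    intro u hu
    have h1 : H₁ *ᵥ u = 0 := by
      apply hQnd
      intro w'
      have h2 := hu (H₁' *ᵥ w')
      rw [hpolQ₁, Matrix.mulVec_mulVec, hH1, Matrix.one_mulVec] at h2
      rw [polarBilin_apply_apply]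
      exact (mul_eq_zero.mp h2).resolve_left hc0
    have h3 : H₁' *ᵥ (H₁ *ᵥ u) = u := by rw [Matrix.mulVec_mulVec, hH2, Matrix.one_mulVec]
    rw [← h3, h1, Matrix.mulVec_zero]
  have hpol0 : ∀ x y, ((polar Q0 x y : K) : F) = polar Q₁ (emb K x) (emb K y) := by
    intro x y
    show ((Q0 (x + y) - Q0 x - Q0 y : K) : F) =
      Q₁ (emb K x + emb K y) - Q₁ (emb K x) - Q₁ (emb K y)
    rw [← emb_add, ← hQ0, ← hQ0, ← hQ0]
    rfl
  have hnd : ∀ x, (∀ y, polar Q0 x y = 0) → x = 0 := by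
    intro x hx
    apply emb_eq_zero K
    apply hQ₁nd
    have hlin : polarBilin Q₁ (emb K x) = 0 := by
      apply (Pi.basisFun F ((Fin m ⊕ Fin m) ⊕ Fin 2)).ext
      intro i
      rw [Pi.basisFun_apply, ← emb_single K i, polarBilin_apply_apply, ← hpol0, hx]
      rfl
    intro w
    have := LinearMap.congr_fun hlin w
    rwa [polarBilin_apply_apply] at this
  have hFK : Fintype K := Fintype.ofFinite _
  have hcard : Module.finrank K ((Fin m ⊕ Fin m) ⊕ Fin 2 → K) = 2 * m + 2 := by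
    rw [Module.finrank_fintype_fun_eq_card, Fintype.card_sum, Fintype.card_sum, Fintype.card_fin,
      Fintype.card_fin]
    ring
  rcases witt_cases Q0 hnd with ⟨k, hk, e, he⟩ | ⟨k, hk, hmin⟩ | ⟨k, hk, -⟩
  · -- plus case: impossible
    exfalso
    have hkm : k = m + 1 := by omega
    subst hkm
    let T0 : Matrix ((Fin m ⊕ Fin m) ⊕ Fin 2) (Fin (m + 1) ⊕ Fin (m + 1)) K :=
      LinearMap.toMatrix' e.symm.toLinearMap
    let S0 : Matrix (Fin (m + 1) ⊕ Fin (m + 1)) ((Fin m ⊕ Fin m) ⊕ Fin 2) K :=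
      LinearMap.toMatrix' e.toLinearMap
    have hTS0 : T0 * S0 = 1 := by
      rw [← LinearMap.toMatrix'_comp]
      simp
    have hST0 : S0 * T0 = 1 := by
      rw [← LinearMap.toMatrix'_comp]
      simp
    set T := T0.map K.subtype with hT
    set S := S0.map K.subtype with hS
    have hTS : T * S = 1 := by
      rw [hT, hS, ← Matrix.map_mul, hTS0, Matrix.map_one _ (map_zero _) (map_one _)]
    have hST : S * T = 1 := by
      rw [hT, hS, ← Matrix.map_mul, hST0, Matrix.map_one _ (map_zero _) (map_one _)]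
    have hkey : Q₁.comp (Matrix.toLin' T) = Cfsg.Agent.Helper43.stdPlus F (m + 1) := by
      apply ext_of_emb K
      intro w
      show Q₁ (Matrix.toLin' T (emb K w)) = Cfsg.quadFormPlus (m + 1) F (emb K w)
      rw [Matrix.toLin'_apply, hT, map_mulVec_emb, LinearMap.toMatrix'_mulVec, ← hQ0]
      have h1 : Q0 (e.symm w) = Cfsg.quadFormPlus (m + 1) K w := by
        rw [← he, LinearEquiv.apply_symm_apply]
      show ((Q0 (e.symm w) : K) : F) = _
      rw [h1]
      unfold Cfsg.quadFormPlus emb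
      push_cast
      rfl
    let E : (Fin (m + 1) ⊕ Fin (m + 1) → F) ≃ ((Fin m ⊕ Fin m) ⊕ Fin 2 → F) :=
      { toFun := fun w => T *ᵥ w
        invFun := fun z => S *ᵥ z
        left_inv := fun w => by
          show S *ᵥ (T *ᵥ w) = w
          rw [Matrix.mulVec_mulVec, hST, Matrix.one_mulVec]
        right_inv := fun z => by
          show T *ᵥ (S *ᵥ z) = z
          rw [Matrix.mulVec_mulVec, hTS, Matrix.one_mulVec] }
    have hT1 : HasType (⇑Q₁) (m + 1) 1 := by
      refine hasType_congr (Cfsg.quadFormPlus (m + 1) F) (⇑Q₁) E (fun w => ?_) (m + 1) 1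
        (hasType_plus (m + 1))
      have := congrArg (fun q => q w) hkey
      simp only [QuadraticMap.comp_apply, Matrix.toLin'_apply] at this
      show Q₁ (T *ᵥ w) = Cfsg.quadFormPlus (m + 1) F w
      exact this
    let E₂ : ((Fin m ⊕ Fin m) ⊕ Fin 2 → F) ≃ ((Fin m ⊕ Fin m) ⊕ Fin 2 → F) :=
      { toFun := fun z => H₁' *ᵥ z
        invFun := fun z => H₁ *ᵥ z
        left_inv := fun w => by
          show H₁ *ᵥ (H₁' *ᵥ w) = w
          rw [Matrix.mulVec_mulVec, hH1, Matrix.one_mulVec]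
        right_inv := fun z => by
          show H₁' *ᵥ (H₁ *ᵥ z) = z
          rw [Matrix.mulVec_mulVec, hH2, Matrix.one_mulVec] }
    have hT2 : HasType (⇑Q₁) (m + 1) (-1) := by
      have h0 := hasType_minus m a b hab
      have h1 := hasType_congr (Cfsg.quadFormMinus m F a b)
        (fun z => Cfsg.quadFormMinus m F a b (H₁ *ᵥ z)) E₂ (fun v => by
          show Cfsg.quadFormMinus m F a b (H₁ *ᵥ (H₁' *ᵥ v)) = _
          rw [Matrix.mulVec_mulVec, hH1, Matrix.one_mulVec]) (m + 1) (-1) h0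
      have h2 := hasType_smul _ c hc0 _ _ h1
      have h3 : (⇑Q₁ : ((Fin m ⊕ Fin m) ⊕ Fin 2 → F) → F) =
          fun z => c * Cfsg.quadFormMinus m F a b (H₁ *ᵥ z) := funext hQ₁
      rw [h3]
      exact h2
    exact hasType_unique (⇑Q₁) (m + 1) hT1 hT2
  · -- minus case
    have hkm : k = m := by omega
    subst hkm
    have haK : a ∈ K := ha
    have hbK : b ∈ K := hb
    obtain ⟨e, he⟩ := hmin ⟨a, haK⟩ ⟨b, hbK⟩ (by
      intro z₁ z₂ hz
      have h1 := congrArg (Subtype.val : K → F) hz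
      have h2 := hab (z₁ : F) (z₂ : F) (by
        have : ((z₁ ^ 2 + (⟨a, haK⟩ : K) * z₁ * z₂ + (⟨b, hbK⟩ : K) * z₂ ^ 2 : K) : F) =
          (z₁ : F) ^ 2 + a * z₁ * z₂ + b * (z₂ : F) ^ 2 := by push_cast; rfl
        rw [← this]
        exact h1)
      exact ⟨Subtype.ext h2.1, Subtype.ext h2.2⟩)
    let P0 : Matrix ((Fin k ⊕ Fin k) ⊕ Fin 2) ((Fin k ⊕ Fin k) ⊕ Fin 2) K :=
      LinearMap.toMatrix' e.symm.toLinearMap
    let P0' : Matrix ((Fin k ⊕ Fin k) ⊕ Fin 2) ((Fin k ⊕ Fin k) ⊕ Fin 2) K :=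
      LinearMap.toMatrix' e.toLinearMap
    have hPP0 : P0 * P0' = 1 := by
      rw [← LinearMap.toMatrix'_comp]
      simp
    have hPP0' : P0' * P0 = 1 := by
      rw [← LinearMap.toMatrix'_comp]
      simp
    set P := P0.map K.subtype with hP
    set P' := P0'.map K.subtype with hP'
    have hPP : P * P' = 1 := by
      rw [hP, hP', ← Matrix.map_mul, hPP0, Matrix.map_one _ (map_zero _) (map_one _)]
    have hPP' : P' * P = 1 := by
      rw [hP, hP', ← Matrix.map_mul, hPP0', Matrix.map_one _ (map_zero _) (map_one _)]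
    have hPσ : smI σ P = P := by
      ext i j
      exact (P0 i j).2
    have hkey : Q₁.comp (Matrix.toLin' P) = Q := by
      apply ext_of_emb K
      intro w
      show Q₁ (Matrix.toLin' P (emb K w)) = Q (emb K w)
      rw [Matrix.toLin'_apply, hP, map_mulVec_emb, LinearMap.toMatrix'_mulVec, ← hQ0, hQ]
      have h1 : Q0 (e.symm w) = Cfsg.quadFormMinus k K ⟨a, haK⟩ ⟨b, hbK⟩ w := by
        rw [← he, LinearEquiv.apply_symm_apply]
      show ((Q0 (e.symm w) : K) : F) = _
      rw [h1]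
      unfold Cfsg.quadFormMinus emb
      push_cast
      rfl
    refine ⟨H₁ * P, P' * H₁', ?_, ?_, ?_, ν, ?_⟩
    · rw [Matrix.mul_assoc, ← Matrix.mul_assoc P, hPP, Matrix.one_mul, hH1]
    · rw [Matrix.mul_assoc, ← Matrix.mul_assoc H₁', hH2, Matrix.one_mul, hPP']
    · rw [smI_mul, hPσ, ← Matrix.mul_assoc, hH3]
    · intro v
      have h1 := congrArg (fun q => q v) hkey
      simp only [QuadraticMap.comp_apply] at h1
      rw [Matrix.toLin'_apply, hQ₁, hQ, Matrix.mulVec_mulVec] at h1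
      rw [← h1, ← mul_assoc, hc, mul_inv_cancel₀ hν0, one_mul]
  · omega

end Cfsg.Agent.Helper62.OMF
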