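import Mathlib
import Cfsg.Agent.Lib.Helper14.SPIDefs

/-!
# SPI (COARSE) for helper14's server (S5961): coarsening an orthogonal family along a map
`g : K → Fin t`.
-/

set_option autoImplicit false
set_option linter.unusedVariables false

namespace Cfsg.Agent.Helper62.SPI

open Module Polynomial Cfsg.Agent.Helper14.SPI

/-- the dimension of a finite supremum of an independent family is the sum of the dimensions -/
theorem h62_finrank_biSup {F V : Type*} [Field F] [AddCommGroup V] [Module F V]
    [FiniteDimensional F V] {K : Type*} (W : K → Submodule F V) (hind : iSupIndep W)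
    (s : Finset K) : finrank F ↥(⨆ k ∈ s, W k) = ∑ k ∈ s, finrank F (W k) := by
  classical
  induction s using Finset.induction_on with
  | empty => simp
  | insert k s₀ hk ih =>
    rw [Finset.iSup_insert, Finset.sum_insert hk, ← ih]
    have hdisj : Disjoint (W k) (⨆ i ∈ s₀, W i) := by
      have h := hind.disjoint_biSup (x := k) (y := (↑s₀ : Set K)) (by simpa using hk)
      simpa using h
    have h := Submodule.finrank_sup_add_finrank_inf_eq (W k) (⨆ i ∈ s₀, W i)
    rw [disjoint_iff.mp hdisj, finrank_bot, add_zero] at h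
    exact h

/-- (COARSE) coarsening an orthogonal family along `g : K → Fin t`. -/
theorem coarsen {F V : Type*} [Field F] [AddCommGroup V] [Module F V] [FiniteDimensional F V]
    {K : Type*} [Fintype K] (B : LinearMap.BilinForm F V) (hB : B.IsAlt) (R : Submodule F V)
    (W : K → Submodule F V) (hW : IsOrthFam B R W) {t : ℕ} (g : K → Fin t) :
    IsOrthFam B R (fun j : Fin t => ⨆ (k : K) (_ : g k = j), W k) ∧
      ∀ j : Fin t, finrank F ↥(⨆ (k : K) (_ : g k = j), W k) =
        ∑ k ∈ Finset.univ.filter (fun k => g k = j), finrank F (W k) := by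
  classical
  have hD : ∀ j : Fin t, (⨆ (k : K) (_ : g k = j), W k) =
      ⨆ k ∈ Finset.univ.filter (fun k => g k = j), W k := by
    intro j
    simp only [Finset.mem_filter, Finset.mem_univ, true_and]
  have hmem : ∀ (j : Fin t) (u : V), u ∈ (⨆ (k : K) (_ : g k = j), W k) ↔
      ∃ μ : ∀ k, W k, ∑ k ∈ Finset.univ.filter (fun k => g k = j), (μ k : V) = u := by
    intro j u
    rw [hD j]
    exact Submodule.mem_iSup_finset_iff_exists_sum W u
  refine ⟨⟨?_, ?_, ?_, ?_⟩, ?_⟩
  · -- independence
    rw [iSupIndep_def]
    intro j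
    have hdisj : Disjoint ({k | g k = j} : Set K) {k | g k ≠ j} := by
      rw [Set.disjoint_left]; intro k hk hk'; exact hk' hk
    have h := hW.indep.disjoint_biSup_biSup' hdisj (Set.toFinite _)
    refine h.mono ?_ ?_
    · exact le_refl _
    · refine iSup₂_le ?_
      intro j' hj'
      refine iSup₂_le ?_
      intro k hk
      exact le_iSup₂ (f := fun i (_ : i ∈ {k | g k ≠ j}) => W i) k
        (by show g k ≠ j; rw [hk]; exact hj')
  · -- supremum
    rw [← hW.sup, iSup_comm]
    simp only [iSup_iSup_eq_right]
  · -- nondegeneracy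
    intro j u hu hu0
    obtain ⟨μ, rfl⟩ := (hmem j u).mp hu
    obtain ⟨k, hk, hk0⟩ : ∃ k ∈ Finset.univ.filter (fun k => g k = j), (μ k : V) ≠ 0 := by
      by_contra hcon
      push Not at hcon
      exact hu0 (Finset.sum_eq_zero hcon)
    obtain ⟨v, hv, hBv⟩ := hW.nondeg k (μ k) (μ k).2 hk0
    have hgk : g k = j := by simpa using hk
    refine ⟨v, ?_, ?_⟩
    · exact (le_iSup₂ (f := fun k (_ : g k = j) => W k) k hgk) hv
    · rw [map_sum, LinearMap.sum_apply, Finset.sum_eq_single k]
      · exact hBv
      · intro k' _ hk'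
        exact hW.orth k' k hk' _ (μ k').2 v hv
      · intro h; exact absurd hk h
  · -- orthogonality
    intro j j' hjj' u hu v hv
    obtain ⟨μ, rfl⟩ := (hmem j u).mp hu
    obtain ⟨ν, rfl⟩ := (hmem j' v).mp hv
    rw [map_sum]
    refine Finset.sum_eq_zero ?_
    intro k' hk'
    rw [map_sum, LinearMap.sum_apply]
    refine Finset.sum_eq_zero ?_
    intro k hk
    have h1 : g k = j := by simpa using hk
    have h2 : g k' = j' := by simpa using hk'
    have hne : k ≠ k' := by
      intro h; apply hjj'; rw [← h1, ← h2, h]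
    exact hW.orth k k' hne _ (μ k).2 _ (ν k').2
  · intro j
    rw [hD j]
    exact h62_finrank_biSup W hW.indep _

end Cfsg.Agent.Helper62.SPI
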