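import Mathlib
import Cfsg.Agent.Lib.Helper14.SPIDefs

/-!
# SPI (JOIN) for helper14's server (S5961): two orthogonal families on orthogonal complementary
subspaces join to an orthogonal family.
-/

set_option autoImplicit false

namespace Cfsg.Agent.Helper62.SPI

open Module Polynomial Cfsg.Agent.Helper14.SPI

/-- (JOIN) two orthogonal families on orthogonal complementary subspaces. -/
theorem join_fam {F V : Type*} [Field F] [AddCommGroup V] [Module F V] {K K' : Type*}
    (B : LinearMap.BilinForm F V) (hB : B.IsAlt) (U R T : Submodule F V)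
    (hUR : U ⊓ R = ⊥) (hsup : U ⊔ R = T) (horth : ∀ u ∈ U, ∀ w ∈ R, B u w = 0)
    (E : K → Submodule F V) (W : K' → Submodule F V)
    (hE : IsOrthFam B U E) (hW : IsOrthFam B R W) :
    IsOrthFam B T (Sum.elim E W) := by
  have hEU : ∀ k, E k ≤ U := fun k => hE.sup ▸ le_iSup E k
  have hWR : ∀ k, W k ≤ R := fun k => hW.sup ▸ le_iSup W k
  have hdisj : Disjoint U R := disjoint_iff.mpr hUR
  refine ⟨?_, ?_, ?_, ?_⟩
  · rw [iSupIndep_def]
    rintro (k | k)
    · -- `E k` against the rest
      have h1 : Disjoint (E k) (⨆ (j) (_ : j ≠ k), E j) := (iSupIndep_def.mp hE.indep) k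
      have h2 : E k ⊔ (⨆ (j) (_ : j ≠ k), E j) ≤ U :=
        sup_le (hEU k) (iSup₂_le fun j _ => hEU j)
      have h3 : Disjoint (E k ⊔ (⨆ (j) (_ : j ≠ k), E j)) R := hdisj.mono_left h2
      have h4 := h1.disjoint_sup_right_of_disjoint_sup_left h3
      refine h4.mono_right ?_
      refine iSup₂_le ?_
      rintro (j | j) hj
      · have hjk : j ≠ k := fun h => hj (by rw [h])
        exact le_sup_of_le_left (le_iSup₂ (f := fun j (_ : j ≠ k) => E j) j hjk)
      · exact le_sup_of_le_right (hWR j)
    · -- `W k` against the rest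
      have h1 : Disjoint (W k) (⨆ (j) (_ : j ≠ k), W j) := (iSupIndep_def.mp hW.indep) k
      have h2 : W k ⊔ (⨆ (j) (_ : j ≠ k), W j) ≤ R :=
        sup_le (hWR k) (iSup₂_le fun j _ => hWR j)
      have h3 : Disjoint (W k ⊔ (⨆ (j) (_ : j ≠ k), W j)) U := hdisj.symm.mono_left h2
      have h4 := h1.disjoint_sup_right_of_disjoint_sup_left h3
      refine h4.mono_right ?_
      refine iSup₂_le ?_
      rintro (j | j) hj
      · exact le_sup_of_le_right (hEU j)
      · have hjk : j ≠ k := fun h => hj (by rw [h])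
        exact le_sup_of_le_left (le_iSup₂ (f := fun j (_ : j ≠ k) => W j) j hjk)
  · rw [iSup_sum]
    simp only [Sum.elim_inl, Sum.elim_inr]
    rw [hE.sup, hW.sup, hsup]
  · rintro (k | k)
    · exact hE.nondeg k
    · exact hW.nondeg k
  · rintro (k | k) (k' | k') hkk' u hu v hv
    · exact hE.orth k k' (fun h => hkk' (by rw [h])) u hu v hv
    · exact horth u (hEU k hu) v (hWR k' hv)
    · have h := horth v (hEU k' hv) u (hWR k hu)
      exact hB.isRefl v u h
    · exact hW.orth k k' (fun h => hkk' (by rw [h])) u hu v hv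

end Cfsg.Agent.Helper62.SPI
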