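import Mathlib
import Cfsg.Agent.Lib.Helper14.SPIDefs
import Cfsg.Agent.Lib.Helper62.SPICOARSE
import Cfsg.Agent.S0752

/-!
# SPI (SPLIT) for helper14's server (S5961): a nondegenerate subspace splits orthogonally into
nondegenerate subspaces of prescribed even dimensions.
-/

set_option autoImplicit false
set_option linter.unusedVariables false

namespace Cfsg.Agent.Helper62.SPI

open Module Polynomial Cfsg.Agent.Helper14.SPI

/-- a colouring of `Fin m` with prescribed fibre sizes -/
theorem h62_exists_colouring {t m : ℕ} (h : Fin t → ℕ) (hm : ∑ j, h j = m) :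
    ∃ c : Fin m → Fin t, ∀ j, (Finset.univ.filter (fun i => c i = j)).card = h j := by
  subst hm
  let φ : Fin (∑ j, h j) ≃ (Σ j : Fin t, Fin (h j)) := finSigmaFinEquiv.symm
  refine ⟨fun i => (φ i).1, fun j => ?_⟩
  have hset : Finset.univ.filter (fun i => (φ i).1 = j) =
      (Finset.univ : Finset (Fin (h j))).map
        ⟨fun y => φ.symm ⟨j, y⟩, fun y y' hyy' => by
          have h1 := φ.symm.injective hyy'
          simpa using h1⟩ := by
    ext i
    simp only [Finset.mem_filter, Finset.mem_univ, true_and, Finset.mem_map]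
    constructor
    · intro hi
      rcases hφi : φ i with ⟨j', y'⟩
      rw [hφi] at hi
      have hi' : j' = j := hi
      subst hi'
      refine ⟨y', ?_⟩
      show φ.symm ⟨j', y'⟩ = i
      rw [← hφi, Equiv.symm_apply_apply]
    · rintro ⟨y, rfl⟩
      show (φ (φ.symm ⟨j, y⟩)).1 = j
      rw [Equiv.apply_symm_apply]
  rw [hset, Finset.card_map, Finset.card_univ, Fintype.card_fin]

/-- (SPLIT) a nondegenerate subspace splits orthogonally into nondegenerate subspaces of any
prescribed even dimensions (hyperbolic basis from S0752.result on `B.restrict U`). -/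
theorem exists_split {F V : Type*} [Field F] [AddCommGroup V] [Module F V]
    [FiniteDimensional F V] (B : LinearMap.BilinForm F V) (hB : B.IsAlt)
    (U : Submodule F V) (hU : NondegOn B U) {t : ℕ} (e : Fin t → ℕ) (he : ∀ j, Even (e j))
    (hsum : ∑ j, e j = finrank F U) :
    ∃ E : Fin t → Submodule F V, IsOrthFam B U E ∧ ∀ j, finrank F (E j) = e j := by
  classical
  obtain ⟨m, k, b, h1, h2, h3, h4⟩ :=
    Cfsg.Agent.S0752.result (B.restrict U) (fun u => hB (u : V))
  -- the radical is trivial
  have hk : k = 0 := by
    by_contra hk0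
    have j : Fin k := ⟨0, Nat.pos_of_ne_zero hk0⟩
    have hne : ((b (Sum.inr j) : U) : V) ≠ 0 := by
      intro h0
      exact b.ne_zero (Sum.inr j) (Subtype.ext h0)
    obtain ⟨w, hw, hBw⟩ := hU _ (b (Sum.inr j)).2 hne
    exact hBw (h4 j ⟨w, hw⟩)
  subst hk
  -- the basis vectors in `V`
  set v : (Fin m ⊕ Fin m) ⊕ Fin 0 → V := fun a => ((b a : U) : V) with hvdef
  have hv : LinearIndependent F v :=
    b.linearIndependent.map' U.subtype (Submodule.ker_subtype U)
  set x : Fin m → V := fun i => v (Sum.inl (Sum.inl i)) with hxdef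
  set y : Fin m → V := fun i => v (Sum.inl (Sum.inr i)) with hydef
  have hxy : ∀ i j, B (x i) (y j) = if i = j then 1 else 0 := fun i j => h1 i j
  have hxx : ∀ i j, B (x i) (x j) = 0 := fun i j => h2 i j
  have hyy : ∀ i j, B (y i) (y j) = 0 := fun i j => h3 i j
  have hyx : ∀ i j, B (y i) (x j) = -(if j = i then 1 else 0) := by
    intro i j
    rw [← hxy j i]
    exact (hB.neg_eq (x j) (y i)).symm
  have hxU : ∀ i, x i ∈ U := fun i => (b (Sum.inl (Sum.inl i))).2
  have hyU : ∀ i, y i ∈ U := fun i => (b (Sum.inl (Sum.inr i))).2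
  set H : Fin m → Submodule F V := fun i => Submodule.span F {x i, y i} with hHdef
  have hxH : ∀ i, x i ∈ H i := fun i => Submodule.subset_span (by simp)
  have hyH : ∀ i, y i ∈ H i := fun i => Submodule.subset_span (by simp)
  have hUspan : U = Submodule.span F (Set.range v) := by
    have h := congrArg (Submodule.map U.subtype) b.span_eq
    rw [Submodule.map_subtype_top, Submodule.map_span, ← Set.range_comp] at h
    exact h.symm
  have hH : IsOrthFam B U H := by
    refine ⟨?_, ?_, ?_, ?_⟩
    · rw [iSupIndep_def]
      intro i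
      have hHi : H i = Submodule.span F
          (v '' {Sum.inl (Sum.inl i), Sum.inl (Sum.inr i)}) := by
        rw [Set.image_pair]
      have hle : (⨆ (i') (_ : i' ≠ i), H i') ≤ Submodule.span F
          (v '' {a | a ≠ Sum.inl (Sum.inl i) ∧ a ≠ Sum.inl (Sum.inr i)}) := by
        refine iSup₂_le ?_
        intro i' hi'
        refine Submodule.span_mono ?_
        rintro w (rfl | rfl)
        · exact ⟨Sum.inl (Sum.inl i'), ⟨by simp [hi'], by simp⟩, rfl⟩
        · exact ⟨Sum.inl (Sum.inr i'), ⟨by simp, by simp [hi']⟩, rfl⟩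
      rw [hHi]
      refine (hv.disjoint_span_image ?_).mono_right hle
      rw [Set.disjoint_left]
      rintro a (rfl | rfl) ⟨ha1, ha2⟩
      · exact ha1 rfl
      · exact ha2 rfl
    · apply le_antisymm
      · refine iSup_le ?_
        intro i
        refine Submodule.span_le.mpr ?_
        rintro w (rfl | rfl)
        · exact hxU i
        · exact hyU i
      · rw [hUspan]
        refine Submodule.span_le.mpr ?_
        rintro w ⟨a, rfl⟩
        rcases a with (i | i) | j
        · exact (le_iSup H i) (hxH i)
        · exact (le_iSup H i) (hyH i)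
        · exact j.elim0
    · intro i u hu hu0
      obtain ⟨α, β, rfl⟩ := Submodule.mem_span_pair.mp hu
      by_cases hα : α = 0
      · have hβ : β ≠ 0 := by
          intro hβ
          apply hu0
          rw [hα, hβ]; simp
        refine ⟨x i, hxH i, ?_⟩
        simp only [map_add, map_smul, LinearMap.add_apply, LinearMap.smul_apply, hxx, hyx,
          smul_eq_mul, if_true, hα]
        simpa using hβ
      · refine ⟨y i, hyH i, ?_⟩
        simp only [map_add, map_smul, LinearMap.add_apply, LinearMap.smul_apply, hxy, hyy,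
          smul_eq_mul, if_true]
        simpa using hα
    · intro i i' hii' u hu w hw
      obtain ⟨α, β, rfl⟩ := Submodule.mem_span_pair.mp hu
      obtain ⟨γ, δ, rfl⟩ := Submodule.mem_span_pair.mp hw
      simp only [map_add, map_smul, LinearMap.add_apply, LinearMap.smul_apply, hxy, hyy, hxx,
        hyx, smul_eq_mul, if_neg hii', if_neg (Ne.symm hii')]
      simp
  have hH2 : ∀ i, finrank F (H i) = 2 := by
    intro i
    have hli : LinearIndependent F ![x i, y i] := by
      have hinj : Function.Injective
          (![Sum.inl (Sum.inl i), Sum.inl (Sum.inr i)] : Fin 2 → (Fin m ⊕ Fin m) ⊕ Fin 0) := by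
        intro s s' hss'
        fin_cases s <;> fin_cases s' <;> simp_all
      have h := hv.comp _ hinj
      have heq : v ∘ (![Sum.inl (Sum.inl i), Sum.inl (Sum.inr i)] :
          Fin 2 → (Fin m ⊕ Fin m) ⊕ Fin 0) = ![x i, y i] := by
        funext s
        fin_cases s <;> rfl
      rw [heq] at h
      exact h
    have h := finrank_span_eq_card hli
    rw [Matrix.range_cons_cons_empty] at h
    simpa using h
  -- the colouring
  have hfr : finrank F U = m + m := by
    rw [Module.finrank_eq_card_basis b]
    simp
  have hm : ∑ j, e j / 2 = m := by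
    have h2m : ∑ j, e j = 2 * ∑ j, e j / 2 := by
      rw [Finset.mul_sum]
      refine Finset.sum_congr rfl ?_
      intro j _
      exact (Nat.two_mul_div_two_of_even (he j)).symm
    omega
  obtain ⟨c, hc⟩ := h62_exists_colouring (fun j => e j / 2) hm
  obtain ⟨hfam, hfin⟩ := coarsen B hB U H hH c
  refine ⟨_, hfam, fun j => ?_⟩
  rw [hfin j, Finset.sum_congr rfl (fun i _ => hH2 i), Finset.sum_const, smul_eq_mul, hc j]
  exact Nat.div_mul_cancel (he j).two_dvd

end Cfsg.Agent.Helper62.SPI
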