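import Mathlib
import Cfsg.Agent.Lib.Helper64.S4017Defs

set_option autoImplicit false

/-!
# S4017M (D3), core: `C(z) = P ∪ P t` from the uniqueness of the involution `t` in `C(z) ∩ C(t)`
-/

namespace Cfsg.Agent.Helper62.S4017M

open Cfsg.Agent.Helper64.S4017

variable {G : Type*} [Group G] [Finite G] {a p : ℕ} {Q : Subgroup G} {x : G}

/-- (D3), with (D2) as a hypothesis. -/
theorem h62_D_sylow_core (h : Setting a p Q x) (T : Tools a p Q x) (ha : a = 2)
    {t z : G} (ht : t ∈ Q) (ht1 : t ≠ 1) (hz : IsPel p z) (hz1 : z ≠ 1) (hzt : z * t = t * z)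
    (hD2 : ∀ u : G, IsInv u → u * z = z * u → u * t = t * u → u = t) :
    ∃ P : Sylow p G, z ∈ P ∧ (∀ P' : Sylow p G, z ∈ P' → P' = P) ∧
      (∀ g : G, g * z = z * g → IsPel p g → g ∈ P) ∧
      (∀ g : G, g * z = z * g → g ∈ P ∨ g * t ∈ P) := by
  classical
  have hp : p.Prime := h.prime
  have : Fact p.Prime := ⟨hp⟩
  have : Fact (Nat.Prime 2) := ⟨Nat.prime_two⟩
  have hp3 : p = 3 := by
    have := h.p_eq; rw [ha] at this; omega
  have htt : t * t = 1 := h.elem t ht
  have hot : orderOf t = 2 := orderOf_eq_prime (by rw [pow_two]; exact htt) ht1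
  -- the centraliser
  set C : Subgroup G := Subgroup.centralizer {z} with hC
  have hmemC : ∀ g : G, g ∈ C ↔ g * z = z * g := by
    intro g
    rw [hC, Subgroup.mem_centralizer_singleton_iff]
  have hCtop : C ≠ ⊤ := by
    intro htop
    have hzc : z ∈ Subgroup.center G := by
      rw [Subgroup.mem_center_iff]
      intro g
      have : g ∈ C := htop ▸ Subgroup.mem_top g
      exact (hmemC g).1 this
    have hle : Subgroup.zpowers z ≤ Subgroup.center G := Subgroup.zpowers_le.2 hzc
    have hnorm : (Subgroup.zpowers z).Normal := by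
      refine ⟨fun n hn g => ?_⟩
      have := Subgroup.mem_center_iff.1 (hle hn) g
      rw [this, mul_inv_cancel_right]
      exact hn
    rcases h.simple.eq_bot_or_eq_top_of_normal _ hnorm with hbot | htop'
    · exact hz1 (Subgroup.zpowers_eq_bot.1 hbot)
    · obtain ⟨j, hj⟩ := hz
      have hcard : Nat.card G = p ^ j := by
        rw [← Subgroup.card_top (G := G), ← htop', Nat.card_zpowers, hj]
      have hQdvd : Nat.card Q ∣ Nat.card G := Subgroup.card_subgroup_dvd_card Q
      rw [h.card_Q, hcard, ha] at hQdvd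
      have h2 : 2 ∣ p ^ j := dvd_trans (by norm_num) hQdvd
      have := (Nat.prime_dvd_prime_iff_eq Nat.prime_two hp).1
        (Nat.Prime.dvd_of_dvd_pow Nat.prime_two h2)
      omega
  have htC : t ∈ C := (hmemC t).2 hzt.symm
  have h2C : 2 ∣ Nat.card C := by
    have : orderOf (⟨t, htC⟩ : C) = 2 := by rw [← hot]; exact Subgroup.orderOf_mk t htC
    rw [← this]; exact orderOf_dvd_natCard _
  have hstarC := h.star C hCtop h2C
  -- `Q` is abelian
  have hQcomm : ∀ s ∈ Q, ∀ s' ∈ Q, s * s' = s' * s := by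
    intro s hs s' hs'
    have h1 := h.elem s hs
    have h2 := h.elem s' hs'
    have h3 := h.elem (s * s') (Q.mul_mem hs hs')
    have e1 : s⁻¹ = s := inv_eq_of_mul_eq_one_right h1
    have e2 : s'⁻¹ = s' := inv_eq_of_mul_eq_one_right h2
    have e3 : (s * s')⁻¹ = s * s' := inv_eq_of_mul_eq_one_right h3
    rw [← e3, mul_inv_rev, e1, e2]
  -- no subgroup of order 4 in `C`
  have h4 : ¬ 4 ∣ Nat.card C := by
    intro h4
    let t' : C := ⟨t, htC⟩
    have hot' : orderOf t' = 2 := by rw [← hot]; exact Subgroup.orderOf_mk t htC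
    have hcardt : Nat.card (Subgroup.zpowers t') = 2 ^ 1 := by
      rw [Nat.card_zpowers, pow_one]; exact hot'
    obtain ⟨K, hK4, hKt⟩ := Sylow.exists_subgroup_card_pow_prime_le 2 (m := 2)
      (by simpa using h4) (Subgroup.zpowers t') hcardt (by norm_num)
    have hex : ∃ u ∈ K, u ∉ Subgroup.zpowers t' := by
      by_contra hcon
      push Not at hcon
      have : K = Subgroup.zpowers t' := le_antisymm hcon hKt
      rw [this] at hK4
      omega
    obtain ⟨u, huK, hunot⟩ := hex
    have hu1 : u ≠ 1 := fun h1 => hunot (h1 ▸ Subgroup.one_mem _)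
    have hut' : u ≠ t' := fun h1 => hunot (h1 ▸ Subgroup.mem_zpowers t')
    have hcomm : u * t' = t' * u := by
      have := IsPGroup.commutative_of_card_eq_prime_sq (p := 2) (G := K) hK4 ⟨u, huK⟩
        ⟨t', hKt (Subgroup.mem_zpowers t')⟩
      exact congrArg Subtype.val this
    have hu4 : u ^ 4 = 1 := by
      have h1 : (⟨u, huK⟩ : K) ^ Nat.card K = 1 := pow_card_eq_one'
      rw [hK4] at h1
      have := congrArg Subtype.val h1
      simpa using this
    -- down to `G`
    set v : G := (u : G) with hv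
    have hv1 : v ≠ 1 := fun h1 => hu1 (Subtype.ext h1)
    have hvt : v ≠ t := fun h1 => hut' (Subtype.ext h1)
    have hvz : v * z = z * v := (hmemC v).1 u.2
    have hvt' : v * t = t * v := congrArg Subtype.val hcomm
    have hv4 : v ^ 4 = 1 := by
      have := congrArg Subtype.val hu4
      simpa using this
    obtain ⟨Z, hZmem, hZab⟩ := T.ct t ht ht1
    obtain ⟨z', s, hz', hz't, hs, hvs⟩ := T.ct1 t ht ht1 v hvt'
    have hss : s * s = 1 := h.elem s hs
    have hsinv : s⁻¹ = s := inv_eq_of_mul_eq_one_right hss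
    have hz'Z : z' ∈ Z := (hZmem z').2 ⟨hz't, hz'⟩
    have hconjZ : s * z' * s⁻¹ ∈ Z := by
      refine (hZmem _).2 ⟨?_, ?_⟩
      · have hst : s * t = t * s := hQcomm s hs t ht
        have hst' : s⁻¹ * t = t * s⁻¹ := by rw [hsinv]; exact hst
        calc s * z' * s⁻¹ * t = s * z' * (s⁻¹ * t) := by group
          _ = s * z' * (t * s⁻¹) := by rw [hst']
          _ = s * (z' * t) * s⁻¹ := by group
          _ = s * (t * z') * s⁻¹ := by rw [hz't]
          _ = (s * t) * z' * s⁻¹ := by group
          _ = (t * s) * z' * s⁻¹ := by rw [hst]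
          _ = t * (s * z' * s⁻¹) := by group
      · obtain ⟨j, hj⟩ := hz'
        refine ⟨j, ?_⟩
        rw [← hj]
        exact (MulAut.conj s).orderOf_eq z'
    have hvvZ : v * v ∈ Z := by
      have : v * v = z' * (s * z' * s⁻¹) := by
        rw [hvs, hsinv]
        calc z' * s * (z' * s) = z' * (s * z' * s) * 1 := by group
          _ = z' * (s * z' * s) := by rw [mul_one]
      rw [this]
      exact Z.mul_mem hz'Z hconjZ
    have hvv : v * v = 1 := by
      obtain ⟨j, hj⟩ := ((hZmem _).1 hvvZ).2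
      have hdvd : orderOf (v * v) ∣ 2 := by
        apply orderOf_dvd_of_pow_eq_one
        rw [← pow_two, ← pow_mul]; exact hv4
      rw [hj, hp3] at hdvd
      have hj0 : j = 0 := by
        by_contra hj0
        have : 3 ∣ 3 ^ j := dvd_pow_self 3 hj0
        have := dvd_trans this hdvd
        omega
      rw [hj0, pow_zero] at hj
      exact orderOf_eq_one_iff.1 hj
    exact hvt (hD2 v ⟨hv1, hvv⟩ hvz hvt')
  -- a Sylow `p`-subgroup through `z`
  have hzp : IsPGroup p (Subgroup.zpowers z) := by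
    obtain ⟨j, hj⟩ := hz
    exact IsPGroup.of_card (n := j) (by rw [Nat.card_zpowers, hj])
  obtain ⟨P, hPz⟩ := hzp.exists_le_sylow
  have hzP : z ∈ P := hPz (Subgroup.mem_zpowers z)
  have hPC : (P : Subgroup G) ≤ C := fun g hg => (hmemC g).2 (h.abel P g hg z hzP)
  set H : Subgroup C := (P : Subgroup G).subgroupOf C with hH
  have hcardH : Nat.card H = Nat.card P :=
    Nat.card_congr (Subgroup.subgroupOfEquivOfLe hPC).toEquiv
  have hidx : Nat.card H * H.index = Nat.card C := Subgroup.card_mul_index H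
  have hPcard : Nat.card P = p ^ (Nat.card G).factorization p := P.card_eq_multiplicity
  have hCdvd : Nat.card C ∣ Nat.card G := Subgroup.card_subgroup_dvd_card C
  have hn2 : H.index = 2 := by
    have hc0 : Nat.card C ≠ 0 := Nat.card_pos.ne'
    have hn0 : H.index ≠ 0 := by
      intro h0; rw [h0, mul_zero] at hidx; exact hc0 hidx.symm
    have hprime : ∀ {r : ℕ}, r.Prime → r ∣ H.index → r = 2 := by
      intro r hr hrn
      have hrc : r ∣ Nat.card C := hidx ▸ Dvd.dvd.mul_left hrn _
      rcases hstarC r hr hrc with h2 | hrp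
      · exact h2
      · exfalso
        rw [hrp] at hrn
        have : p ^ ((Nat.card G).factorization p + 1) ∣ Nat.card G := by
          refine dvd_trans ?_ hCdvd
          rw [← hidx, hcardH, hPcard, pow_succ]
          exact mul_dvd_mul_left _ hrn
        exact Nat.pow_succ_factorization_not_dvd (Nat.card_pos.ne') hp this
    obtain ⟨i, hpow⟩ : ∃ i, H.index = 2 ^ i :=
      ⟨_, Nat.eq_prime_pow_of_unique_prime_dvd hn0 hprime⟩
    have hi1 : i ≠ 0 := by
      intro hi0
      rw [hi0, pow_zero] at hpow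
      rw [hpow, mul_one, hcardH, hPcard] at hidx
      rw [← hidx] at h2C
      have := (Nat.prime_dvd_prime_iff_eq Nat.prime_two hp).1
        (Nat.Prime.dvd_of_dvd_pow Nat.prime_two h2C)
      omega
    have hi2 : i < 2 := by
      by_contra hge
      push Not at hge
      apply h4
      have h1 : 2 ^ 2 ∣ H.index := by rw [hpow]; exact pow_dvd_pow 2 hge
      have h2 : H.index ∣ Nat.card C := hidx ▸ Dvd.dvd.mul_left (dvd_refl _) _
      exact dvd_trans (by simpa using h1) h2
    have : i = 1 := by omega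
    rw [hpow, this, pow_one]
  have hmemH : ∀ (g : G) (hg : g ∈ C), (⟨g, hg⟩ : C) ∈ H ↔ g ∈ P :=
    fun g hg => Subgroup.mem_subgroupOf
  have htnotP : t ∉ P := by
    intro htP
    have : orderOf (⟨t, htP⟩ : P) = 2 := by rw [← hot]; exact Subgroup.orderOf_mk t htP
    have hdvd : 2 ∣ Nat.card P := this ▸ orderOf_dvd_natCard _
    rw [hPcard] at hdvd
    have := (Nat.prime_dvd_prime_iff_eq Nat.prime_two hp).1
      (Nat.Prime.dvd_of_dvd_pow Nat.prime_two hdvd)
    omega
  have h3 : ∀ g : G, g * z = z * g → IsPel p g → g ∈ P := by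
    rintro g hgz ⟨j, hj⟩
    have hgC : g ∈ C := (hmemC g).2 hgz
    by_contra hgP
    have hsq : (⟨g, hgC⟩ : C) * ⟨g, hgC⟩ ∈ H := Subgroup.mul_self_mem_of_index_two hn2 _
    have hgg : g * g ∈ P := (hmemH (g * g) (C.mul_mem hgC hgC)).1 hsq
    have hodd : Odd (p ^ j) := by rw [hp3]; exact Odd.pow (by decide)
    obtain ⟨k, hk⟩ := hodd
    have hgk : g = (g * g) ^ (k + 1) := by
      rw [← pow_two, ← pow_mul]
      have : 2 * (k + 1) = p ^ j + 1 := by omega
      rw [this, pow_succ, ← hj, pow_orderOf_eq_one, one_mul]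
    exact hgP (hgk ▸ (P : Subgroup G).pow_mem hgg _)
  refine ⟨P, hzP, ?_, h3, ?_⟩
  · intro P' hzP'
    have hle : (P' : Subgroup G) ≤ P := by
      intro g hg
      apply h3 g (h.abel P' g hg z hzP')
      obtain ⟨k, hk⟩ := P'.isPGroup' ⟨g, hg⟩
      have hk' : g ^ p ^ k = 1 := by
        have := congrArg Subtype.val hk
        simpa using this
      obtain ⟨m, -, hm⟩ := (Nat.dvd_prime_pow hp).1 (orderOf_dvd_of_pow_eq_one hk')
      exact ⟨m, hm⟩
    have := P'.is_maximal' P.isPGroup' hle
    exact Sylow.ext this.symm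
  · intro g hgz
    have hgC : g ∈ C := (hmemC g).2 hgz
    by_cases hgP : g ∈ P
    · exact Or.inl hgP
    · right
      have hmul := (Subgroup.mul_mem_iff_of_index_two hn2 (a := ⟨g, hgC⟩) (b := ⟨t, htC⟩)).2
        ⟨fun h' => absurd ((hmemH g hgC).1 h') hgP, fun h' => absurd ((hmemH t htC).1 h') htnotP⟩
      exact (hmemH (g * t) (C.mul_mem hgC htC)).1 hmul

end Cfsg.Agent.Helper62.S4017M
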