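import Mathlib
import Cfsg.Agent.Lib.Helper64.S4017Defs
import Cfsg.Agent.Lib.Helper63.S4017D1
import Cfsg.Agent.Lib.Helper62.S4017D3Core

set_option autoImplicit false

/-!
# S4017M (D3) `D_sylow` (helper64's server), with an inline copy of (D2)
-/

namespace Cfsg.Agent.Helper62.S4017M

open Cfsg.Agent.Helper64.S4017

variable {G : Type*} [Group G] [Finite G] {a p : ℕ} {Q : Subgroup G} {x : G}

omit [Finite G] in
/-- a `3`-element of square one is trivial. -/
theorem h62_pel_sq_one (hp3 : p = 3) {w : G} (hw : IsPel p w) (hww : w * w = 1) : w = 1 := by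
  obtain ⟨j, hj⟩ := hw
  have hdvd : orderOf w ∣ 2 := by
    apply orderOf_dvd_of_pow_eq_one
    rw [pow_two]; exact hww
  rw [hj, hp3] at hdvd
  have hj0 : j = 0 := by
    by_contra hj0
    have h3 : 3 ∣ 3 ^ j := dvd_pow_self 3 hj0
    have := Nat.le_of_dvd (by norm_num) (dvd_trans h3 hdvd)
    omega
  rw [hj0, pow_zero] at hj
  exact orderOf_eq_one_iff.1 hj

/-- (D2), own copy. -/
theorem h62_D_unique_inv (h : Setting a p Q x) (T : Tools a p Q x) (ha : a = 2)
    (hP1 : ¬ P1ne p Q) {t z u : G} (ht : t ∈ Q) (ht1 : t ≠ 1) (hz : IsPel p z) (hz1 : z ≠ 1)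
    (hzt : z * t = t * z) (hu : IsInv u) (huz : u * z = z * u) (hut : u * t = t * u) : u = t := by
  have hp3 : p = 3 := by
    have := h.p_eq; rw [ha] at this; omega
  obtain ⟨Z, hZmem, hZab⟩ := T.ct t ht ht1
  obtain ⟨z', s, hz', hz't, hs, hus⟩ := T.ct1 t ht ht1 u hut
  have hss : s * s = 1 := h.elem s hs
  have hsinv : s⁻¹ = s := inv_eq_of_mul_eq_one_right hss
  have hzZ : z ∈ Z := (hZmem z).2 ⟨hzt, hz⟩
  have hz'Z : z' ∈ Z := (hZmem z').2 ⟨hz't, hz'⟩
  have hzz' : z' * z = z * z' := hZab z' hz'Z z hzZ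
  have hsz : s * z = z * s := by
    have hs_eq : s = z'⁻¹ * u := by rw [hus]; group
    have hinv : z'⁻¹ * z = z * z'⁻¹ := by
      calc z'⁻¹ * z = z'⁻¹ * (z * z') * z'⁻¹ := by group
        _ = z'⁻¹ * (z' * z) * z'⁻¹ := by rw [hzz']
        _ = z * z'⁻¹ := by group
    calc s * z = z'⁻¹ * (u * z) := by rw [hs_eq, mul_assoc]
      _ = z'⁻¹ * z * u := by rw [huz, mul_assoc]
      _ = z * (z'⁻¹ * u) := by rw [hinv, mul_assoc]
      _ = z * s := by rw [← hs_eq]
  have hinvz' : s * z' * s⁻¹ = z'⁻¹ := by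
    have h1 : z' * s * (z' * s) = 1 := by rw [← hus]; exact hu.2
    rw [hsinv]
    have h2 : z' * (s * z' * s) = 1 := by rw [← h1]; group
    exact eq_inv_of_mul_eq_one_right h2
  by_cases hs1 : s = 1
  · exfalso
    rw [hs1, mul_one] at hus
    rw [hus] at hu
    exact hu.1 (h62_pel_sq_one hp3 hz' hu.2)
  by_cases hst : s = t
  · have hzi : z' = z'⁻¹ := by
      have h2 := hinvz'
      rw [hst, ← hz't, mul_inv_cancel_right] at h2
      exact h2
    have hz'1 : z' = 1 := h62_pel_sq_one hp3 hz' (mul_eq_one_iff_eq_inv.2 hzi)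
    rw [hus, hz'1, one_mul, hst]
  · exfalso
    have hD1 := Cfsg.Agent.Helper63.S4017M.D_inverts h T ha hP1 ht ht1 hs hs1 hst hz hzt
    have hzi : z = z⁻¹ := by
      have h2 := hD1
      rw [hsz, mul_inv_cancel_right] at h2
      exact h2
    exact hz1 (h62_pel_sq_one hp3 hz (mul_eq_one_iff_eq_inv.2 hzi))

/-- (D3) `C(z)` is a proper subgroup of even order; a Sylow `2`-subgroup `S ∋ t` of it of order `4`
would be elementary abelian and contain an involution `u ≠ t` commuting with `t` and `z`,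
against (D2); so `|C(z)| = 2 * 3^j`, its Sylow `p`-subgroup `P` has index `2`, is normal, contains all
`p`-elements of `C(z)`; every Sylow `p`-subgroup of `G` containing `z` is abelian, so lies in `C(z)`,
so in `P`: `P` is a Sylow `p`-subgroup of `G`, the only one containing `z`. -/
theorem D_sylow (h : Setting a p Q x) (T : Tools a p Q x) (ha : a = 2) (hP1 : ¬ P1ne p Q)
    {t z : G} (ht : t ∈ Q) (ht1 : t ≠ 1) (hz : IsPel p z) (hz1 : z ≠ 1) (hzt : z * t = t * z) :
    ∃ P : Sylow p G, z ∈ P ∧ (∀ P' : Sylow p G, z ∈ P' → P' = P) ∧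
      (∀ g : G, g * z = z * g → IsPel p g → g ∈ P) ∧
      (∀ g : G, g * z = z * g → g ∈ P ∨ g * t ∈ P) :=
  h62_D_sylow_core h T ha ht ht1 hz hz1 hzt
    (fun _ hu huz hut => h62_D_unique_inv h T ha hP1 ht ht1 hz hz1 hzt hu huz hut)

end Cfsg.Agent.Helper62.S4017M
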