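import Mathlib
import Cfsg.Prelude.Def_Solvable
import Cfsg.Agent.Lib.Helper62.MinNormal

set_option autoImplicit false

namespace Cfsg.Agent.Helper62

universe u

/-- A nontrivial normal subgroup of a nilpotent group meets the centre nontrivially. -/
theorem normal_inf_center_ne_bot {N : Type*} [Group N] [Group.IsNilpotent N]
    (K : Subgroup N) [K.Normal] (hK : K ≠ ⊥) : K ⊓ Subgroup.center N ≠ ⊥ := by
  classical
  -- chain c 0 = K, c (j+1) = ⁅c j, ⊤⁆
  let c : ℕ → Subgroup N := fun j => Nat.rec K (fun _ X => ⁅X, (⊤ : Subgroup N)⁆) j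
  have c0 : c 0 = K := rfl
  have cs : ∀ j, c (j + 1) = ⁅c j, (⊤ : Subgroup N)⁆ := fun j => rfl
  have hcn : ∀ j, (c j).Normal := by
    intro j
    induction j with
    | zero => rw [c0]; infer_instance
    | succ j ih => rw [cs]; exact @Subgroup.commutator_normal _ _ (c j) ⊤ ih inferInstance
  have hcK : ∀ j, c j ≤ K := by
    intro j
    induction j with
    | zero => rw [c0]
    | succ j ih =>
      rw [cs]
      exact (@Subgroup.commutator_le_left _ _ (c j) ⊤ (hcn j)).trans ih
  have hcl : ∀ j, c j ≤ (⊤ : Subgroup N).lowerCentralSeries j := by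
    intro j
    induction j with
    | zero => rw [c0]; simp
    | succ j ih =>
      rw [cs, Subgroup.lowerCentralSeries_succ]
      exact Subgroup.commutator_mono ih le_rfl
  obtain ⟨n, hn⟩ := Subgroup.nilpotent_iff_lowerCentralSeries.mp (inferInstance : Group.IsNilpotent N)
  have hex : ∃ j, c j = ⊥ := ⟨n, le_bot_iff.mp (hn ▸ hcl n)⟩
  obtain ⟨j, hj, hjmin⟩ : ∃ j, c j = ⊥ ∧ ∀ i < j, c i ≠ ⊥ :=
    ⟨@Nat.find (fun n => c n = ⊥) (Classical.decPred _) hex,
      @Nat.find_spec (fun n => c n = ⊥) (Classical.decPred _) hex,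
      fun i hi => @Nat.find_min (fun n => c n = ⊥) (Classical.decPred _) hex i hi⟩
  have hj0 : j ≠ 0 := by
    intro h
    rw [h, c0] at hj
    exact hK hj
  obtain ⟨i, hi⟩ := Nat.exists_eq_succ_of_ne_zero hj0
  have hci : c i ≠ ⊥ := by
    have : i < j := by omega
    exact hjmin i this
  have hcomm : ⁅c i, (⊤ : Subgroup N)⁆ = ⊥ := by
    rw [← cs, ← Nat.succ_eq_add_one, ← hi]; exact hj
  have hcen : c i ≤ Subgroup.center N := Subgroup.commutator_top_right_eq_bot_iff_le_center.mp hcomm
  intro h
  apply hci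
  rw [eq_bot_iff, ← h]
  exact le_inf (hcK i) hcen

/-- A normal nilpotent subgroup centralizes every minimal normal subgroup. -/
theorem IsMinNormal.le_centralizer_of_normal_nilpotent {G : Type*} [Group G] {K N : Subgroup G}
    (hK : IsMinNormal K) (hN : N.Normal) (hnil : Group.IsNilpotent N) :
    N ≤ Subgroup.centralizer (K : Set G) := by
  obtain ⟨hKn, hK1, hKmin⟩ := hK
  have hKN : (K ⊓ N).Normal := by
    have := hKn; have := hN; infer_instance
  rcases hKmin (K ⊓ N) hKN inf_le_left with h0 | h0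
  · -- commute
    intro n hn
    rw [Subgroup.mem_centralizer_iff]
    intro k hk
    have hmem : k * n * k⁻¹ * n⁻¹ ∈ K ⊓ N := by
      refine ⟨?_, ?_⟩
      · have h5 : n * k⁻¹ * n⁻¹ ∈ K := hKn.conj_mem _ (K.inv_mem hk) n
        have h6 := K.mul_mem hk h5
        simpa [mul_assoc] using h6
      · have h5 : k * n * k⁻¹ ∈ N := hN.conj_mem _ hn k
        exact N.mul_mem h5 (N.inv_mem hn)
    rw [h0, Subgroup.mem_bot] at hmem
    have h7 : k * n * k⁻¹ = n := mul_inv_eq_one.mp hmem
    calc k * n = k * n * k⁻¹ * k := by group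
      _ = n * k := by rw [h7]
  · have hKleN : K ≤ N := by rw [← h0]; exact inf_le_right
    -- K' = K as subgroup of N, normal nontrivial, meets center of N
    have hK'n : (K.subgroupOf N).Normal := by
      have := hKn; infer_instance
    have hK'1 : K.subgroupOf N ≠ ⊥ := by
      intro h
      rw [Subgroup.subgroupOf_eq_bot] at h
      apply hK1
      rw [← h0]; exact disjoint_iff.mp h
    have hne := normal_inf_center_ne_bot (K.subgroupOf N) hK'1
    -- Z = (K' ⊓ center N).map subtype is normal in G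
    let Z : Subgroup G := (K.subgroupOf N ⊓ Subgroup.center N).map N.subtype
    have hZn : Z.Normal := by
      have hchar : (Subgroup.center N).Characteristic := inferInstance
      constructor
      rintro _ ⟨x, ⟨hxK, hxZ⟩, rfl⟩ g
      have hgx : g * (x : G) * g⁻¹ ∈ N := hN.conj_mem _ x.2 g
      refine ⟨⟨g * (x : G) * g⁻¹, hgx⟩, ⟨?_, ?_⟩, rfl⟩
      · show g * (x : G) * g⁻¹ ∈ K
        exact hKn.conj_mem _ hxK g
      · have := (Subgroup.characteristic_iff_le_comap.mp hchar) (MulAut.conjNormal g) hxZ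
        exact this
    have hZK : Z ≤ K := by
      rintro _ ⟨x, ⟨hxK, _⟩, rfl⟩
      exact hxK
    have hZ1 : Z ≠ ⊥ := by
      intro h
      exact hne ((Subgroup.map_eq_bot_iff_of_injective _ N.subtype_injective).mp h)
    have hZeq : Z = K := (hKmin Z hZn hZK).resolve_left hZ1
    intro n hn
    rw [Subgroup.mem_centralizer_iff]
    intro k hk
    have hkZ : k ∈ Z := by rw [hZeq]; exact hk
    obtain ⟨x, ⟨_, hxZ⟩, rfl⟩ := hkZ
    have := (Subgroup.mem_center_iff.mp hxZ) ⟨n, hn⟩
    have h2 := congrArg (fun y : N => (y : G)) this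
    simp only [Subgroup.coe_mul] at h2
    exact h2.symm

/-- The Fitting subgroup centralizes every minimal normal subgroup. -/
theorem IsMinNormal.fitting_le_centralizer {G : Type*} [Group G] {K : Subgroup G}
    (hK : IsMinNormal K) : Cfsg.fittingSubgroup G ≤ Subgroup.centralizer (K : Set G) := by
  unfold Cfsg.fittingSubgroup
  apply sSup_le
  rintro N ⟨hN, hnil⟩
  exact hK.le_centralizer_of_normal_nilpotent hN hnil

end Cfsg.Agent.Helper62
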