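import Mathlib
import Cfsg.Agent.Lib.Helper53.CD3ADefs
import Cfsg.Agent.Lib.Helper81.CharClifford

/-!
# CD3A (TRANS) for helper53's server (S4460): translation from `G ⧸ K` to subgroups of `G`.
-/

set_option autoImplicit false

namespace Cfsg.Agent.Helper62.CD3A

open Cfsg Cfsg.Agent.Helper53.CD3A Cfsg.Agent.Helper81
open scoped ComplexConjugate commutatorElement

universe u

/-- (TRANS) translation from `G ⧸ K` to subgroups of `G`: `F := (commutator (G ⧸ K)).comap (QuotientGroup.mk' K)`. -/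
theorem trans_to_subgroups {G : Type u} [Group G] [Finite G] (K : Subgroup G) [K.Normal] (q e : ℕ)
    (hab : ∀ a ∈ commutator (G ⧸ K), ∀ b ∈ commutator (G ⧸ K), a * b = b * a)
    (hcard : Nat.card (commutator (G ⧸ K)) = q ^ e)
    (hfpf : ∀ g : G ⧸ K, g ∉ commutator (G ⧸ K) → ∀ x ∈ commutator (G ⧸ K),
      g * x * g⁻¹ = x → x = 1) :
    ∃ F : Subgroup G, F.Normal ∧ K ≤ F ∧ commutator G ≤ F ∧
      F.index = (commutator (G ⧸ K)).index ∧
      (∀ a ∈ F, ∀ b ∈ F, a * b * a⁻¹ * b⁻¹ ∈ K) ∧ K.relIndex F = q ^ e ∧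
      (∀ g : G, g ∉ F → ∀ x ∈ F, g * x * g⁻¹ * x⁻¹ ∈ K → x ∈ K) := by
  have hsurj : Function.Surjective (QuotientGroup.mk' K) := QuotientGroup.mk'_surjective K
  refine ⟨(commutator (G ⧸ K)).comap (QuotientGroup.mk' K), inferInstance, ?_, ?_, ?_, ?_, ?_, ?_⟩
  · intro k hk
    rw [Subgroup.mem_comap]
    have : (QuotientGroup.mk' K) k = 1 := by
      rw [QuotientGroup.mk'_apply, QuotientGroup.eq_one_iff]; exact hk
    rw [this]; exact Subgroup.one_mem _
  · rw [commutator_def, Subgroup.commutator_le]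
    intro g₁ _ g₂ _
    rw [Subgroup.mem_comap, map_commutatorElement]
    rw [commutator_def]
    exact Subgroup.commutator_mem_commutator (Subgroup.mem_top _) (Subgroup.mem_top _)
  · exact Subgroup.index_comap_of_surjective _ hsurj
  · intro a ha b hb
    rw [Subgroup.mem_comap] at ha hb
    have h := hab _ ha _ hb
    rw [← QuotientGroup.eq_one_iff]
    have : ((a * b * a⁻¹ * b⁻¹ : G) : G ⧸ K) =
        (QuotientGroup.mk' K a) * (QuotientGroup.mk' K b) * (QuotientGroup.mk' K a)⁻¹ *
          (QuotientGroup.mk' K b)⁻¹ := by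
      simp
    rw [this, h]
    group
  · have hK : (⊥ : Subgroup (G ⧸ K)).comap (QuotientGroup.mk' K) = K := by
      rw [MonoidHom.comap_bot, QuotientGroup.ker_mk']
    have h1 : K.relIndex ((commutator (G ⧸ K)).comap (QuotientGroup.mk' K)) =
        ((⊥ : Subgroup (G ⧸ K)).comap (QuotientGroup.mk' K)).relIndex
          ((commutator (G ⧸ K)).comap (QuotientGroup.mk' K)) := by
      rw [hK]
    rw [h1, Subgroup.relIndex_comap, Subgroup.map_comap_eq_self_of_surjective hsurj,
      Subgroup.relIndex_bot_left, hcard]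
  · intro g hg x hx hgx
    rw [Subgroup.mem_comap] at hg hx
    rw [← QuotientGroup.eq_one_iff] at hgx
    have h1 : (QuotientGroup.mk' K g) * (QuotientGroup.mk' K x) * (QuotientGroup.mk' K g)⁻¹ =
        QuotientGroup.mk' K x := by
      have : ((g * x * g⁻¹ * x⁻¹ : G) : G ⧸ K) =
          (QuotientGroup.mk' K g) * (QuotientGroup.mk' K x) * (QuotientGroup.mk' K g)⁻¹ *
            (QuotientGroup.mk' K x)⁻¹ := by
        simp
      rw [this] at hgx
      exact mul_inv_eq_one.mp hgx
    have h2 := hfpf _ hg _ hx h1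
    rw [QuotientGroup.mk'_apply, QuotientGroup.eq_one_iff] at h2
    exact h2

end Cfsg.Agent.Helper62.CD3A
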