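import Mathlib
import Cfsg.Agent.Lib.Helper53.CD3ADefs
import Cfsg.Agent.Lib.Helper81.CharClifford

/-!
# CD3A (FLT) for helper53's server (S4460): in a Frobenius-like situation the index of the
abelian normal subgroup `V` is less than its order.
-/

set_option autoImplicit false
set_option linter.unusedVariables false

namespace Cfsg.Agent.Helper62.CD3A

open Cfsg Cfsg.Agent.Helper53.CD3A Cfsg.Agent.Helper81
open scoped ComplexConjugate commutatorElement

universe u

/-- (FLT) a conjugacy class of `x ∈ V ∖ 1` has `|H : V|` elements, all in `V ∖ 1`. -/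
theorem index_lt_card_of_fpf {H : Type u} [Group H] [Finite H] (V : Subgroup H) [V.Normal]
    (hV : V ≠ ⊥) (hab : ∀ a ∈ V, ∀ b ∈ V, a * b = b * a)
    (hfpf : ∀ g : H, g ∉ V → ∀ x ∈ V, g * x * g⁻¹ = x → x = 1) : V.index < Nat.card V := by
  classical
  have hVn : V.Normal := inferInstance
  obtain ⟨x, hxV, hx1⟩ : ∃ x ∈ V, x ≠ 1 := by
    by_contra h
    push Not at h
    exact hV ((Subgroup.eq_bot_iff_forall _).mpr h)
  have : Fintype (H ⧸ V) := Fintype.ofFinite _
  have : Fintype V := Fintype.ofFinite _
  let f : Option (H ⧸ V) → V := fun o => match o with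
    | none => 1
    | some c => ⟨c.out * x * c.out⁻¹, hVn.conj_mem x hxV c.out⟩
  have hne : ∀ c : H ⧸ V, f (some c) ≠ f none := by
    intro c hc
    have h1 : c.out * x * c.out⁻¹ = 1 := congrArg Subtype.val hc
    exact hx1 (conj_eq_one_iff.mp h1)
  have hinj : Function.Injective f := by
    intro a b hab'
    cases a with
    | none =>
      cases b with
      | none => rfl
      | some c => exact absurd hab'.symm (hne c)
    | some c =>
      cases b with
      | none => exact absurd hab' (hne c)
      | some c' =>
        have h : c.out * x * c.out⁻¹ = c'.out * x * c'.out⁻¹ := congrArg Subtype.val hab'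
        have hmem : c'.out⁻¹ * c.out ∈ V := by
          by_contra hn
          apply hx1
          apply hfpf _ hn x hxV
          have h2 : c'.out⁻¹ * c.out * x * (c'.out⁻¹ * c.out)⁻¹ =
              c'.out⁻¹ * (c.out * x * c.out⁻¹) * c'.out := by group
          rw [h2, h]; group
        have h3 : ((c'.out : H) : H ⧸ V) = ((c.out : H) : H ⧸ V) := QuotientGroup.eq.mpr hmem
        rw [QuotientGroup.out_eq', QuotientGroup.out_eq'] at h3
        rw [h3]
  have hle := Fintype.card_le_of_injective f hinj
  rw [Fintype.card_option] at hle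
  rw [Subgroup.index_eq_card, Nat.card_eq_fintype_card, Nat.card_eq_fintype_card]
  omega

end Cfsg.Agent.Helper62.CD3A
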