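import Mathlib
import Cfsg.Agent.Lib.Helper53.CD3ADefs
import Cfsg.Agent.Lib.Helper81.CharClifford

/-!
# CD3A (L124c) for helper53's server (S4460): a counting argument giving a member of `X`
whose inertia group is `F`.
-/

set_option autoImplicit false

namespace Cfsg.Agent.Helper62.CD3A

open Cfsg Cfsg.Agent.Helper53.CD3A Cfsg.Agent.Helper81
open scoped ComplexConjugate commutatorElement

universe u

/-- conjugating a class function of `F` by an element of `F` does nothing -/
theorem h62_conjFun_of_mem {G : Type u} [Group G] (F : Subgroup G) (hF : F.Normal) (ψ : F → ℂ)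
    (hψ : IsClassFunction F ψ) (f : G) (hf : f ∈ F) : conjFun F hF ψ f = ψ := by
  ext n
  rw [conjFun_apply]
  have h := hψ n ⟨f, hf⟩
  rw [← h]
  congr 1

/-- (L124c) counting: `conjFun F hF η g` only depends on the coset `g F` (`η` is a class function of `F`), each of the
`|G:F| - 1` nontrivial cosets fixes at most one member of the set `X`, and `|X| > |G:F| - 1`. -/
theorem exists_free_point {G : Type u} [Group G] [Finite G] (F : Subgroup G) (hF : F.Normal)
    (X : Set (IrrCharacter F)) (N : ℕ) (hX : Nat.card X = N) (hlt : F.index < N)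
    (huniq : ∀ g : G, g ∉ F → ∀ η ∈ X, ∀ η' ∈ X, conjFun F hF (η : F → ℂ) g = (η : F → ℂ) →
      conjFun F hF (η' : F → ℂ) g = (η' : F → ℂ) → η = η') :
    ∃ η ∈ X, ∀ g : G, conjFun F hF (η : F → ℂ) g = (η : F → ℂ) → g ∈ F := by
  by_contra hcon
  push Not at hcon
  choose! gsel hgsel using hcon
  have hFn := hF
  let φ : X → G ⧸ F := fun η => (gsel η.1 : G ⧸ F)
  have hinj : Function.Injective φ := by
    intro η η' h
    have h1 := hgsel η.1 η.2
    have h2 := hgsel η'.1 η'.2
    have hf : (gsel η'.1)⁻¹ * gsel η.1 ∈ F := QuotientGroup.eq.mp h.symm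
    apply Subtype.ext
    apply huniq (gsel η.1) h1.2 η.1 η.2 η'.1 η'.2 h1.1
    have hmul : gsel η.1 = gsel η'.1 * ((gsel η'.1)⁻¹ * gsel η.1) := by group
    rw [hmul, ← conjFun_mul, h2.1]
    exact h62_conjFun_of_mem F hF _
      (isClassFunction_of_isCharacter (IsIrrCharacter.isCharacter η'.1.2)) _ hf
  have hle := Nat.card_le_card_of_injective φ hinj
  rw [hX] at hle
  have hidx : Nat.card (G ⧸ F) = F.index := (Subgroup.index_eq_card F).symm
  omega

end Cfsg.Agent.Helper62.CD3A
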