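import Mathlib
import Cfsg.Agent.Lib.Helper14.GLIDefs

/-!
# GLI (GCOARSE) for helper14's server (S5958): coarsening an independent family along a map
`g : K → Fin t`.
-/

set_option autoImplicit false
set_option linter.unusedVariables false

namespace Cfsg.Agent.Helper62.GLI

open Module Polynomial Cfsg.Agent.Helper14.GLI

/-- the dimension of a finite supremum of an independent family is the sum of the dimensions -/
theorem h62_gl_finrank_biSup {F V : Type*} [Field F] [AddCommGroup V] [Module F V]
    [FiniteDimensional F V] {K : Type*} (W : K → Submodule F V) (hind : iSupIndep W)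
    (s : Finset K) : finrank F ↥(⨆ k ∈ s, W k) = ∑ k ∈ s, finrank F (W k) := by
  classical
  induction s using Finset.induction_on with
  | empty => simp
  | insert k s₀ hk ih =>
    rw [Finset.iSup_insert, Finset.sum_insert hk, ← ih]
    have hdisj : Disjoint (W k) (⨆ i ∈ s₀, W i) := by
      have h := hind.disjoint_biSup (x := k) (y := (↑s₀ : Set K)) (by simpa using hk)
      simpa using h
    have h := Submodule.finrank_sup_add_finrank_inf_eq (W k) (⨆ i ∈ s₀, W i)
    rw [disjoint_iff.mp hdisj, finrank_bot, add_zero] at h
    exact h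

/-- (GCOARSE) = SPI (COARSE) without the form. -/
theorem gl_coarsen {F V : Type*} [Field F] [AddCommGroup V] [Module F V] [FiniteDimensional F V]
    {K : Type*} [Fintype K] (R : Submodule F V)
    (W : K → Submodule F V) (hW : IsIndepFam R W) {t : ℕ} (g : K → Fin t) :
    IsIndepFam R (fun j : Fin t => ⨆ (k : K) (_ : g k = j), W k) ∧
      ∀ j : Fin t, finrank F ↥(⨆ (k : K) (_ : g k = j), W k) =
        ∑ k ∈ Finset.univ.filter (fun k => g k = j), finrank F (W k) := by
  classical
  have hD : ∀ j : Fin t, (⨆ (k : K) (_ : g k = j), W k) =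
      ⨆ k ∈ Finset.univ.filter (fun k => g k = j), W k := by
    intro j
    simp only [Finset.mem_filter, Finset.mem_univ, true_and]
  refine ⟨⟨?_, ?_⟩, ?_⟩
  · -- independence
    rw [iSupIndep_def]
    intro j
    have hdisj : Disjoint ({k | g k = j} : Set K) {k | g k ≠ j} := by
      rw [Set.disjoint_left]; intro k hk hk'; exact hk' hk
    have h := hW.indep.disjoint_biSup_biSup' hdisj (Set.toFinite _)
    refine h.mono ?_ ?_
    · exact le_refl _
    · refine iSup₂_le ?_
      intro j' hj'
      refine iSup₂_le ?_
      intro k hk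
      exact le_iSup₂ (f := fun i (_ : i ∈ {k | g k ≠ j}) => W i) k
        (by show g k ≠ j; rw [hk]; exact hj')
  · -- supremum
    rw [← hW.sup, iSup_comm]
    simp only [iSup_iSup_eq_right]
  · intro j
    rw [hD j]
    exact h62_gl_finrank_biSup W hW.indep _

end Cfsg.Agent.Helper62.GLI
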