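import Mathlib
import Cfsg.Agent.Lib.Helper14.GLIDefs

/-!
# GLI (GJOIN) for helper14's server (S5958): two independent families on complementary
subspaces join to an independent family.
-/

set_option autoImplicit false

namespace Cfsg.Agent.Helper62.GLI

open Module Polynomial Cfsg.Agent.Helper14.GLI

/-- (GJOIN) = SPI (JOIN) without the form. -/
theorem gl_join {F V : Type*} [Field F] [AddCommGroup V] [Module F V] {K K' : Type*}
    (U R T : Submodule F V) (hUR : U ⊓ R = ⊥) (hsup : U ⊔ R = T)
    (E : K → Submodule F V) (W : K' → Submodule F V)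
    (hE : IsIndepFam U E) (hW : IsIndepFam R W) :
    IsIndepFam T (Sum.elim E W) := by
  have hEU : ∀ k, E k ≤ U := fun k => hE.sup ▸ le_iSup E k
  have hWR : ∀ k, W k ≤ R := fun k => hW.sup ▸ le_iSup W k
  have hdisj : Disjoint U R := disjoint_iff.mpr hUR
  refine ⟨?_, ?_⟩
  · rw [iSupIndep_def]
    rintro (k | k)
    · -- `E k` against the rest
      have h1 : Disjoint (E k) (⨆ (j) (_ : j ≠ k), E j) := (iSupIndep_def.mp hE.indep) k
      have h2 : E k ⊔ (⨆ (j) (_ : j ≠ k), E j) ≤ U :=
        sup_le (hEU k) (iSup₂_le fun j _ => hEU j)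
      have h3 : Disjoint (E k ⊔ (⨆ (j) (_ : j ≠ k), E j)) R := hdisj.mono_left h2
      have h4 := h1.disjoint_sup_right_of_disjoint_sup_left h3
      refine h4.mono_right ?_
      refine iSup₂_le ?_
      rintro (j | j) hj
      · have hjk : j ≠ k := fun h => hj (by rw [h])
        exact le_sup_of_le_left (le_iSup₂ (f := fun j (_ : j ≠ k) => E j) j hjk)
      · exact le_sup_of_le_right (hWR j)
    · -- `W k` against the rest
      have h1 : Disjoint (W k) (⨆ (j) (_ : j ≠ k), W j) := (iSupIndep_def.mp hW.indep) k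
      have h2 : W k ⊔ (⨆ (j) (_ : j ≠ k), W j) ≤ R :=
        sup_le (hWR k) (iSup₂_le fun j _ => hWR j)
      have h3 : Disjoint (W k ⊔ (⨆ (j) (_ : j ≠ k), W j)) U := hdisj.symm.mono_left h2
      have h4 := h1.disjoint_sup_right_of_disjoint_sup_left h3
      refine h4.mono_right ?_
      refine iSup₂_le ?_
      rintro (j | j) hj
      · exact le_sup_of_le_right (hEU j)
      · have hjk : j ≠ k := fun h => hj (by rw [h])
        exact le_sup_of_le_left (le_iSup₂ (f := fun j (_ : j ≠ k) => W j) j hjk)
  · rw [iSup_sum]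
    simp only [Sum.elim_inl, Sum.elim_inr]
    rw [hE.sup, hW.sup, hsup]

end Cfsg.Agent.Helper62.GLI
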