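import Mathlib
import Cfsg.Agent.Lib.Helper14.GLIDefs
import Cfsg.Agent.Lib.Helper62.GLICOARSE

/-!
# GLI (GSPLIT) for helper14's server (S5958): a subspace splits into independent subspaces of
prescribed dimensions.
-/

set_option autoImplicit false
set_option linter.unusedVariables false

namespace Cfsg.Agent.Helper62.GLI

open Module Polynomial Cfsg.Agent.Helper14.GLI

/-- a colouring of `Fin m` with prescribed fibre sizes -/
theorem h62_gl_exists_colouring {t m : ℕ} (h : Fin t → ℕ) (hm : ∑ j, h j = m) :
    ∃ c : Fin m → Fin t, ∀ j, (Finset.univ.filter (fun i => c i = j)).card = h j := by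
  subst hm
  let φ : Fin (∑ j, h j) ≃ (Σ j : Fin t, Fin (h j)) := finSigmaFinEquiv.symm
  refine ⟨fun i => (φ i).1, fun j => ?_⟩
  have hset : Finset.univ.filter (fun i => (φ i).1 = j) =
      (Finset.univ : Finset (Fin (h j))).map
        ⟨fun y => φ.symm ⟨j, y⟩, fun y y' hyy' => by
          have h1 := φ.symm.injective hyy'
          simpa using h1⟩ := by
    ext i
    simp only [Finset.mem_filter, Finset.mem_univ, true_and, Finset.mem_map]
    constructor
    · intro hi
      rcases hφi : φ i with ⟨j', y'⟩
      rw [hφi] at hi
      have hi' : j' = j := hi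
      subst hi'
      refine ⟨y', ?_⟩
      show φ.symm ⟨j', y'⟩ = i
      rw [← hφi, Equiv.symm_apply_apply]
    · rintro ⟨y, rfl⟩
      show (φ (φ.symm ⟨j, y⟩)).1 = j
      rw [Equiv.apply_symm_apply]
  rw [hset, Finset.card_map, Finset.card_univ, Fintype.card_fin]

/-- (GSPLIT) a subspace splits into independent subspaces of prescribed dimensions. -/
theorem gl_split {F V : Type*} [Field F] [AddCommGroup V] [Module F V] [FiniteDimensional F V]
    (U : Submodule F V) {t : ℕ} (e : Fin t → ℕ) (hsum : ∑ j, e j = finrank F U) :
    ∃ E : Fin t → Submodule F V, IsIndepFam U E ∧ ∀ j, finrank F (E j) = e j := by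
  classical
  set m := finrank F U with hmdef
  let b : Basis (Fin m) F U := Module.finBasis F U
  set v : Fin m → V := fun i => ((b i : U) : V) with hvdef
  have hv : LinearIndependent F v :=
    b.linearIndependent.map' U.subtype (Submodule.ker_subtype U)
  have hvU : ∀ i, v i ∈ U := fun i => (b i).2
  set H : Fin m → Submodule F V := fun i => Submodule.span F {v i} with hHdef
  have hvH : ∀ i, v i ∈ H i := fun i => Submodule.subset_span (by simp)
  have hUspan : U = Submodule.span F (Set.range v) := by
    have h := congrArg (Submodule.map U.subtype) b.span_eq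
    rw [Submodule.map_subtype_top, Submodule.map_span, ← Set.range_comp] at h
    exact h.symm
  have hH : IsIndepFam U H := by
    refine ⟨?_, ?_⟩
    · rw [iSupIndep_def]
      intro i
      have hHi : H i = Submodule.span F (v '' {i}) := by
        rw [Set.image_singleton]
      have hle : (⨆ (i') (_ : i' ≠ i), H i') ≤ Submodule.span F (v '' {a | a ≠ i}) := by
        refine iSup₂_le ?_
        intro i' hi'
        refine Submodule.span_mono ?_
        rintro w rfl
        exact ⟨i', hi', rfl⟩
      rw [hHi]
      refine (hv.disjoint_span_image ?_).mono_right hle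
      rw [Set.disjoint_left]
      rintro a rfl ha
      exact ha rfl
    · apply le_antisymm
      · refine iSup_le ?_
        intro i
        refine Submodule.span_le.mpr ?_
        rintro w rfl
        exact hvU i
      · rw [hUspan]
        refine Submodule.span_le.mpr ?_
        rintro w ⟨a, rfl⟩
        exact (le_iSup H a) (hvH a)
  have hH1 : ∀ i, finrank F (H i) = 1 := by
    intro i
    exact finrank_span_singleton (hv.ne_zero i)
  obtain ⟨c, hc⟩ := h62_gl_exists_colouring e hsum
  obtain ⟨hfam, hfin⟩ := gl_coarsen U H hH c
  refine ⟨_, hfam, fun j => ?_⟩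
  rw [hfin j, Finset.sum_congr rfl (fun i _ => hH1 i), Finset.sum_const, smul_eq_mul, hc j,
    mul_one]

end Cfsg.Agent.Helper62.GLI
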