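import Mathlib
import Cfsg.Agent.Lib.Helper24.Coprime
import Cfsg.Agent.S4208

set_option autoImplicit false

/-!
# Hall–Higman `l_p ≤ d_p`, the case `p = 3`: group theory of the minimal configuration

`B` is a group of operators (a subgroup of `G`) normalising the normal `q`-subgroup `Q`, and `y` is
an element of order `p` centralised by `B`.
-/

namespace Cfsg.Agent.Helper62.HHDer

open Subgroup
open scoped commutatorElement

variable {G : Type*} [Group G] [Finite G]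

/-- The minimal situation relative to a group of operators `B`: if every proper `B`-invariant
subgroup of the normal `q`-subgroup `Q` is centralised by the `p`-element `y` (centralised by `B`)
but `Q` is not, then `C_Q(y) ≤ Z(Q)`. -/
theorem centralizer_le_center_of_minimalB {p q : ℕ} [hp : Fact p.Prime] [hq : Fact q.Prime]
    (hpq : p ≠ q) (Q : Subgroup G) [hQn : Q.Normal] (hQ : IsPGroup q Q) (B : Subgroup G) (y : G)
    (hBy : ∀ b ∈ B, b * y = y * b) (hy : y ^ p = 1) (hNC : ∃ g ∈ Q, g * y ≠ y * g)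
    (hmin : ∀ Q₁ : Subgroup G, Q₁ ≤ Q → Q₁ ≠ Q → (∀ b ∈ B, ∀ g ∈ Q₁, b * g * b⁻¹ ∈ Q₁) →
      ∀ g ∈ Q₁, g * y = y * g) :
    ∀ g ∈ Q, g * y = y * g → ∀ h ∈ Q, g * h = h * g := by
  set A := zpowers y with hA
  have hAcard : Nat.card A ∣ p := by
    rw [hA, Nat.card_zpowers]
    exact orderOf_dvd_of_pow_eq_one hy
  have hcop : (Nat.card A).Coprime (Nat.card Q) := by
    obtain ⟨k, hk⟩ := IsPGroup.iff_card.mp hQ
    rw [hk]
    apply Nat.Coprime.coprime_dvd_left hAcard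
    apply Nat.Coprime.pow_right
    exact (Nat.coprime_primes hp.out hq.out).mpr hpq
  have hAQ : A ≤ normalizer (Q : Set G) := by
    rw [normalizer_eq_top]
    exact le_top
  have hxA : ∀ b ∈ B, ∀ a ∈ A, b * a * b⁻¹ = a := by
    intro b hb a ha
    obtain ⟨k, rfl⟩ := mem_zpowers_iff.mp ha
    have : Commute b (y ^ k) := (show Commute b y from hBy b hb).zpow_right k
    rw [this.eq, mul_inv_cancel_right]
  have hAcent : ∀ {g : G}, g * y = y * g → ∀ a ∈ A, a * g = g * a := by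
    intro g hg a ha
    obtain ⟨k, rfl⟩ := mem_zpowers_iff.mp ha
    exact ((show Commute g y from hg).zpow_right k).symm.eq
  -- (b) `⁅Q, A⁆ = Q`
  have hcomm : ⁅Q, A⁆ = Q := by
    by_contra hne
    have hle : ⁅Q, A⁆ ≤ Q := Cfsg.Agent.Helper24.commutator_le_of_le_normalizer Q A hAQ
    have hxinv : ∀ b ∈ B, ∀ c ∈ ⁅Q, A⁆, b * c * b⁻¹ ∈ ⁅Q, A⁆ := by
      intro x hxB
      have hmap : (⁅Q, A⁆).map (MulAut.conj x).toMonoidHom = ⁅Q, A⁆ := by
        rw [map_commutator]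
        congr 1
        · ext a
          constructor
          · rintro ⟨b, hb, rfl⟩
            simp only [MulEquiv.coe_toMonoidHom, MulAut.conj_apply]
            exact hQn.conj_mem b hb x
          · intro ha
            refine ⟨x⁻¹ * a * x, ?_, ?_⟩
            · have := hQn.conj_mem a ha x⁻¹
              rwa [inv_inv] at this
            · simp only [MulEquiv.coe_toMonoidHom, MulAut.conj_apply]
              group
        · ext a
          constructor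
          · rintro ⟨b, hb, rfl⟩
            simp only [MulEquiv.coe_toMonoidHom, MulAut.conj_apply]
            rw [hxA x hxB b hb]
            exact hb
          · intro ha
            exact ⟨a, ha, by
              simp only [MulEquiv.coe_toMonoidHom, MulAut.conj_apply]; exact hxA x hxB a ha⟩
      intro c hc
      rw [← hmap]
      exact ⟨c, hc, by simp⟩
    have hcen := hmin _ hle hne hxinv
    have h2 : ⁅⁅Q, A⁆, A⁆ = ⊥ := by
      rw [commutator_eq_bot_iff_le_centralizer]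
      intro c hc
      rw [mem_centralizer_iff]
      intro a ha
      exact hAcent (hcen c hc) a ha
    have h3 := Cfsg.Agent.Helper24.le_centralizer_of_coprime Q A hAQ hcop h2
    obtain ⟨g, hg, hgy⟩ := hNC
    apply hgy
    have := mem_centralizer_iff.mp (h3 (mem_zpowers y)) g hg
    exact this
  -- (c) `D = C_Q(y)` is normalised by `Q`
  set D : Subgroup G := Q ⊓ centralizer ({y} : Set G) with hD
  have hDmem : ∀ g, g ∈ D ↔ g ∈ Q ∧ g * y = y * g := by
    intro g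
    rw [hD, mem_inf, mem_centralizer_singleton_iff]
  have hDQ : D ≤ Q := inf_le_left
  have hDne : D ≠ Q := by
    intro h
    obtain ⟨g, hg, hgy⟩ := hNC
    have : g ∈ D := by rw [h]; exact hg
    exact hgy ((hDmem g).mp this).2
  have hconjD : ∀ z : G, z * y = y * z → ∀ g ∈ D, z * g * z⁻¹ ∈ D := by
    intro z hz g hg
    rw [hDmem] at hg ⊢
    refine ⟨hQn.conj_mem g hg.1 z, ?_⟩
    have hz' : z⁻¹ * y = y * z⁻¹ := ((show Commute z y from hz).inv_left).eq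
    calc z * g * z⁻¹ * y = z * g * (z⁻¹ * y) := by group
      _ = z * (g * y) * z⁻¹ := by rw [hz']; group
      _ = z * (y * g) * z⁻¹ := by rw [hg.2]
      _ = (z * y) * g * z⁻¹ := by group
      _ = y * (z * g * z⁻¹) := by rw [hz]; group
  have hxD : ∀ x ∈ B, ∀ g ∈ D, x * g * x⁻¹ ∈ D := fun x hx => hconjD x (hBy x hx)
  have hxD' : ∀ x ∈ B, ∀ g ∈ D, x⁻¹ * g * x ∈ D := by
    intro x hx g hg
    have := hconjD x⁻¹ ((show Commute x y from hBy x hx).inv_left).eq g hg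
    rwa [inv_inv] at this
  have hQND : Q ≤ normalizer (D : Set G) := by
    by_contra hnot
    set N : Subgroup G := Q ⊓ normalizer (D : Set G) with hN
    have hNQ : N ≤ Q := inf_le_left
    have hNne : N ≠ Q := by
      intro h
      apply hnot
      rw [← h]
      exact inf_le_right
    have hxN : ∀ x ∈ B, ∀ g ∈ N, x * g * x⁻¹ ∈ N := by
      intro x hx g hg
      rw [hN, mem_inf] at hg ⊢
      refine ⟨hQn.conj_mem g hg.1 x, ?_⟩
      rw [mem_normalizer_iff]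
      intro d
      have hgN := mem_normalizer_iff.mp hg.2
      constructor
      · intro hd
        have h1 : x⁻¹ * d * x ∈ D := hxD' x hx d hd
        have h2 := (hgN _).mp h1
        have h3 := hxD x hx _ h2
        convert h3 using 1
        group
      · intro hd
        have h1 : x⁻¹ * (x * g * x⁻¹ * d * (x * g * x⁻¹)⁻¹) * x ∈ D := hxD' x hx _ hd
        have h2 : g * (x⁻¹ * d * x) * g⁻¹ ∈ D := by
          convert h1 using 1
          group
        have h3 := (hgN _).mpr h2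
        have h4 := hxD x hx _ h3
        convert h4 using 1
        group
    have hcen := hmin N hNQ hNne hxN
    have hND : N ≤ D := fun g hg => (hDmem g).mpr ⟨hNQ hg, hcen g hg⟩
    -- normaliser condition in `Q`
    have : Group.IsNilpotent Q := hQ.isNilpotent
    have hnc : NormalizerCondition Q := normalizerCondition_of_isNilpotent
    have hlt : D.subgroupOf Q < ⊤ := by
      rw [lt_top_iff_ne_top, Ne, subgroupOf_eq_top]
      intro h
      exact hDne (le_antisymm hDQ h)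
    have h1 := hnc _ hlt
    rw [← subgroupOf_normalizer_eq hDQ] at h1
    obtain ⟨g', hg', hg'D⟩ := SetLike.exists_of_lt h1
    apply hg'D
    rw [mem_subgroupOf] at hg' ⊢
    exact hND ⟨g'.2, hg'⟩
  -- (d) three subgroups
  have hAD : ⁅A, D⁆ = ⊥ := by
    rw [commutator_eq_bot_iff_le_centralizer]
    intro a ha
    rw [mem_centralizer_iff]
    intro d hd
    exact (hAcent ((hDmem d).mp hd).2 a ha).symm
  have h1 : ⁅⁅A, D⁆, Q⁆ = ⊥ := by rw [hAD, commutator_bot_left]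
  have h2 : ⁅⁅D, Q⁆, A⁆ = ⊥ := by
    have hle : ⁅D, Q⁆ ≤ D := Cfsg.Agent.Helper24.commutator_le_of_le_normalizer D Q hQND
    have : ⁅⁅D, Q⁆, A⁆ ≤ ⁅D, A⁆ := commutator_mono hle le_rfl
    rw [commutator_comm D A, hAD, le_bot_iff] at this
    exact this
  have h3 := commutator_commutator_eq_bot_of_rotate h1 h2
  rw [hcomm, commutator_eq_bot_iff_le_centralizer] at h3
  intro g hg hgy h hh
  have hgD : g ∈ D := (hDmem g).mpr ⟨hg, hgy⟩
  have := mem_centralizer_iff.mp (h3 hh) g hgD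
  exact this


/-- The centre of `Q`, as a subgroup of `G`. -/
def Zs (Q : Subgroup G) : Subgroup G := Q ⊓ centralizer (Q : Set G)

omit [Finite G] in
theorem mem_Zs {Q : Subgroup G} {g : G} : g ∈ Zs Q ↔ g ∈ Q ∧ ∀ h ∈ Q, g * h = h * g := by
  rw [Zs, mem_inf, mem_centralizer_iff]
  constructor
  · rintro ⟨h1, h2⟩; exact ⟨h1, fun h hh => (h2 h hh).symm⟩
  · rintro ⟨h1, h2⟩; exact ⟨h1, fun h hh => (h2 h hh).symm⟩

omit [Finite G] in
theorem Zs_le (Q : Subgroup G) : Zs Q ≤ Q := inf_le_left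

omit [Finite G] in
theorem Zs_conj {Q : Subgroup G} [hQn : Q.Normal] {g : G} (hg : g ∈ Zs Q) (w : G) :
    w * g * w⁻¹ ∈ Zs Q := by
  rw [mem_Zs] at hg ⊢
  refine ⟨hQn.conj_mem g hg.1 w, ?_⟩
  intro h hh
  have h1 : w⁻¹ * h * w ∈ Q := by
    have := hQn.conj_mem h hh w⁻¹
    rwa [inv_inv] at this
  have h2 := hg.2 _ h1
  calc w * g * w⁻¹ * h = w * (g * (w⁻¹ * h * w)) * w⁻¹ := by group
    _ = w * ((w⁻¹ * h * w) * g) * w⁻¹ := by rw [h2]
    _ = h * (w * g * w⁻¹) := by group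

/-- The elements of `Q` on which `w` acts trivially modulo the centre. -/
def Ysub (Q : Subgroup G) [hQn : Q.Normal] (w : G) : Subgroup G where
  carrier := {g | g ∈ Q ∧ w * g * w⁻¹ * g⁻¹ ∈ Zs Q}
  one_mem' := ⟨Q.one_mem, by simp [one_mem]⟩
  mul_mem' := by
    rintro g₁ g₂ ⟨h1, z1⟩ ⟨h2, z2⟩
    refine ⟨Q.mul_mem h1 h2, ?_⟩
    have hc := (mem_Zs.mp z2).2 _ (hQn.conj_mem g₁ h1 w)
    have e1 : w * (g₁ * g₂) * w⁻¹ * (g₁ * g₂)⁻¹ =
        (w * g₁ * w⁻¹) * (w * g₂ * w⁻¹ * g₂⁻¹) * g₁⁻¹ := by group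
    have e2 : (w * g₁ * w⁻¹) * (w * g₂ * w⁻¹ * g₂⁻¹) * g₁⁻¹ =
        (w * g₂ * w⁻¹ * g₂⁻¹) * (w * g₁ * w⁻¹ * g₁⁻¹) := by
      rw [← hc]
      group
    show w * (g₁ * g₂) * w⁻¹ * (g₁ * g₂)⁻¹ ∈ Zs Q
    rw [e1, e2]
    exact (Zs Q).mul_mem z2 z1
  inv_mem' := by
    rintro g ⟨h1, z1⟩
    refine ⟨Q.inv_mem h1, ?_⟩
    have e1 : w * g⁻¹ * w⁻¹ * g⁻¹⁻¹ = g⁻¹ * (w * g * w⁻¹ * g⁻¹)⁻¹ * g⁻¹⁻¹ := by group
    show w * g⁻¹ * w⁻¹ * g⁻¹⁻¹ ∈ Zs Q
    rw [e1]
    exact Zs_conj ((Zs Q).inv_mem z1) g⁻¹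

omit [Finite G] in
theorem mem_Ysub {Q : Subgroup G} [Q.Normal] {w g : G} :
    g ∈ Ysub Q w ↔ g ∈ Q ∧ w * g * w⁻¹ * g⁻¹ ∈ Zs Q := Iff.rfl

/-- The elements of `G` acting trivially on `Q` modulo its centre. -/
def Ksub (Q : Subgroup G) [hQn : Q.Normal] : Subgroup G where
  carrier := {w | ∀ g ∈ Q, w * g * w⁻¹ * g⁻¹ ∈ Zs Q}
  one_mem' := by
    intro g _
    simp [one_mem]
  mul_mem' := by
    intro w₁ w₂ h1 h2 g hg
    have hg2 : w₂ * g * w₂⁻¹ ∈ Q := hQn.conj_mem g hg w₂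
    have e : w₁ * w₂ * g * (w₁ * w₂)⁻¹ * g⁻¹ =
        (w₁ * (w₂ * g * w₂⁻¹) * w₁⁻¹ * (w₂ * g * w₂⁻¹)⁻¹) * (w₂ * g * w₂⁻¹ * g⁻¹) := by group
    rw [e]
    exact (Zs Q).mul_mem (h1 _ hg2) (h2 g hg)
  inv_mem' := by
    intro w h1 g hg
    have hg2 : w⁻¹ * g * w ∈ Q := by
      have := hQn.conj_mem g hg w⁻¹
      rwa [inv_inv] at this
    have e : w⁻¹ * g * w⁻¹⁻¹ * g⁻¹ = (w * (w⁻¹ * g * w) * w⁻¹ * (w⁻¹ * g * w)⁻¹)⁻¹ := by group
    rw [e]
    exact (Zs Q).inv_mem (h1 _ hg2)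

omit [Finite G] in
theorem mem_Ksub {Q : Subgroup G} [Q.Normal] {w : G} :
    w ∈ Ksub Q ↔ ∀ g ∈ Q, w * g * w⁻¹ * g⁻¹ ∈ Zs Q := Iff.rfl

/-- The minimal configuration. -/
structure MinCfg (Q B : Subgroup G) (x : G) : Prop where
  normal : Q.Normal
  two : IsPGroup 2 Q
  cent : ∀ b ∈ B, b * x = x * b
  cube : x ^ 3 = 1
  comm : x ∈ ⁅B, B⁆
  nc : ∃ g ∈ Q, g * x ≠ x * g
  min : ∀ Q₁ : Subgroup G, Q₁ ≤ Q → Q₁ ≠ Q → (∀ b ∈ B, ∀ g ∈ Q₁, b * g * b⁻¹ ∈ Q₁) →
    ∀ g ∈ Q₁, g * x = x * g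
  tb : ∀ g ∈ Q, g * (x * g * x⁻¹) = x * g * x⁻¹ * g → x * g * x⁻¹ = g
  uniq : ∀ e₁ ∈ Q, ∀ e₂ ∈ Q, (∀ h ∈ Q, e₁ * h = h * e₁) → (∀ h ∈ Q, e₂ * h = h * e₂) →
    e₁ ^ 2 = 1 → e₂ ^ 2 = 1 → e₁ ≠ 1 → e₂ ≠ 1 → e₁ = e₂

namespace MinCfg

variable {Q B : Subgroup G} {x : G}

theorem central_of_comm (h : MinCfg Q B x) {g : G} (hg : g ∈ Q) (hgx : g * x = x * g) :
    g ∈ Zs Q := by
  have := h.normal
  have h3 : Fact (Nat.Prime 3) := ⟨Nat.prime_three⟩
  have h2 : Fact (Nat.Prime 2) := ⟨Nat.prime_two⟩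
  rw [mem_Zs]
  refine ⟨hg, ?_⟩
  exact centralizer_le_center_of_minimalB (p := 3) (q := 2) (by norm_num) Q h.two B x h.cent h.cube
    h.nc h.min g hg hgx

theorem xconj_mem (h : MinCfg Q B x) {g : G} (hg : g ∈ Q) : x * g * x⁻¹ ∈ Q :=
  h.normal.conj_mem g hg x

theorem nonab (h : MinCfg Q B x) : ∃ a ∈ Q, ∃ b ∈ Q, a * b ≠ b * a := by
  by_contra hcon
  push Not at hcon
  obtain ⟨g, hg, hgx⟩ := h.nc
  apply hgx
  have h1 := h.tb g hg (hcon g hg _ (h.xconj_mem hg))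
  calc g * x = (x * g * x⁻¹) * x := by rw [h1]
    _ = x * g := by group

theorem Zs_comm (h : MinCfg Q B x) {g : G} (hg : g ∈ Zs Q) : g * x = x * g := by
  have := h.normal
  apply h.min (Zs Q) (Zs_le Q)
  · intro heq
    obtain ⟨a, ha, b, hb, hab⟩ := h.nonab
    apply hab
    have : a ∈ Zs Q := by rw [heq]; exact ha
    exact (mem_Zs.mp this).2 b hb
  · intro b _ g hg
    exact Zs_conj hg b
  · exact hg

theorem frat (h : MinCfg Q B x) {g k : G} (hg : g ∈ Q) (hk : k ∈ Q) :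
    g ^ 2 ∈ Zs Q ∧ g * k * g⁻¹ * k⁻¹ ∈ Zs Q := by
  have hn := h.normal
  have h2 : Fact (Nat.Prime 2) := ⟨Nat.prime_two⟩
  set Φ : Subgroup G := (frattini ↥Q).map Q.subtype with hΦ
  have hΦQ : Φ ≤ Q := Subgroup.map_subtype_le _
  have hne : Nontrivial ↥Q := by
    obtain ⟨a, ha, b, hb, hab⟩ := h.nonab
    refine ⟨⟨⟨a, ha⟩, 1, ?_⟩⟩
    intro h1
    apply hab
    have : a = 1 := congrArg Subtype.val h1
    rw [this, one_mul, mul_one]
  have hΦne : Φ ≠ Q := by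
    intro heq
    have h1 : frattini ↥Q = ⊤ := by
      rw [eq_top_iff]
      intro y _
      have : (y : G) ∈ Φ := by rw [heq]; exact y.2
      obtain ⟨y', hy', hyy⟩ := this
      have : y' = y := Subtype.ext hyy
      rw [← this]
      exact hy'
    obtain ⟨M, hM⟩ := (eq_top_or_exists_le_coatom (⊥ : Subgroup ↥Q)).resolve_left bot_ne_top
    have h3 := frattini_le_coatom hM.1
    rw [h1] at h3
    exact hM.1.1 (top_le_iff.mp h3)
  have hΦB : ∀ b ∈ B, ∀ g ∈ Φ, b * g * b⁻¹ ∈ Φ := by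
    rintro b _ _ ⟨y, hy, rfl⟩
    have hchar : (frattini ↥Q).Characteristic := frattini_characteristic
    have h1 : (MulAut.conjNormal b : MulAut ↥Q) y ∈ frattini ↥Q := by
      have := hchar.fixed (MulAut.conjNormal b : MulAut ↥Q)
      rw [← this] at hy
      exact hy
    refine ⟨_, h1, ?_⟩
    exact MulAut.conjNormal_apply b y
  have hΦx : ∀ g ∈ Φ, g * x = x * g := h.min Φ hΦQ hΦne hΦB
  have hΦZ : Φ ≤ Zs Q := fun g hg => h.central_of_comm (hΦQ hg) (hΦx g hg)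
  obtain ⟨hfc, hfe⟩ := Cfsg.Agent.S4208.frattini_quot_props (h.two : IsPGroup 2 ↥Q)
  constructor
  · apply hΦZ
    refine ⟨⟨g, hg⟩ ^ 2, ?_, rfl⟩
    rw [SetLike.mem_coe, ← QuotientGroup.eq_one_iff, QuotientGroup.mk_pow]
    exact hfe _
  · apply hΦZ
    refine ⟨⟨g, hg⟩ * ⟨k, hk⟩ * ⟨g, hg⟩⁻¹ * ⟨k, hk⟩⁻¹, ?_, rfl⟩
    rw [SetLike.mem_coe, ← QuotientGroup.eq_one_iff, QuotientGroup.mk_mul, QuotientGroup.mk_mul,
      QuotientGroup.mk_mul, QuotientGroup.mk_inv, QuotientGroup.mk_inv,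
      hfc (⟨g, hg⟩ : ↥Q) (⟨k, hk⟩ : ↥Q)]
    group


end MinCfg

omit [Finite G] in
theorem comm_sq_eq_one {Q : Subgroup G} {u v : G} (hu : u ∈ Q) (hv : v ∈ Q) (hu2 : u ^ 2 ∈ Zs Q)
    (hk : u * v * u⁻¹ * v⁻¹ ∈ Zs Q) : (u * v * u⁻¹ * v⁻¹) ^ 2 = 1 := by
  obtain ⟨k, hkdef⟩ : ∃ k, k = u * v * u⁻¹ * v⁻¹ := ⟨_, rfl⟩
  rw [← hkdef] at hk ⊢
  have e1 : u * v = k * (v * u) := by rw [hkdef]; group
  have hku : k * u = u * k := (mem_Zs.mp hk).2 u hu
  have hu2v : u * u * v = v * (u * u) := by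
    have := (mem_Zs.mp hu2).2 v hv
    rwa [sq] at this
  have e2 : u * u * v = k * k * (v * (u * u)) := by
    calc u * u * v = u * (u * v) := by group
      _ = u * (k * (v * u)) := by rw [e1]
      _ = (u * k) * (v * u) := by group
      _ = (k * u) * (v * u) := by rw [hku]
      _ = k * ((u * v) * u) := by group
      _ = k * ((k * (v * u)) * u) := by rw [e1]
      _ = k * k * (v * (u * u)) := by group
  rw [hu2v] at e2
  have h3 := congrArg (· * (v * (u * u))⁻¹) e2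
  simp only [mul_inv_cancel, mul_assoc] at h3
  rw [mul_one] at h3
  rw [sq]
  exact h3.symm

omit [Finite G] in
theorem conj_comm_of_comm {a b : G} (hab : a * b = b * a) (w : G) :
    (w * a * w⁻¹) * (w * b * w⁻¹) = (w * b * w⁻¹) * (w * a * w⁻¹) := by
  calc (w * a * w⁻¹) * (w * b * w⁻¹) = w * (a * b) * w⁻¹ := by group
    _ = w * (b * a) * w⁻¹ := by rw [hab]
    _ = (w * b * w⁻¹) * (w * a * w⁻¹) := by group

namespace MinCfg

variable {Q B : Subgroup G} {x : G}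

theorem comm_of_conj_eq (_h : MinCfg Q B x) {g : G} (hg : x * g * x⁻¹ = g) : g * x = x * g := by
  calc g * x = (x * g * x⁻¹) * x := by rw [hg]
    _ = x * g := by group

theorem fpf (h : MinCfg Q B x) {g : G} (hg : g ∈ Q) (hz : x * g * x⁻¹ * g⁻¹ ∈ Zs Q) :
    g ∈ Zs Q := by
  have hn := h.normal
  have hY : g ∈ Ysub Q x := ⟨hg, hz⟩
  have hYQ : Ysub Q x ≤ Q := fun g hg => hg.1
  have hYne : Ysub Q x ≠ Q := by
    intro heq
    obtain ⟨g₀, hg₀, hne⟩ := h.nc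
    apply hne
    have h1 : g₀ ∈ Ysub Q x := by rw [heq]; exact hg₀
    obtain ⟨z, hzdef⟩ : ∃ z, z = x * g₀ * x⁻¹ * g₀⁻¹ := ⟨_, rfl⟩
    have hzZ : z ∈ Zs Q := by rw [hzdef]; exact h1.2
    have hzx : z * x = x * z := h.Zs_comm hzZ
    have e1 : x * g₀ * x⁻¹ = z * g₀ := by rw [hzdef]; group
    have a1 : x * (z * g₀) * x⁻¹ = z * (z * g₀) := by
      calc x * (z * g₀) * x⁻¹ = (x * z) * g₀ * x⁻¹ := by group
        _ = (z * x) * g₀ * x⁻¹ := by rw [hzx]
        _ = z * (x * g₀ * x⁻¹) := by group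
        _ = z * (z * g₀) := by rw [e1]
    have a2 : x * (z * (z * g₀)) * x⁻¹ = z * (z * (z * g₀)) := by
      calc x * (z * (z * g₀)) * x⁻¹ = (x * z) * (z * g₀) * x⁻¹ := by group
        _ = (z * x) * (z * g₀) * x⁻¹ := by rw [hzx]
        _ = z * (x * (z * g₀) * x⁻¹) := by group
        _ = z * (z * (z * g₀)) := by rw [a1]
    have hx3' : x * x * x = 1 := by
      rw [← h.cube]
      simp only [pow_succ, pow_zero, one_mul]
    have e3 : x * x * x * g₀ * (x * x * x)⁻¹ = z * (z * (z * g₀)) := by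
      calc x * x * x * g₀ * (x * x * x)⁻¹ = x * (x * (x * g₀ * x⁻¹) * x⁻¹) * x⁻¹ := by group
        _ = z * (z * (z * g₀)) := by rw [e1, a1, a2]
    rw [hx3'] at e3
    have hz3 : z ^ 3 = 1 := by
      have h5 : g₀ = z * (z * (z * g₀)) := by simpa using e3
      have h6 := congrArg (· * g₀⁻¹) h5
      simp only [mul_inv_cancel, mul_assoc, mul_one] at h6
      simp only [pow_succ, pow_zero, one_mul, mul_assoc]
      exact h6.symm
    obtain ⟨k, hk⟩ := h.two ⟨z, Zs_le Q hzZ⟩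
    have hk' : z ^ 2 ^ k = 1 := by
      have := congrArg Subtype.val hk
      simpa using this
    have hz1 : z = 1 := by
      have hd1 : orderOf z ∣ 3 := orderOf_dvd_of_pow_eq_one hz3
      have hd2 : orderOf z ∣ 2 ^ k := orderOf_dvd_of_pow_eq_one hk'
      have hcop : Nat.Coprime 3 (2 ^ k) := Nat.Coprime.pow_right k (by norm_num)
      exact orderOf_eq_one_iff.mp (Nat.eq_one_of_dvd_coprimes hcop hd1 hd2)
    rw [hz1, one_mul] at e1
    exact h.comm_of_conj_eq e1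
  have hYB : ∀ b ∈ B, ∀ g ∈ Ysub Q x, b * g * b⁻¹ ∈ Ysub Q x := by
    rintro b hb g ⟨hg1, hg2⟩
    refine ⟨hn.conj_mem g hg1 b, ?_⟩
    have hbx := h.cent b hb
    have hbx' : b⁻¹ * x⁻¹ = x⁻¹ * b⁻¹ := by rw [← mul_inv_rev, ← mul_inv_rev, hbx]
    have e : x * (b * g * b⁻¹) * x⁻¹ * (b * g * b⁻¹)⁻¹ = b * (x * g * x⁻¹ * g⁻¹) * b⁻¹ := by
      calc x * (b * g * b⁻¹) * x⁻¹ * (b * g * b⁻¹)⁻¹
          = (x * b) * g * (b⁻¹ * x⁻¹) * b * g⁻¹ * b⁻¹ := by group
        _ = (b * x) * g * (x⁻¹ * b⁻¹) * b * g⁻¹ * b⁻¹ := by rw [hbx, hbx']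
        _ = b * (x * g * x⁻¹ * g⁻¹) * b⁻¹ := by group
    show x * (b * g * b⁻¹) * x⁻¹ * (b * g * b⁻¹)⁻¹ ∈ Zs Q
    rw [e]
    exact Zs_conj hg2 b
  exact h.central_of_comm hg (h.min _ hYQ hYne hYB g hY)


/-- The minimal configuration is contradictory. -/
theorem false (h : MinCfg Q B x) : False := by
  have hn := h.normal
  obtain ⟨t, ht, htx⟩ := h.nc
  obtain ⟨t', ht'⟩ : ∃ t', t' = x * t * x⁻¹ := ⟨_, rfl⟩
  obtain ⟨t'', ht''⟩ : ∃ t'', t'' = x * t' * x⁻¹ := ⟨_, rfl⟩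
  have ht'Q : t' ∈ Q := ht' ▸ h.xconj_mem ht
  have ht''Q : t'' ∈ Q := ht'' ▸ h.xconj_mem ht'Q
  have hx3' : x * x * x = 1 := by
    rw [← h.cube]
    simp only [pow_succ, pow_zero, one_mul]
  have hx3 : x * t'' * x⁻¹ = t := by
    have e : x * t'' * x⁻¹ = (x * x * x) * t * (x * x * x)⁻¹ := by rw [ht'', ht']; group
    rw [e, hx3']
    group
  have htZ : t ∉ Zs Q := fun hc => htx (h.Zs_comm hc)
  obtain ⟨ε, hε⟩ : ∃ ε, ε = t * t' * t⁻¹ * t'⁻¹ := ⟨_, rfl⟩
  have hεZ : ε ∈ Zs Q := hε ▸ (h.frat ht ht'Q).2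
  have hεc : ∀ u ∈ Q, ε * u = u * ε := (mem_Zs.mp hεZ).2
  have htt' : t * t' = ε * (t' * t) := by rw [hε]; group
  have hε1 : ε ≠ 1 := by
    intro h1
    rw [h1, one_mul] at htt'
    rw [ht'] at htt'
    exact htx (h.comm_of_conj_eq (h.tb t ht htt'))
  have hε2 : ε * ε = 1 := by
    have := comm_sq_eq_one ht ht'Q (h.frat ht ht'Q).1 (h.frat ht ht'Q).2
    rw [← hε, sq] at this
    exact this
  -- commutation up to `ε`
  have hk : ∀ u ∈ Q, ∀ v ∈ Q, u * v = v * u ∨ u * v = ε * (v * u) := by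
    intro u hu v hv
    obtain ⟨k, hkdef⟩ : ∃ k, k = u * v * u⁻¹ * v⁻¹ := ⟨_, rfl⟩
    have hkZ : k ∈ Zs Q := hkdef ▸ (h.frat hu hv).2
    have huv : u * v = k * (v * u) := by rw [hkdef]; group
    by_cases hk1 : k = 1
    · left
      rw [huv, hk1, one_mul]
    · right
      have hk2 : k ^ 2 = 1 := by
        rw [hkdef]
        exact comm_sq_eq_one hu hv (h.frat hu hv).1 (h.frat hu hv).2
      have hε2' : ε ^ 2 = 1 := by rw [sq]; exact hε2
      have := h.uniq k (Zs_le Q hkZ) ε (Zs_le Q hεZ) (mem_Zs.mp hkZ).2 (mem_Zs.mp hεZ).2 hk2 hε2'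
        hk1 hε1
      rw [huv, this]
  have ht't : t' * t = ε * (t * t') := by
    rw [htt', ← mul_assoc, hε2, one_mul]
  -- `c = t t' t''` is central
  obtain ⟨c, hc⟩ : ∃ c, c = t * t' * t'' := ⟨_, rfl⟩
  have hcQ : c ∈ Q := hc ▸ Q.mul_mem (Q.mul_mem ht ht'Q) ht''Q
  have hcZ : c ∈ Zs Q := by
    apply h.fpf hcQ
    have e : x * c * x⁻¹ * c⁻¹ = (t' * t'') * t * (t' * t'')⁻¹ * t⁻¹ := by
      have e1 : x * c * x⁻¹ = (x * t * x⁻¹) * (x * t' * x⁻¹) * (x * t'' * x⁻¹) := by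
        rw [hc]; group
      rw [e1, hx3, ← ht', ← ht'', hc]
      group
    rw [e]
    exact (h.frat (Q.mul_mem ht'Q ht''Q) ht).2
  -- the key step
  have key : ∀ s ∈ Q, s * t = t * s → s * t' = t' * s → s ∈ Zs Q := by
    intro s hs hst hst'
    by_contra hsZ
    have hsx : s * x ≠ x * s := fun hcc => hsZ (h.central_of_comm hs hcc)
    obtain ⟨s', hs'⟩ : ∃ s', s' = x * s * x⁻¹ := ⟨_, rfl⟩
    have hs'Q : s' ∈ Q := hs' ▸ h.xconj_mem hs
    have hss' : s * s' = ε * (s' * s) := by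
      rcases hk s hs s' hs'Q with h1 | h1
      · exfalso
        rw [hs'] at h1
        exact hsx (h.comm_of_conj_eq (h.tb s hs h1))
      · exact h1
    have hst'' : s * t'' = t'' * s := by
      have e : t'' = t'⁻¹ * t⁻¹ * c := by rw [hc]; group
      have hcs : Commute s c := ((mem_Zs.mp hcZ).2 s hs).symm
      have a1 : Commute s t'⁻¹ := (show Commute s t' from hst').inv_right
      have a2 : Commute s t⁻¹ := (show Commute s t from hst).inv_right
      rw [e]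
      exact ((a1.mul_right a2).mul_right hcs).eq
    have hs't' : s' * t' = t' * s' := by
      rw [hs', ht']; exact conj_comm_of_comm hst x
    have hs't'' : s' * t'' = t'' * s' := by
      rw [hs', ht'']; exact conj_comm_of_comm hst' x
    have hs't : s' * t = t * s' := by
      have := conj_comm_of_comm hst'' x
      rw [hx3, ← hs'] at this
      exact this
    have hgQ : t * s ∈ Q := Q.mul_mem ht hs
    have hconj : x * (t * s) * x⁻¹ = t' * s' := by rw [ht', hs']; group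
    have hcomm : (t * s) * (t' * s') = (t' * s') * (t * s) := by
      have hεtt : (t' * t) * ε = ε * (t' * t) := (hεc _ (Q.mul_mem ht'Q ht)).symm
      calc (t * s) * (t' * s') = t * (s * t') * s' := by group
        _ = t * (t' * s) * s' := by rw [hst']
        _ = (t * t') * (s * s') := by group
        _ = (ε * (t' * t)) * (ε * (s' * s)) := by rw [htt', hss']
        _ = ε * ((t' * t) * ε) * (s' * s) := by group
        _ = ε * (ε * (t' * t)) * (s' * s) := by rw [hεtt]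
        _ = (ε * ε) * (t' * t * (s' * s)) := by group
        _ = t' * t * (s' * s) := by rw [hε2, one_mul]
        _ = t' * (t * s') * s := by group
        _ = t' * (s' * t) * s := by rw [hs't]
        _ = (t' * s') * (t * s) := by group
    have h1 : x * (t * s) * x⁻¹ = t * s := by
      apply h.tb (t * s) hgQ
      rw [hconj]
      exact hcomm
    have h2 : t * s ∈ Zs Q := h.central_of_comm hgQ (h.comm_of_conj_eq h1)
    have h3 : (t * s) * t' = t' * (t * s) := (mem_Zs.mp h2).2 t' ht'Q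
    have h4 : t * t' = t' * t := by
      have h5 : t * t' * s = t' * t * s := by
        calc t * t' * s = t * (t' * s) := by group
          _ = t * (s * t') := by rw [hst']
          _ = (t * s) * t' := by group
          _ = t' * (t * s) := h3
          _ = t' * t * s := by group
      exact mul_right_cancel h5
    rw [htt'] at h4
    apply hε1
    have h6 := congrArg (· * (t' * t)⁻¹) h4
    simp only [mul_inv_cancel, mul_assoc, mul_one] at h6
    exact h6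
  -- decomposition of `Q` modulo the centre
  have hdec : ∀ g ∈ Q, ∃ h₁ ∈ Q, ∃ h₂ ∈ Q, (h₁ = 1 ∨ h₁ = t') ∧ (h₂ = 1 ∨ h₂ = t) ∧
      g * h₁ * h₂ ∈ Zs Q := by
    intro g hg
    -- first make it commute with `t`
    have hA : ∃ h₁ ∈ Q, (h₁ = 1 ∨ h₁ = t') ∧ (g * h₁) * t = t * (g * h₁) := by
      rcases hk g hg t ht with a | a
      · exact ⟨1, Q.one_mem, Or.inl rfl, by rw [mul_one]; exact a⟩
      · refine ⟨t', ht'Q, Or.inr rfl, ?_⟩
        have hεg : g * ε = ε * g := (hεc g hg).symm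
        calc (g * t') * t = g * (t' * t) := by group
          _ = g * (ε * (t * t')) := by rw [ht't]
          _ = (g * ε) * t * t' := by group
          _ = (ε * g) * t * t' := by rw [hεg]
          _ = ε * (g * t) * t' := by group
          _ = ε * (ε * (t * g)) * t' := by rw [a]
          _ = (ε * ε) * (t * (g * t')) := by group
          _ = t * (g * t') := by rw [hε2, one_mul]
    obtain ⟨h₁, hh₁Q, hh₁, hc1⟩ := hA
    have hg1Q : g * h₁ ∈ Q := Q.mul_mem hg hh₁Q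
    rcases hk (g * h₁) hg1Q t' ht'Q with b | b
    · refine ⟨h₁, hh₁Q, 1, Q.one_mem, hh₁, Or.inl rfl, ?_⟩
      rw [mul_one]
      exact key _ hg1Q hc1 b
    · refine ⟨h₁, hh₁Q, t, ht, hh₁, Or.inr rfl, ?_⟩
      apply key _ (Q.mul_mem hg1Q ht)
      · calc (g * h₁ * t) * t = (t * (g * h₁)) * t := by rw [hc1]
          _ = t * (g * h₁ * t) := by group
      · have hεg : (g * h₁) * ε = ε * (g * h₁) := (hεc _ hg1Q).symm
        calc (g * h₁ * t) * t' = (g * h₁) * (t * t') := by group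
          _ = (g * h₁) * (ε * (t' * t)) := by rw [htt']
          _ = ((g * h₁) * ε) * t' * t := by group
          _ = (ε * (g * h₁)) * t' * t := by rw [hεg]
          _ = ε * ((g * h₁) * t') * t := by group
          _ = ε * (ε * (t' * (g * h₁))) * t := by rw [b]
          _ = (ε * ε) * (t' * (g * h₁ * t)) := by group
          _ = t' * (g * h₁ * t) := by rw [hε2, one_mul]
  -- every element of `B` acts on `Q / Z(Q)` as a power of `x`
  have hZY : ∀ w : G, Zs Q ≤ Ysub Q w := by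
    intro w z hz
    refine ⟨Zs_le Q hz, ?_⟩
    exact (Zs Q).mul_mem (Zs_conj hz w) ((Zs Q).inv_mem hz)
  have hK : ∀ w : G, w * x = x * w → w * t * w⁻¹ * t⁻¹ ∈ Zs Q → w ∈ Ksub Q := by
    intro w hwx hwt
    have h1 : t ∈ Ysub Q w := ⟨ht, hwt⟩
    have h2 : t' ∈ Ysub Q w := by
      refine ⟨ht'Q, ?_⟩
      have hwx' : w⁻¹ * x⁻¹ = x⁻¹ * w⁻¹ := by rw [← mul_inv_rev, ← mul_inv_rev, hwx]
      have e : w * t' * w⁻¹ * t'⁻¹ = x * (w * t * w⁻¹ * t⁻¹) * x⁻¹ := by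
        rw [ht']
        calc w * (x * t * x⁻¹) * w⁻¹ * (x * t * x⁻¹)⁻¹
            = (w * x) * t * (x⁻¹ * w⁻¹) * x * t⁻¹ * x⁻¹ := by group
          _ = (x * w) * t * (w⁻¹ * x⁻¹) * x * t⁻¹ * x⁻¹ := by rw [hwx, hwx']
          _ = x * (w * t * w⁻¹ * t⁻¹) * x⁻¹ := by group
      rw [e]
      exact Zs_conj hwt x
    rw [mem_Ksub]
    intro g hg
    obtain ⟨h₁, _, h₂, _, hh₁, hh₂, hz⟩ := hdec g hg
    have hh₁Y : h₁ ∈ Ysub Q w := by
      rcases hh₁ with e₁ | e₁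
      · rw [e₁]; exact (Ysub Q w).one_mem
      · rw [e₁]; exact h2
    have hh₂Y : h₂ ∈ Ysub Q w := by
      rcases hh₂ with e₂ | e₂
      · rw [e₂]; exact (Ysub Q w).one_mem
      · rw [e₂]; exact h1
    have hgY : g ∈ Ysub Q w := by
      have e : g = (g * h₁ * h₂) * h₂⁻¹ * h₁⁻¹ := by group
      rw [e]
      exact (Ysub Q w).mul_mem ((Ysub Q w).mul_mem (hZY w hz) ((Ysub Q w).inv_mem hh₂Y))
        ((Ysub Q w).inv_mem hh₁Y)
    exact hgY.2
  have hxpow : ∀ (i : ℕ) (b : G), b ∈ B → (x ^ i * b) * x = x * (x ^ i * b) := by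
    intro i b hb
    have h1 : Commute b x := h.cent b hb
    have h2 : Commute (x ^ i) x := (Commute.refl x).pow_left i
    exact (h2.mul_left h1).eq
  have hBK : ∀ b ∈ B, ∃ i : ℕ, x ^ i * b ∈ Ksub Q := by
    intro b hb
    have hu : b * t * b⁻¹ ∈ Q := hn.conj_mem t ht b
    have huZ : b * t * b⁻¹ ∉ Zs Q := by
      intro hcon
      apply htZ
      have := Zs_conj hcon b⁻¹
      have e : b⁻¹ * (b * t * b⁻¹) * b⁻¹⁻¹ = t := by group
      rwa [e] at this
    obtain ⟨h₁, _, h₂, _, hh₁, hh₂, hz⟩ := hdec _ hu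
    have ht2 : t * t ∈ Zs Q := by
      have := (h.frat ht ht).1
      rwa [sq] at this
    have ht'2 : t' * t' ∈ Zs Q := by
      have := (h.frat ht'Q ht'Q).1
      rwa [sq] at this
    rcases hh₁ with e₁ | e₁ <;> rcases hh₂ with e₂ | e₂ <;> rw [e₁, e₂] at hz
    · exfalso
      apply huZ
      simpa using hz
    · -- `b t b⁻¹ t ∈ Z`
      refine ⟨0, ?_⟩
      rw [pow_zero, one_mul]
      apply hK b (h.cent b hb)
      have e : b * t * b⁻¹ * t⁻¹ = (b * t * b⁻¹ * 1 * t) * (t * t)⁻¹ := by group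
      rw [e]
      exact (Zs Q).mul_mem hz ((Zs Q).inv_mem ht2)
    · -- `b t b⁻¹ t' ∈ Z`
      refine ⟨2, ?_⟩
      apply hK _ (hxpow 2 b hb)
      have hz' : b * t * b⁻¹ * t'⁻¹ ∈ Zs Q := by
        have e : b * t * b⁻¹ * t'⁻¹ = (b * t * b⁻¹ * t' * 1) * (t' * t')⁻¹ := by group
        rw [e]
        exact (Zs Q).mul_mem hz ((Zs Q).inv_mem ht'2)
      have hxi : x ^ 2 = x⁻¹ := by
        rw [eq_inv_iff_mul_eq_one, sq]
        exact hx3'
      have e : x ^ 2 * b * t * (x ^ 2 * b)⁻¹ * t⁻¹ = x⁻¹ * (b * t * b⁻¹ * t'⁻¹) * x⁻¹⁻¹ := by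
        rw [hxi, ht']
        group
      rw [e]
      exact Zs_conj hz' x⁻¹
    · -- `b t b⁻¹ t' t ∈ Z`
      refine ⟨1, ?_⟩
      rw [pow_one]
      have := hxpow 1 b hb
      rw [pow_one] at this
      apply hK _ this
      have hz' : b * t * b⁻¹ * t''⁻¹ ∈ Zs Q := by
        -- `t' t = ε t t' = ε c t''⁻¹`
        have e1 : t' * t = ε * c * t''⁻¹ := by
          rw [ht't, hc]; group
        have hεcZ : ε * c ∈ Zs Q := (Zs Q).mul_mem hεZ hcZ
        have hcomm : (b * t * b⁻¹) * (ε * c) = (ε * c) * (b * t * b⁻¹) :=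
          ((mem_Zs.mp hεcZ).2 _ hu).symm
        have e2 : b * t * b⁻¹ * t' * t = (ε * c) * (b * t * b⁻¹ * t''⁻¹) := by
          calc b * t * b⁻¹ * t' * t = (b * t * b⁻¹) * (t' * t) := by group
            _ = (b * t * b⁻¹) * (ε * c * t''⁻¹) := by rw [e1]
            _ = ((b * t * b⁻¹) * (ε * c)) * t''⁻¹ := by group
            _ = ((ε * c) * (b * t * b⁻¹)) * t''⁻¹ := by rw [hcomm]
            _ = (ε * c) * (b * t * b⁻¹ * t''⁻¹) := by group
        rw [e2] at hz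
        have e3 : b * t * b⁻¹ * t''⁻¹ = (ε * c)⁻¹ * ((ε * c) * (b * t * b⁻¹ * t''⁻¹)) := by group
        rw [e3]
        exact (Zs Q).mul_mem ((Zs Q).inv_mem hεcZ) hz
      have e : x * b * t * (x * b)⁻¹ * t⁻¹ = x * (b * t * b⁻¹ * t''⁻¹) * x⁻¹ := by
        have e4 : t⁻¹ = x * t''⁻¹ * x⁻¹ := by
          rw [← hx3]; group
        rw [e4]
        group
      rw [e]
      exact Zs_conj hz' x
  -- the commutator subgroup of `B` acts trivially
  have hcommK : ⁅B, B⁆ ≤ Ksub Q := by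
    rw [Subgroup.commutator_le]
    intro b hb b' hb'
    obtain ⟨i, hi⟩ := hBK b hb
    obtain ⟨j, hj⟩ := hBK b' hb'
    have hXb : Commute (x ^ i) b := ((show Commute b x from h.cent b hb).pow_right i).symm
    have hXb' : Commute (x ^ i) b' := ((show Commute b' x from h.cent b' hb').pow_right i).symm
    have hYb : Commute (x ^ j) b := ((show Commute b x from h.cent b hb).pow_right j).symm
    have hYb' : Commute (x ^ j) b' := ((show Commute b' x from h.cent b' hb').pow_right j).symm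
    have hXY : Commute (x ^ i) (x ^ j) := (Commute.refl x).pow_pow i j
    have e : ⁅b, b'⁆ = (x ^ i * b) * (x ^ j * b') * (x ^ i * b)⁻¹ * (x ^ j * b')⁻¹ := by
      rw [commutatorElement_def]
      have hS : Commute (x ^ i) (b * x ^ j * b' * b⁻¹) :=
        ((hXb.mul_right hXY).mul_right hXb').mul_right hXb.inv_right
      have hT : Commute (x ^ j) (b * b' * b⁻¹ * b'⁻¹) :=
        ((hYb.mul_right hYb').mul_right hYb.inv_right).mul_right hYb'.inv_right
      calc b * b' * b⁻¹ * b'⁻¹ = (x ^ j * (b * b' * b⁻¹ * b'⁻¹)) * (x ^ j)⁻¹ := by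
            rw [hT.eq]; group
        _ = (x ^ j * b) * b' * b⁻¹ * b'⁻¹ * (x ^ j)⁻¹ := by group
        _ = (b * x ^ j) * b' * b⁻¹ * b'⁻¹ * (x ^ j)⁻¹ := by rw [hYb.eq]
        _ = (b * x ^ j * b' * b⁻¹) * b'⁻¹ * (x ^ j)⁻¹ := by group
        _ = ((x ^ i * (b * x ^ j * b' * b⁻¹)) * (x ^ i)⁻¹) * b'⁻¹ * (x ^ j)⁻¹ := by
            rw [hS.eq]; group
        _ = (x ^ i * b) * (x ^ j * b') * (x ^ i * b)⁻¹ * (x ^ j * b')⁻¹ := by group
    rw [e]
    exact (Ksub Q).mul_mem ((Ksub Q).mul_mem ((Ksub Q).mul_mem hi hj) ((Ksub Q).inv_mem hi))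
      ((Ksub Q).inv_mem hj)
  have hxK : x ∈ Ksub Q := hcommK h.comm
  exact htZ (h.fpf ht (mem_Ksub.mp hxK t ht))

end MinCfg

omit [Finite G] in
/-- The centre of `Q` is centralised by `x` in the minimal situation (no uniqueness needed). -/
theorem Zs_comm_of {Q B : Subgroup G} {x : G} [hQn : Q.Normal]
    (nc : ∃ g ∈ Q, g * x ≠ x * g)
    (min : ∀ Q₁ : Subgroup G, Q₁ ≤ Q → Q₁ ≠ Q → (∀ b ∈ B, ∀ g ∈ Q₁, b * g * b⁻¹ ∈ Q₁) →
      ∀ g ∈ Q₁, g * x = x * g)
    (tb : ∀ g ∈ Q, g * (x * g * x⁻¹) = x * g * x⁻¹ * g → x * g * x⁻¹ = g) :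
    ∀ z ∈ Zs Q, z * x = x * z := by
  have hnonab : ∃ a ∈ Q, ∃ b ∈ Q, a * b ≠ b * a := by
    by_contra hcon
    push Not at hcon
    obtain ⟨g, hg, hgx⟩ := nc
    apply hgx
    have h1 := tb g hg (hcon g hg _ (hQn.conj_mem g hg x))
    calc g * x = (x * g * x⁻¹) * x := by rw [h1]
      _ = x * g := by group
  apply min (Zs Q) (Zs_le Q)
  · intro heq
    obtain ⟨a, ha, b, hb, hab⟩ := hnonab
    apply hab
    have : a ∈ Zs Q := by rw [heq]; exact ha
    exact (mem_Zs.mp this).2 b hb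
  · intro b _ g hg
    exact Zs_conj hg b

end Cfsg.Agent.Helper62.HHDer
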