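import Mathlib
import Cfsg.Agent.Lib.Helper62.HHDerA
import Cfsg.Agent.Lib.Helper31.HHSubQuot

set_option autoImplicit false

/-!
# Hall–Higman `l_p ≤ d_p`, the case `p = 3`: the Clifford step

In the minimal configuration (faithful irreducible representation of `G = Q B`) the centre of `Q`
acts by scalars; in particular it contains at most one involution.
-/

namespace Cfsg.Agent.Helper62.HHDer

open Subgroup Module Cfsg.Agent.Helper31.HH

variable {K : Type*} [Field K] {V : Type*} [AddCommGroup V] [Module K V]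
variable {G : Type*} [Group G]

theorem Zs_normal (Q : Subgroup G) [Q.Normal] : (Zs Q).Normal :=
  ⟨fun _ hg w => Zs_conj hg w⟩

/-- The simultaneous generalised eigenspace of the centre of `Q`. -/
def Vchi (ρ : Representation K G V) (Q : Subgroup G) (χ : ↥(Zs Q) → K) : Submodule K V :=
  ⨅ z : ↥(Zs Q), Module.End.maxGenEigenspace (ρ (z : G)) (χ z)

theorem mem_Vchi (ρ : Representation K G V) (Q : Subgroup G) (χ : ↥(Zs Q) → K) (v : V) :
    v ∈ Vchi ρ Q χ ↔ ∀ z : ↥(Zs Q), ∃ k : ℕ, ((ρ (z : G) - χ z • (1 : End K V)) ^ k) v = 0 := by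
  rw [Vchi, Submodule.mem_iInf]
  constructor
  · intro h z
    exact (Module.End.mem_maxGenEigenspace _ _ _).mp (h z)
  · intro h z
    exact (Module.End.mem_maxGenEigenspace _ _ _).mpr (h z)

theorem comm_Zs (ρ : Representation K G V) (Q : Subgroup G) (z z' : ↥(Zs Q)) :
    Commute (ρ (z : G)) (ρ (z' : G)) := by
  show ρ (z : G) * ρ (z' : G) = ρ (z' : G) * ρ (z : G)
  rw [← map_mul, ← map_mul, (mem_Zs.mp z.2).2 _ (Zs_le Q z'.2)]

theorem iSup_Vchi [IsAlgClosed K] [FiniteDimensional K V] (ρ : Representation K G V)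
    (Q : Subgroup G) : ⨆ χ : ↥(Zs Q) → K, Vchi ρ Q χ = ⊤ := by
  have := Module.End.iSup_iInf_maxGenEigenspace_eq_top_of_iSup_maxGenEigenspace_eq_top_of_commute
    (fun z : ↥(Zs Q) => (ρ (z : G) : End K V)) (fun z z' _ => comm_Zs ρ Q z z')
    (fun z => Module.End.iSup_maxGenEigenspace_eq_top _)
  exact this

theorem indep_Vchi (ρ : Representation K G V) (Q : Subgroup G) :
    iSupIndep (fun χ : ↥(Zs Q) → K => Vchi ρ Q χ) := by
  have := Module.End.independent_iInf_maxGenEigenspace_of_forall_mapsTo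
    (fun z : ↥(Zs Q) => (ρ (z : G) : End K V))
    (fun z z' φ => Module.End.mapsTo_maxGenEigenspace_of_comm (comm_Zs ρ Q z' z) φ)
  exact this

/-- The twist of a character of the centre by an element of `G`. -/
def twist (Q : Subgroup G) [Q.Normal] (b : G) (χ : ↥(Zs Q) → K) : ↥(Zs Q) → K :=
  have := Zs_normal Q
  fun z => χ ((MulAut.conjNormal b⁻¹ : MulAut ↥(Zs Q)) z)

theorem map_mem_Vchi (ρ : Representation K G V) (Q : Subgroup G) [Q.Normal] (b : G)
    (χ : ↥(Zs Q) → K) {v : V} (hv : v ∈ Vchi ρ Q χ) : ρ b v ∈ Vchi ρ Q (twist Q b χ) := by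
  have hn := Zs_normal Q
  rw [mem_Vchi] at hv ⊢
  intro z'
  obtain ⟨z, hz⟩ : ∃ z : ↥(Zs Q), z = (MulAut.conjNormal b⁻¹ : MulAut ↥(Zs Q)) z' := ⟨_, rfl⟩
  obtain ⟨k, hk⟩ := hv z
  refine ⟨k, ?_⟩
  have hzc : (z : G) = b⁻¹ * z' * b := by
    rw [hz, MulAut.conjNormal_apply, inv_inv]
  have hc : χ z = twist Q b χ z' := by rw [hz]; rfl
  rw [← hc]
  have e1 : ρ b * ρ (z : G) = ρ (z' : G) * ρ b := by
    rw [← map_mul, ← map_mul, hzc]
    congr 1
    group
  have hsc : SemiconjBy (ρ b) (ρ (z : G) - χ z • (1 : End K V))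
      (ρ (z' : G) - χ z • (1 : End K V)) := by
    show ρ b * (ρ (z : G) - χ z • (1 : End K V)) = (ρ (z' : G) - χ z • (1 : End K V)) * ρ b
    rw [mul_sub, sub_mul, e1]
    simp
  have hsck := hsc.pow_right k
  have h2 : ((ρ (z' : G) - χ z • (1 : End K V)) ^ k) (ρ b v) =
      ρ b (((ρ (z : G) - χ z • (1 : End K V)) ^ k) v) := by
    have := congrArg (fun f : End K V => f v) hsck.eq
    simp only [Module.End.mul_apply] at this
    exact this.symm
  rw [h2, hk, map_zero]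

theorem twist_eq_self (Q : Subgroup G) [Q.Normal] (g : G)
    (hg : ∀ z ∈ Zs Q, g * z = z * g) (χ : ↥(Zs Q) → K) : twist Q g χ = χ := by
  have hn := Zs_normal Q
  funext z
  show χ ((MulAut.conjNormal g⁻¹ : MulAut ↥(Zs Q)) z) = χ z
  congr 1
  apply Subtype.ext
  rw [MulAut.conjNormal_apply, inv_inv]
  have := hg z z.2
  calc g⁻¹ * (z : G) * g = g⁻¹ * (g * z) := by rw [this]; group
    _ = z := by group

theorem twist_twist_inv (Q : Subgroup G) [Q.Normal] (b : G) (χ : ↥(Zs Q) → K) :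
    twist Q b (twist Q b⁻¹ χ) = χ := by
  have hn := Zs_normal Q
  funext z
  show χ ((MulAut.conjNormal b⁻¹⁻¹ : MulAut ↥(Zs Q)) ((MulAut.conjNormal b⁻¹ : MulAut ↥(Zs Q)) z))
    = χ z
  congr 1
  apply Subtype.ext
  rw [MulAut.conjNormal_apply, MulAut.conjNormal_apply]
  group


theorem pow_apply_of_apply_eq_smul (f : End K V) (μ : K) (u : V) (h : f u = μ • u) (k : ℕ) :
    (f ^ k) u = μ ^ k • u := by
  induction k with
  | zero => simp
  | succ k ih =>
    rw [pow_succ, Module.End.mul_apply, h, map_smul, ih, smul_smul, pow_succ, mul_comm]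

/-- An involution with a single generalised eigenvalue is `± 1`. -/
theorem invol_eq_one_or_neg_one (h2 : (2 : K) ≠ 0) (E : End K V) (hE : E * E = 1) (c : K)
    (hc : ∀ v : V, ∃ k : ℕ, ((E - c • (1 : End K V)) ^ k) v = 0) : E = 1 ∨ E = -1 := by
  have hEE : ∀ v, E (E v) = v := by
    intro v
    have := congrArg (fun f : End K V => f v) hE
    simpa using this
  by_cases hc1 : c = 1
  · left
    apply LinearMap.ext
    intro v
    obtain ⟨u, hu⟩ : ∃ u, u = v - E v := ⟨_, rfl⟩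
    have h1 : (E - c • (1 : End K V)) u = (-2 : K) • u := by
      rw [hc1, hu]
      simp only [LinearMap.sub_apply, Module.End.one_apply, map_sub, hEE, one_smul]
      rw [neg_smul, two_smul]
      abel
    obtain ⟨k, hk⟩ := hc u
    rw [pow_apply_of_apply_eq_smul _ _ _ h1] at hk
    have hne : (-2 : K) ^ k ≠ 0 := pow_ne_zero _ (neg_ne_zero.mpr h2)
    have hu0 : u = 0 := (smul_eq_zero.mp hk).resolve_left hne
    rw [hu0] at hu
    rw [Module.End.one_apply]
    exact (sub_eq_zero.mp hu.symm).symm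
  · right
    apply LinearMap.ext
    intro v
    obtain ⟨u, hu⟩ : ∃ u, u = v + E v := ⟨_, rfl⟩
    have h1 : (E - c • (1 : End K V)) u = (1 - c) • u := by
      rw [hu]
      simp only [LinearMap.sub_apply, LinearMap.smul_apply, Module.End.one_apply, map_add, hEE]
      rw [sub_smul, one_smul, smul_add]
      abel
    obtain ⟨k, hk⟩ := hc u
    rw [pow_apply_of_apply_eq_smul _ _ _ h1] at hk
    have hne : (1 - c) ^ k ≠ 0 := pow_ne_zero _ (sub_ne_zero.mpr (Ne.symm hc1))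
    have hu0 : u = 0 := (smul_eq_zero.mp hk).resolve_left hne
    rw [hu0] at hu
    rw [LinearMap.neg_apply, Module.End.one_apply]
    exact (eq_neg_of_add_eq_zero_right hu.symm)

theorem inv_of_genB [Finite G] (ρ : Representation K G V) (Q B : Subgroup G)
    (hgen : Q ⊔ B = ⊤) (U : Submodule K V) (hQ : ∀ g ∈ Q, ∀ u ∈ U, ρ g u ∈ U)
    (hB : ∀ g ∈ B, ∀ u ∈ U, ρ g u ∈ U) : Inv ρ U := by
  have h1 : Q ≤ stab ρ U := fun g hg => (mem_stab ρ U).mpr (hQ g hg)
  have h2 : B ≤ stab ρ U := fun g hg => (mem_stab ρ U).mpr (hB g hg)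
  have h3 : (⊤ : Subgroup G) ≤ stab ρ U := hgen ▸ sup_le h1 h2
  intro g u hu
  exact (mem_stab ρ U).mp (h3 (mem_top g)) u hu

/-- **The Clifford step**: the centre of `Q` has at most one involution. -/
theorem uniq_of_irr [Finite G] [IsAlgClosed K] [FiniteDimensional K V] (h2 : (2 : K) ≠ 0)
    (ρ : Representation K G V) (hfaith : Function.Injective ρ)
    (Q : Subgroup G) [hQn : Q.Normal] (B : Subgroup G) (hgen : Q ⊔ B = ⊤) (x : G)
    (hZx : ∀ z ∈ Zs Q, z * x = x * z) (hx1 : x ≠ 1)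
    (hirr : ∀ U : Submodule K V, Inv ρ U → U = ⊥ ∨ U = ⊤)
    (hH : ∀ b ∈ B, ∀ b' ∈ B, (ρ x - 1) * (ρ b - 1) * (ρ b' - 1) = 0) :
    ∀ e₁ ∈ Q, ∀ e₂ ∈ Q, (∀ h ∈ Q, e₁ * h = h * e₁) → (∀ h ∈ Q, e₂ * h = h * e₂) →
      e₁ ^ 2 = 1 → e₂ ^ 2 = 1 → e₁ ≠ 1 → e₂ ≠ 1 → e₁ = e₂ := by
  -- a character on whose component `x` acts nontrivially
  have hex : ∃ χ : ↥(Zs Q) → K, ∃ v ∈ Vchi ρ Q χ, (ρ x - 1) v ≠ 0 := by
    by_contra hcon
    push Not at hcon
    apply hx1
    apply hfaith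
    rw [map_one]
    have hle : (⊤ : Submodule K V) ≤ LinearMap.ker (ρ x - 1) := by
      rw [← iSup_Vchi ρ Q]
      apply iSup_le
      intro χ v hv
      exact LinearMap.mem_ker.mpr (hcon χ v hv)
    apply LinearMap.ext
    intro v
    have := LinearMap.mem_ker.mp (hle (Submodule.mem_top (x := v)))
    rw [LinearMap.sub_apply, Module.End.one_apply] at this
    rw [Module.End.one_apply]
    exact sub_eq_zero.mp this
  obtain ⟨χ, v, hv, hvx⟩ := hex
  -- invariance under elements centralising the centre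
  have hVc : ∀ g : G, (∀ z ∈ Zs Q, g * z = z * g) → ∀ χ' : ↥(Zs Q) → K, ∀ u ∈ Vchi ρ Q χ',
      ρ g u ∈ Vchi ρ Q χ' := by
    intro g hg χ' u hu
    have := map_mem_Vchi ρ Q g χ' hu
    rwa [twist_eq_self Q g hg χ'] at this
  have hVx : ∀ χ' : ↥(Zs Q) → K, ∀ u ∈ Vchi ρ Q χ', (ρ x - 1) u ∈ Vchi ρ Q χ' := by
    intro χ' u hu
    rw [LinearMap.sub_apply, Module.End.one_apply]
    exact Submodule.sub_mem _ (hVc x (fun z hz => (hZx z hz).symm) χ' u hu) hu
  have hVQ : ∀ g ∈ Q, ∀ u ∈ Vchi ρ Q χ, ρ g u ∈ Vchi ρ Q χ := by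
    intro g hg u hu
    exact hVc g (fun z hz => ((mem_Zs.mp hz).2 g hg).symm) χ u hu
  have hVB : ∀ b ∈ B, ∀ u ∈ Vchi ρ Q χ, ρ b u ∈ Vchi ρ Q χ := by
    intro b hb u hu
    by_cases htw : twist Q b χ = χ
    · have := map_mem_Vchi ρ Q b χ hu
      rwa [htw] at this
    · exfalso
      apply hvx
      have htw2 : twist Q b⁻¹ χ ≠ χ := by
        intro hcon
        apply htw
        have := twist_twist_inv Q b χ
        rwa [hcon] at this
      obtain ⟨w₁, hw₁⟩ : ∃ w₁, w₁ = ρ b v := ⟨_, rfl⟩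
      obtain ⟨w₂, hw₂⟩ : ∃ w₂, w₂ = ρ b⁻¹ v := ⟨_, rfl⟩
      have hw₁V : w₁ ∈ Vchi ρ Q (twist Q b χ) := hw₁ ▸ map_mem_Vchi ρ Q b χ hv
      have hw₂V : w₂ ∈ Vchi ρ Q (twist Q b⁻¹ χ) := hw₂ ▸ map_mem_Vchi ρ Q b⁻¹ χ hv
      have hbw₂ : ρ b w₂ = v := by
        rw [hw₂, ← Module.End.mul_apply, ← map_mul, mul_inv_cancel, map_one, Module.End.one_apply]
      have h0 := congrArg (fun f : End K V => f v) (hH b hb b⁻¹ (B.inv_mem hb))
      simp only [Module.End.mul_apply, LinearMap.zero_apply] at h0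
      have e1 : (ρ b⁻¹ - 1) v = w₂ - v := by
        rw [LinearMap.sub_apply, Module.End.one_apply, hw₂]
      have e2 : (ρ b - 1) (w₂ - v) = (2 : K) • v - w₁ - w₂ := by
        rw [LinearMap.sub_apply, Module.End.one_apply, map_sub, hbw₂, ← hw₁, two_smul]
        abel
      rw [e1, e2, map_sub, map_sub, map_smul] at h0
      -- the component in `Vchi χ` vanishes
      have hy : (2 : K) • (ρ x - 1) v ∈ Vchi ρ Q χ := Submodule.smul_mem _ _ (hVx χ v hv)
      have hy2 : (2 : K) • (ρ x - 1) v ∈ ⨆ (j) (_ : j ≠ χ), Vchi ρ Q j := by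
        have e3 : (2 : K) • (ρ x - 1) v = (ρ x - 1) w₁ + (ρ x - 1) w₂ := by
          have := sub_eq_zero.mp h0
          rw [sub_eq_iff_eq_add] at this
          rw [this, add_comm]
        rw [e3]
        apply Submodule.add_mem
        · exact Submodule.mem_iSup_of_mem (twist Q b χ)
            (Submodule.mem_iSup_of_mem htw (hVx _ w₁ hw₁V))
        · exact Submodule.mem_iSup_of_mem (twist Q b⁻¹ χ)
            (Submodule.mem_iSup_of_mem htw2 (hVx _ w₂ hw₂V))
      have hdisj := (iSupIndep_def.mp (indep_Vchi ρ Q)) χ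
      have hzero := Submodule.disjoint_def.mp hdisj _ hy hy2
      exact (smul_eq_zero.mp hzero).resolve_left h2
  have hInv : Inv ρ (Vchi ρ Q χ) := inv_of_genB ρ Q B hgen _ hVQ hVB
  have htop : Vchi ρ Q χ = ⊤ := by
    rcases hirr _ hInv with h0 | h1
    · exfalso
      apply hvx
      rw [h0, Submodule.mem_bot] at hv
      rw [hv, map_zero]
    · exact h1
  -- involutions of the centre act as `-1`
  have hneg : ∀ e ∈ Q, (∀ h ∈ Q, e * h = h * e) → e ^ 2 = 1 → e ≠ 1 → ρ e = -1 := by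
    intro e he hec he2 he1
    have heZ : e ∈ Zs Q := mem_Zs.mpr ⟨he, hec⟩
    have hEE : ρ e * ρ e = 1 := by rw [← map_mul, ← sq, he2, map_one]
    have hc : ∀ u : V, ∃ k : ℕ, ((ρ e - χ ⟨e, heZ⟩ • (1 : End K V)) ^ k) u = 0 := by
      intro u
      have hu : u ∈ Vchi ρ Q χ := by rw [htop]; exact Submodule.mem_top
      exact (mem_Vchi ρ Q χ u).mp hu ⟨e, heZ⟩
    rcases invol_eq_one_or_neg_one h2 (ρ e) hEE _ hc with h1 | h1
    · exfalso
      apply he1
      apply hfaith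
      rw [h1, map_one]
    · exact h1
  intro e₁ he₁ e₂ he₂ hc₁ hc₂ hs₁ hs₂ hn₁ hn₂
  apply hfaith
  rw [hneg e₁ he₁ hc₁ hs₁ hn₁, hneg e₂ he₂ hc₂ hs₂ hn₂]

end Cfsg.Agent.Helper62.HHDer
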