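import Mathlib
import Cfsg.Agent.Lib.Helper62.HHDerA
import Cfsg.Agent.Lib.Helper62.HHDerB
import Cfsg.Agent.Lib.Helper31.HHBase

set_option autoImplicit false

/-!
# Hall–Higman `l_p ≤ d_p`, the case `p = 3`: the induction

`x` is an element of order `3` of the commutator subgroup of `B`, central in `B`, acting on the
`B`-invariant `2`-group `Q`, all inside a finite group with a representation in characteristic `3`
such that `(x - 1)(b - 1)(b' - 1) = 0` for `b, b' ∈ B`.  Then `x` centralises `Q`.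
-/

namespace Cfsg.Agent.Helper62.HHDer

open Subgroup Module Cfsg.Agent.Helper31.HH

/-- The statement proved by induction on `dim V + |Q|`. -/
def XStmt.{uG, uK, uV} (K : Type uK) [Field K] (N : ℕ) : Prop :=
  ∀ (V : Type uV) [AddCommGroup V] [Module K V] [FiniteDimensional K V]
    (G : Type uG) [Group G] [Finite G] (ρ : Representation K G V) (Q B : Subgroup G) (x : G),
    finrank K V + Nat.card Q ≤ N → IsPGroup 2 Q →
    (∀ b ∈ B, ∀ g ∈ Q, b * g * b⁻¹ ∈ Q) → (∀ b ∈ B, b * x = x * b) → x ∈ ⁅B, B⁆ → x ^ 3 = 1 →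
    (∀ b ∈ B, ∀ b' ∈ B, (ρ x - 1) * (ρ b - 1) * (ρ b' - 1) = 0) →
    (ρ x - 1) ^ 2 = 0 →
    ∀ g ∈ Q, ρ g * ρ x = ρ x * ρ g

theorem commutator_self_le {G : Type*} [Group G] (B : Subgroup G) : ⁅B, B⁆ ≤ B :=
  Subgroup.commutator_le.mpr fun _ h₁ _ h₂ =>
    B.mul_mem (B.mul_mem (B.mul_mem h₁ h₂) (B.inv_mem h₁)) (B.inv_mem h₂)

section tb

variable {K : Type*} [Field K] [IsAlgClosed K] [CharP K 3]
  {V : Type*} [AddCommGroup V] [Module K V] [FiniteDimensional K V]
  {G : Type*} [Group G] [Finite G]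

/-- Consequence of Theorem B: a quadratic element of order `3` centralises every invariant abelian
`2`-subgroup. -/
theorem tb_of_quadratic [Nontrivial V] (ρ : Representation K G V) (hfaith : Function.Injective ρ)
    (Q : Subgroup G) (hQ : IsPGroup 2 Q) (x : G) (hQx : ∀ g ∈ Q, x * g * x⁻¹ ∈ Q)
    (hx3 : x ^ 3 = 1) (hquad : (ρ x - 1) ^ 2 = 0) :
    ∀ g ∈ Q, g * (x * g * x⁻¹) = x * g * x⁻¹ * g → x * g * x⁻¹ = g := by
  intro g hg hcomm
  by_contra hne
  have h3 : Fact (Nat.Prime 3) := ⟨Nat.prime_three⟩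
  have h2 : Fact (Nat.Prime 2) := ⟨Nat.prime_two⟩
  obtain ⟨g', hg'⟩ : ∃ g', g' = x * g * x⁻¹ := ⟨_, rfl⟩
  obtain ⟨g'', hg''⟩ : ∃ g'', g'' = x * g' * x⁻¹ := ⟨_, rfl⟩
  have hx3' : x * x * x = 1 := by
    rw [← hx3]
    simp only [pow_succ, pow_zero, one_mul]
  have hback : x * g'' * x⁻¹ = g := by
    have e : x * g'' * x⁻¹ = (x * x * x) * g * (x * x * x)⁻¹ := by rw [hg'', hg']; group
    rw [e, hx3']
    group
  rw [← hg'] at hcomm hne
  have hc1 : g * g' = g' * g := hcomm
  have hc2 : g' * g'' = g'' * g' := by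
    rw [hg', hg'', hg']
    have := conj_comm_of_comm hc1 x
    rw [hg'] at this
    exact this
  have hc3 : g'' * g = g * g'' := by
    have := conj_comm_of_comm hc2 x
    rw [← hg'', hback] at this
    exact this
  set S : Set G := {g, g', g''} with hS
  have hSQ : S ⊆ (Q : Set G) := by
    intro a ha
    simp only [hS, Set.mem_insert_iff, Set.mem_singleton_iff] at ha
    rcases ha with rfl | rfl | rfl
    · exact hg
    · rw [hg']; exact hQx g hg
    · rw [hg'', hg']; exact hQx _ (hQx g hg)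
  have hScomm : S ⊆ (centralizer S : Set G) := by
    intro a ha
    rw [SetLike.mem_coe, mem_centralizer_iff]
    intro b hb
    simp only [hS, Set.mem_insert_iff, Set.mem_singleton_iff] at ha hb
    rcases ha with rfl | rfl | rfl <;> rcases hb with rfl | rfl | rfl
    · rfl
    · exact hc1.symm
    · exact hc3
    · exact hc1
    · rfl
    · exact hc2.symm
    · exact hc3.symm
    · exact hc2
    · rfl
  set Q₀ : Subgroup G := closure S with hQ₀
  have hQ₀Q : Q₀ ≤ Q := (closure_le Q).mpr hSQ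
  have hQ₀ab : ∀ a ∈ Q₀, ∀ b ∈ Q₀, a * b = b * a := by
    have h1 : Q₀ ≤ centralizer (centralizer S : Set G) := closure_le_centralizer_centralizer S
    have h2 : centralizer (centralizer S : Set G) ≤ centralizer S := centralizer_le hScomm
    intro a ha b hb
    have hb' : b ∈ centralizer S := h2 (h1 hb)
    exact (mem_centralizer_iff.mp (h1 ha) b hb').symm
  have hQ₀x : ∀ a ∈ Q₀, x * a * x⁻¹ ∈ Q₀ := by
    intro a ha
    have hmap : Q₀.map (MulAut.conj x).toMonoidHom ≤ Q₀ := by
      rw [hQ₀, MonoidHom.map_closure, closure_le]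
      rintro _ ⟨b, hb, rfl⟩
      simp only [hS, Set.mem_insert_iff, Set.mem_singleton_iff] at hb
      apply Subgroup.subset_closure
      simp only [MulEquiv.coe_toMonoidHom, MulAut.conj_apply, hS, Set.mem_insert_iff,
        Set.mem_singleton_iff]
      rcases hb with rfl | rfl | rfl
      · right; left; exact hg'.symm
      · right; right; exact hg''.symm
      · left; exact hback
    have := hmap ⟨a, ha, rfl⟩
    simpa using this
  have hgQ₀ : g ∈ Q₀ := Subgroup.subset_closure (by simp [hS])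
  have hx1 : ρ x - 1 ≠ 0 := by
    intro h0
    have h1 : x = 1 := by
      apply hfaith
      rw [map_one]
      exact sub_eq_zero.mp h0
    apply hne
    rw [hg', h1]
    group
  have key := theoremB_core (K := K) 3 2 (by norm_num) ρ Q₀ x 0 2 (hQ.to_le hQ₀Q) hQ₀x
    (by simpa using hx3)
    ⟨g, hgQ₀, by
      intro h
      apply hne
      have h1 : g * x = x * g := by
        apply hfaith
        rw [map_mul, map_mul]
        simpa using h
      rw [hg', ← h1]
      group⟩
    hquad
    (by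
      intro k hk
      interval_cases k
      · rw [pow_zero]
        exact one_ne_zero
      · rw [pow_one]
        exact hx1)
  rcases key with h | ⟨⟨a, ha, b, hb, hab⟩, _⟩
  · norm_num at h
  · exact hab (hQ₀ab a ha b hb)

end tb


section step

universe uG uK uV

/-- Reduction to a proper invariant subspace and its quotient. -/
theorem stepX_subquot {K : Type uK} [Field K] [CharP K 3] (N : ℕ)
    (ih : ∀ m < N, XStmt.{uG, uK, uV} K m)
    {V : Type uV} [AddCommGroup V] [Module K V] [FiniteDimensional K V]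
    {G : Type uG} [Group G] [Finite G] (ρ : Representation K G V) (Q B : Subgroup G) (x : G)
    (hN : finrank K V + Nat.card Q ≤ N) (hQ : IsPGroup 2 Q)
    (hBQ : ∀ b ∈ B, ∀ g ∈ Q, b * g * b⁻¹ ∈ Q) (hBx : ∀ b ∈ B, b * x = x * b) (hxc : x ∈ ⁅B, B⁆)
    (hx3 : x ^ 3 = 1)
    (hH : ∀ b ∈ B, ∀ b' ∈ B, (ρ x - 1) * (ρ b - 1) * (ρ b' - 1) = 0)
    (hquad : (ρ x - 1) ^ 2 = 0)
    (U : Submodule K V) (hU : Inv ρ U) (hU0 : U ≠ ⊥) (hU1 : U ≠ ⊤) :
    ∀ g ∈ Q, ρ g * ρ x = ρ x * ρ g := by
  have h3 : Fact (Nat.Prime 3) := ⟨Nat.prime_three⟩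
  have h2 : Fact (Nat.Prime 2) := ⟨Nat.prime_two⟩
  have hxB : x ∈ B := commutator_self_le B hxc
  have hfU : finrank K U < finrank K V := Submodule.finrank_lt hU1
  have hfQ : finrank K (V ⧸ U) < finrank K V := by
    have h1 := Submodule.finrank_quotient_add_finrank U
    have h2 : 0 < finrank K U := by
      rw [Module.finrank_pos_iff]
      exact (Submodule.nontrivial_iff_ne_bot).mpr hU0
    omega
  have hsub : ∀ (g : G) (u : U), (((subRep ρ U hU g - 1) u : U) : V) = (ρ g - 1) (u : V) := by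
    intro g u
    simp [subRep_apply]
  have hquo : ∀ (g : G) (v : V), (quotRep ρ U hU g - 1) (Submodule.Quotient.mk v) =
      Submodule.Quotient.mk ((ρ g - 1) v) := by
    intro g v
    simp [quotRep_mk]
  -- the subrepresentation
  have hS := ih (finrank K U + Nat.card Q) (by omega) U G (subRep ρ U hU) Q B x le_rfl hQ hBQ hBx
    hxc hx3
    (by
      intro b hb b' hb'
      apply LinearMap.ext
      intro u
      apply Subtype.ext
      rw [Module.End.mul_apply, Module.End.mul_apply, hsub, hsub, hsub]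
      have := congrArg (fun f : End K V => f (u : V)) (hH b hb b' hb')
      simpa [Module.End.mul_apply] using this)
    (by
      apply LinearMap.ext
      intro u
      apply Subtype.ext
      have := restrict_sub_one_pow U (ρ x) (hU x) 2 u
      rw [hquad, LinearMap.zero_apply] at this
      exact this)
  have hT := ih (finrank K (V ⧸ U) + Nat.card Q) (by omega) (V ⧸ U) G (quotRep ρ U hU) Q B x le_rfl
    hQ hBQ hBx hxc hx3
    (by
      intro b hb b' hb'
      apply LinearMap.ext
      intro v'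
      obtain ⟨v, rfl⟩ := Submodule.Quotient.mk_surjective U v'
      rw [Module.End.mul_apply, Module.End.mul_apply, hquo, hquo, hquo]
      have := congrArg (fun f : End K V => f v) (hH b hb b' hb')
      simp only [Module.End.mul_apply, LinearMap.zero_apply] at this
      rw [this]
      simp)
    (by
      apply LinearMap.ext
      intro v'
      obtain ⟨v, rfl⟩ := Submodule.Quotient.mk_surjective U v'
      have := mapQ_sub_one_pow U (ρ x) (hU x) 2 v
      rw [hquad, LinearMap.zero_apply, Submodule.Quotient.mk_zero] at this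
      exact this)
  intro g hg
  apply commute_of_sub_quot 3 2 (by norm_num) ρ Q hQ x (hBQ x hxB) U hU g hg
  · intro u hu
    have := congrArg (fun f : End K U => ((f ⟨u, hu⟩ : U) : V)) (hS g hg)
    simpa [subRep_apply] using this
  · intro v
    have := congrArg (fun f : End K (V ⧸ U) => f (Submodule.Quotient.mk v)) (hT g hg)
    simp only [Module.End.mul_apply, quotRep_mk] at this
    exact (Submodule.Quotient.eq U).mp this

/-- The faithful step. -/
theorem stepX_faithful {K : Type uK} [Field K] [IsAlgClosed K] [CharP K 3] (N : ℕ)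
    (ih : ∀ m < N, XStmt.{uG, uK, uV} K m)
    {V : Type uV} [AddCommGroup V] [Module K V] [FiniteDimensional K V]
    {G : Type uG} [Group G] [Finite G] (ρ : Representation K G V) (hfaith : Function.Injective ρ)
    (Q B : Subgroup G) (x : G) (hgen : Q ⊔ B = ⊤)
    (hN : finrank K V + Nat.card Q ≤ N) (hQ : IsPGroup 2 Q)
    (hBQ : ∀ b ∈ B, ∀ g ∈ Q, b * g * b⁻¹ ∈ Q) (hBx : ∀ b ∈ B, b * x = x * b) (hxc : x ∈ ⁅B, B⁆)
    (hx3 : x ^ 3 = 1)
    (hH : ∀ b ∈ B, ∀ b' ∈ B, (ρ x - 1) * (ρ b - 1) * (ρ b' - 1) = 0)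
    (hquad : (ρ x - 1) ^ 2 = 0) :
    ∀ g ∈ Q, g * x = x * g := by
  by_contra hNC
  push Not at hNC
  have hxB : x ∈ B := commutator_self_le B hxc
  have hQn : Q.Normal := by
    rw [← normalizer_eq_top_iff, eq_top_iff, ← hgen]
    exact sup_le le_normalizer (le_normalizer_of_conj_mem' B Q hBQ)
  have hnt : Nontrivial V := by
    by_contra hcon
    rw [not_nontrivial_iff_subsingleton] at hcon
    obtain ⟨g, hg, hgne⟩ := hNC
    apply hgne
    apply hfaith
    apply LinearMap.ext
    intro v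
    exact Subsingleton.elim _ _
  -- minimality of `Q`
  have hmin : ∀ Q₁ : Subgroup G, Q₁ ≤ Q → Q₁ ≠ Q → (∀ b ∈ B, ∀ g ∈ Q₁, b * g * b⁻¹ ∈ Q₁) →
      ∀ g ∈ Q₁, g * x = x * g := by
    intro Q₁ hle hne hinv g hg
    have hcard : Nat.card Q₁ < Nat.card Q := by
      by_contra hcon
      push Not at hcon
      exact hne (Subgroup.eq_of_le_of_card_ge hle hcon)
    have := ih (finrank K V + Nat.card Q₁) (by omega) V G ρ Q₁ B x le_rfl (hQ.to_le hle) hinv hBx
      hxc hx3 hH hquad g hg
    apply hfaith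
    rw [map_mul, map_mul]
    exact this
  -- irreducibility
  have hirr : ∀ U : Submodule K V, Inv ρ U → U = ⊥ ∨ U = ⊤ := by
    intro U hU
    by_contra hcon
    push Not at hcon
    obtain ⟨g, hg, hgne⟩ := hNC
    apply hgne
    apply hfaith
    rw [map_mul, map_mul]
    exact stepX_subquot N ih ρ Q B x hN hQ hBQ hBx hxc hx3 hH hquad U hU hcon.1 hcon.2 g hg
  have htb := tb_of_quadratic ρ hfaith Q hQ x (hBQ x hxB) hx3 hquad
  have hZx := Zs_comm_of (B := B) hNC hmin htb
  have hx1 : x ≠ 1 := by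
    intro h1
    obtain ⟨g, _, hgne⟩ := hNC
    apply hgne
    rw [h1, mul_one, one_mul]
  have h2K : (2 : K) ≠ 0 := by
    intro h0
    have h1 : ((2 : ℕ) : K) = 0 := by exact_mod_cast h0
    have := (CharP.cast_eq_zero_iff K 3 2).mp h1
    omega
  have huniq := uniq_of_irr h2K ρ hfaith Q B hgen x hZx hx1 hirr hH
  have cfg : MinCfg Q B x :=
    { normal := hQn
      two := hQ
      cent := hBx
      cube := hx3
      comm := hxc
      nc := hNC
      min := hmin
      tb := htb
      uniq := huniq }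
  exact cfg.false

/-- The statement for all bounds. -/
theorem XStmt_all {K : Type uK} [Field K] [IsAlgClosed K] [CharP K 3] :
    ∀ N, XStmt.{uG, uK, uV} K N := by
  intro N
  induction N using Nat.strong_induction_on with
  | _ N ih =>
    intro V _ _ _ G _ _ ρ Q B x hN hQ hBQ hBx hxc hx3 hH hquad
    set Γ : Subgroup G := Q ⊔ B with hΓ
    have hQΓ : Q ≤ Γ := le_sup_left
    have hBΓ : B ≤ Γ := le_sup_right
    have hxB : x ∈ B := commutator_self_le B hxc
    have hxΓ : x ∈ Γ := hBΓ hxB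
    set φ : Γ →* End K V := ρ.comp Γ.subtype with hφ
    set Q' : Subgroup Γ := Q.subgroupOf Γ with hQ'
    set B' : Subgroup Γ := B.subgroupOf Γ with hB'
    set x' : Γ := ⟨x, hxΓ⟩ with hx'
    set π := QuotientGroup.mk' φ.ker with hπ
    have hgen' : Q' ⊔ B' = ⊤ := by
      apply Subgroup.map_injective Γ.subtype_injective
      rw [Subgroup.map_sup, Subgroup.map_subgroupOf_eq_of_le hQΓ,
        Subgroup.map_subgroupOf_eq_of_le hBΓ, ← MonoidHom.range_eq_map, Subgroup.range_subtype]
    have hgen2 : Q'.map π ⊔ B'.map π = ⊤ := by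
      rw [← Subgroup.map_sup, hgen', ← MonoidHom.range_eq_map, MonoidHom.range_eq_top]
      exact QuotientGroup.mk'_surjective _
    have hcardQ' : Nat.card Q' = Nat.card Q := Nat.card_congr (subgroupOfEquivOfLe hQΓ).toEquiv
    have hcard2 : Nat.card (Q'.map π) ≤ Nat.card Q' :=
      Nat.le_of_dvd Nat.card_pos (Subgroup.card_map_dvd _ _)
    have hQ2 : IsPGroup 2 (Q'.map π) := (hQ.comap_subtype).map _
    have hBQ2 : ∀ b ∈ B'.map π, ∀ g ∈ Q'.map π, b * g * b⁻¹ ∈ Q'.map π := by
      rintro _ ⟨b, hb, rfl⟩ _ ⟨g, hg, rfl⟩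
      refine ⟨b * g * b⁻¹, ?_, by simp⟩
      have hg' : (g : G) ∈ Q := mem_subgroupOf.mp hg
      have hb' : (b : G) ∈ B := mem_subgroupOf.mp hb
      exact mem_subgroupOf.mpr (hBQ _ hb' _ hg')
    have hBx2 : ∀ b ∈ B'.map π, b * π x' = π x' * b := by
      rintro _ ⟨b, hb, rfl⟩
      have hb' : (b : G) ∈ B := mem_subgroupOf.mp hb
      rw [← map_mul, ← map_mul]
      congr 1
      apply Subtype.ext
      exact hBx _ hb'
    have hxc' : x' ∈ ⁅B', B'⁆ := by
      have e : (⁅B', B'⁆).map Γ.subtype = ⁅B, B⁆ := by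
        rw [Subgroup.map_commutator, Subgroup.map_subgroupOf_eq_of_le hBΓ]
      rw [← e] at hxc
      obtain ⟨y, hy, hyx⟩ := hxc
      have : y = x' := Subtype.ext hyx
      rw [← this]
      exact hy
    have hxc2 : π x' ∈ ⁅B'.map π, B'.map π⁆ := by
      rw [← Subgroup.map_commutator]
      exact Subgroup.mem_map_of_mem _ hxc'
    have hx32 : (π x') ^ 3 = 1 := by
      rw [← map_pow]
      have : x' ^ 3 = 1 := by
        apply Subtype.ext
        rw [Subgroup.coe_pow, Subgroup.coe_one]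
        exact hx3
      rw [this, map_one]
    have hH2 : ∀ b ∈ B'.map π, ∀ b' ∈ B'.map π,
        (kerLiftM φ (π x') - 1) * (kerLiftM φ b - 1) * (kerLiftM φ b' - 1) = 0 := by
      rintro _ ⟨b, hb, rfl⟩ _ ⟨b', hb', rfl⟩
      exact hH _ (mem_subgroupOf.mp hb) _ (mem_subgroupOf.mp hb')
    have hquad2 : (kerLiftM φ (π x') - 1) ^ 2 = 0 := hquad
    have key := stepX_faithful N ih (kerLiftM φ) (kerLiftM_injective φ) (Q'.map π) (B'.map π)
      (π x') hgen2 (by omega) hQ2 hBQ2 hBx2 hxc2 hx32 hH2 hquad2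
    intro g hg
    have h1 := key (π ⟨g, hQΓ hg⟩) ⟨⟨g, hQΓ hg⟩, mem_subgroupOf.mpr hg, rfl⟩
    have h2 := congrArg (kerLiftM φ) h1
    rw [map_mul, map_mul] at h2
    exact h2

end step

section final

open TensorProduct

variable {F : Type*} [Field F] {V : Type*} [AddCommGroup V] [Module F V]

/-- **The `p = 3` lemma**, for a faithful representation over an arbitrary field of
characteristic `3`. -/
theorem lemX_hom [CharP F 3] [FiniteDimensional F V]
    {H : Type*} [Group H] [Finite H] (ρ0 : H →* End F V) (hinj : Function.Injective ρ0)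
    (Q B : Subgroup H) (hQ : IsPGroup 2 Q)
    (hBQ : ∀ b ∈ B, ∀ g ∈ Q, b * g * b⁻¹ ∈ Q) (x : H) (hBx : ∀ b ∈ B, b * x = x * b)
    (hxc : x ∈ ⁅B, B⁆) (hx3 : x ^ 3 = 1)
    (hH : ∀ b ∈ B, ∀ b' ∈ B, (ρ0 x - 1) * (ρ0 b - 1) * (ρ0 b' - 1) = 0)
    (hquad : (ρ0 x - 1) ^ 2 = 0) :
    ∀ g ∈ Q, g * x = x * g := by
  set K := AlgebraicClosure F with hK
  have : CharP K 3 := charP_of_injective_algebraMap (algebraMap F K).injective 3
  set Φ : End F V →ₐ[F] End K (K ⊗[F] V) := Module.End.baseChangeHom F K V with hΦ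
  have hΦinj : Function.Injective Φ := LinearMap.baseChangeHom_injective F V K
  set ρ : Representation K H (K ⊗[F] V) := (Φ : End F V →* End K (K ⊗[F] V)).comp ρ0
    with hρ
  have hρapp : ∀ g, ρ g = Φ (ρ0 g) := fun _ => rfl
  have hsub : ∀ g, ρ g - 1 = Φ (ρ0 g - 1) := by
    intro g
    rw [map_sub, map_one]
    rfl
  have key := XStmt_all (K := K) (finrank K (K ⊗[F] V) + Nat.card Q) (K ⊗[F] V) H ρ Q B x le_rfl hQ
    hBQ hBx hxc hx3
    (by
      intro b hb b' hb'
      rw [hsub, hsub, hsub, ← map_mul, ← map_mul, hH b hb b' hb', map_zero])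
    (by rw [hsub, ← map_pow, hquad, map_zero])
  intro g hg
  apply hinj
  apply hΦinj
  rw [map_mul, map_mul, map_mul, map_mul]
  exact key g hg

end final

end Cfsg.Agent.Helper62.HHDer
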