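import Mathlib
import Cfsg.Prelude.Def_Local
import Cfsg.Agent.Lib.Helper62.HHDerC
import Cfsg.Agent.Lib.Helper48.WreathHHP
import Cfsg.Agent.Lib.Helper23.FrobCoprime

set_option autoImplicit false

/-!
# Hall–Higman `l_p ≤ d_p`: the linear core

A `p`-soluble group `H` with `O_p(H) = 1`, `p` odd, acting faithfully on an elementary abelian
`p`-group `W`; `B` a `p`-subgroup such that the elements `a` of `B' = ⁅B, B⁆` satisfy
`[W, b', b, a] = 1` and `[W, a, a] = 1`.  Then `B' = 1`.
-/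

namespace Cfsg.Agent.Helper62.HHDer

open Cfsg Module Cfsg.Agent.Helper48.Wreath Cfsg.Agent.Helper31.HH

theorem exists_central_comm_elt {H : Type*} [Group H] [Finite H] {p : ℕ} [hp : Fact p.Prime]
    (B : Subgroup H) (hB : IsPGroup p B) (hne : ⁅B, B⁆ ≠ ⊥) :
    ∃ x ∈ ⁅B, B⁆, x ≠ 1 ∧ x ^ p = 1 ∧ ∀ b ∈ B, b * x = x * b := by
  have hQ₀ : _root_.commutator ↥B ≠ ⊥ := by
    intro h0
    apply hne
    rw [← B.map_subtype_commutator, h0, Subgroup.map_bot]
  obtain ⟨z, hzQ, hz1, hzc⟩ :=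
    Cfsg.Agent.Helper23.FrobCoprime.exists_central_mem_normal hB (_root_.commutator ↥B) hQ₀
  obtain ⟨k, hk⟩ := (IsPGroup.iff_orderOf.mp hB) z
  have hk0 : k ≠ 0 := by
    rintro rfl
    rw [pow_zero, orderOf_eq_one_iff] at hk
    exact hz1 hk
  obtain ⟨j, rfl⟩ := Nat.exists_eq_succ_of_ne_zero hk0
  set y : ↥B := z ^ p ^ j with hy
  have hy1 : y ≠ 1 := by
    intro h1
    have hd : orderOf z ∣ p ^ j := orderOf_dvd_of_pow_eq_one h1
    rw [hk] at hd
    have := Nat.le_of_dvd (pow_pos hp.out.pos j) hd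
    have hlt : p ^ j < p ^ (j + 1) := Nat.pow_lt_pow_right hp.out.one_lt (Nat.lt_succ_self j)
    have e : p ^ j.succ = p ^ (j + 1) := rfl
    omega
  have hyp : y ^ p = 1 := by
    rw [hy, ← pow_mul, ← pow_succ, ← hk, pow_orderOf_eq_one]
  have hyQ : y ∈ _root_.commutator ↥B := Subgroup.pow_mem _ hzQ _
  have hyc : ∀ b : ↥B, b * y = y * b := by
    intro b
    exact ((show Commute b z from hzc b).pow_right _).eq
  refine ⟨(y : H), ?_, ?_, ?_, ?_⟩
  · rw [← B.map_subtype_commutator]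
    exact ⟨y, hyQ, rfl⟩
  · intro h1
    apply hy1
    exact Subtype.ext h1
  · have := congrArg Subtype.val hyp
    simpa using this
  · intro b hb
    have := congrArg Subtype.val (hyc ⟨b, hb⟩)
    simpa using this

theorem derived_core_aux {H : Type*} [Group H] [Finite H] {p : ℕ} [hp : Fact p.Prime] (hp2 : p ≠ 2)
    (hsol : IsPSolvable p H) (hO : pCore p H = ⊥)
    {W : Type*} [CommGroup W] [Finite W] [Module (ZMod p) (Additive W)]
    (ψ : H →* MulAut W) (hψ : Function.Injective ψ)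
    (B : Subgroup H) (hB : IsPGroup p B)
    (hH : ∀ a ∈ ⁅B, B⁆, ∀ b ∈ B, ∀ b' ∈ B, ∀ w : W,
      ψ a (ψ b (ψ b' w / w) / (ψ b' w / w)) = ψ b (ψ b' w / w) / (ψ b' w / w))
    (hquad : ∀ a ∈ ⁅B, B⁆, ∀ w : W, ψ a (ψ a w / w) = ψ a w / w) :
    ⁅B, B⁆ = ⊥ := by
  by_contra hne
  obtain ⟨x, hxc, hx1, hxp, hBx⟩ := exists_central_comm_elt B hB hne
  have hxB : x ∈ B := B.commutator_le_self hxc
  have hp3 : 3 ≤ p := by
    have := hp.out.two_le
    omega
  have : Module.Finite (ZMod p) (Additive W) := Module.Finite.of_finite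
  set ρ0 := linRep p ψ with hρ0
  have hρ0inj : Function.Injective ρ0 := linRep_injective p ψ hψ
  have hsubapp : ∀ (g : H) (w : W), (ρ0 g - 1) (Additive.ofMul w) = Additive.ofMul (ψ g w / w) := by
    intro g w
    rw [LinearMap.sub_apply, Module.End.one_apply, ofMul_div]
    rfl
  have hH' : ∀ b ∈ B, ∀ b' ∈ B, (ρ0 x - 1) * (ρ0 b - 1) * (ρ0 b' - 1) = 0 := by
    intro b hb b' hb'
    apply LinearMap.ext
    intro v
    induction v using Additive.rec with
    | ofMul w =>
      rw [Module.End.mul_apply, Module.End.mul_apply, hsubapp, hsubapp, hsubapp,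
        hH x hxc b hb b' hb' w, div_self', LinearMap.zero_apply]
      rfl
  have hquad' : (ρ0 x - 1) ^ 2 = 0 := by
    apply LinearMap.ext
    intro v
    induction v using Additive.rec with
    | ofMul w =>
      rw [sq, Module.End.mul_apply, hsubapp, hsubapp, hquad x hxc w, div_self',
        LinearMap.zero_apply]
      rfl
  obtain ⟨r, hr, hmin⟩ := exists_nilp_index _ hquad'
  have hr2 : r ≤ 2 := nilp_index_le hmin hquad'
  -- `x` centralises every `B`-invariant `q`-subgroup
  have hcent : ∀ (q : ℕ) [Fact q.Prime], q ≠ p → ∀ Q' : Subgroup H, IsPGroup q Q' →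
      (∀ b ∈ B, ∀ g ∈ Q', b * g * b⁻¹ ∈ Q') → ∀ g ∈ Q', g * x = x * g := by
    intro q hq hqp Q' hQ' hinv
    by_contra hcon
    push Not at hcon
    obtain ⟨g, hg, hgx⟩ := hcon
    have key := theoremB_hom ρ0 hρ0inj q (Ne.symm hqp) Q' hQ' x (hinv x hxB) 0
      (by simpa using hxp) ⟨g, hg, by simpa using hgx⟩ r hr hmin
    rcases key with h | ⟨_, n₀, m, h1, h2, h3, h4, h5⟩
    · rw [zero_add, pow_one] at h
      omega
    · have hn₀ : n₀ = 1 := by omega
      subst hn₀
      rw [pow_one] at h4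
      simp only [zero_add, Nat.sub_self, pow_zero, one_mul, pow_one] at h5
      have hp3' : p = 3 := by omega
      subst hp3'
      have hq2 : q = 2 := by
        have h6 : q ^ m = 2 := by omega
        have h7 : q ∣ 2 := by
          rw [← h6]
          exact dvd_pow_self q (by omega)
        exact (Nat.prime_dvd_prime_iff_eq hq.out Nat.prime_two).mp h7
      subst hq2
      exact hgx (lemX_hom ρ0 hρ0inj Q' B hQ' hinv x hBx hxc hxp hH' hquad' g hg)
  -- hence `x` centralises `O_{p'}(H)`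
  set K := pPrimeCore p H with hK
  have hKn : K.Normal := inferInstance
  have hKcop : (Nat.card K).Coprime p := Cfsg.Agent.Helper55.pPrimeCore_coprime p
  have hpK : ¬ p ∣ Nat.card K := by
    intro hd
    have := Nat.Coprime.eq_one_of_dvd hKcop.symm hd
    exact hp.out.one_lt.ne' this
  have hCK : Subgroup.centralizer (K : Set H) ≤ K :=
    Cfsg.Agent.Helper10.centralizer_pPrimeCore_le_of_isPSolvable hsol hO
  have hkey : ∀ (q : ℕ) [Fact q.Prime], q ≠ p → ∃ S : Sylow q K,
      (S : Subgroup K).map K.subtype ≤ Subgroup.centralizer ({x} : Set H) := by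
    intro q hq hqp
    obtain ⟨S, hS⟩ := Cfsg.Agent.Helper76.exists_invariant_sylow K q p hpK B hB
    refine ⟨S, ?_⟩
    set Q' := (S : Subgroup K).map K.subtype with hQ'
    have hQ'q : IsPGroup q Q' := S.isPGroup'.map _
    have hinv : ∀ b ∈ B, ∀ g ∈ Q', b * g * b⁻¹ ∈ Q' := by
      intro b hb a ha
      have hbN : b ∈ Subgroup.normalizer (Q' : Set H) :=
        (Cfsg.Agent.Helper76.mem_normalizer_map_subtype_iff K q b S).mpr (hS b hb)
      exact (Subgroup.mem_normalizer_iff.mp hbN a).mp ha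
    intro a ha
    rw [Subgroup.mem_centralizer_singleton_iff]
    exact hcent q hqp Q' hQ'q hinv a ha
  set M := K ⊓ Subgroup.centralizer ({x} : Set H) with hM
  have hdvd : Nat.card K ∣ Nat.card M := by
    rw [← Nat.factorization_prime_le_iff_dvd Nat.card_pos.ne' Nat.card_pos.ne']
    intro q hq
    by_cases hqp : q = p
    · rw [hqp, Nat.factorization_eq_zero_of_not_dvd hpK]
      exact Nat.zero_le _
    · have : Fact q.Prime := ⟨hq⟩
      obtain ⟨S, hS⟩ := hkey q hqp
      have h1 : Nat.card ((S : Subgroup K).map K.subtype) = q ^ (Nat.card K).factorization q := by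
        rw [← Sylow.card_eq_multiplicity S]
        exact (Nat.card_congr
          (Subgroup.equivMapOfInjective _ K.subtype K.subtype_injective).toEquiv).symm
      have h2 : (S : Subgroup K).map K.subtype ≤ M := le_inf (Subgroup.map_subtype_le _) hS
      have h3 := Subgroup.card_dvd_of_le h2
      rw [h1] at h3
      exact (Nat.Prime.pow_dvd_iff_le_factorization hq Nat.card_pos.ne').mp h3
  have hMK : M = K :=
    Subgroup.eq_of_le_of_card_ge inf_le_left (Nat.le_of_dvd Nat.card_pos hdvd)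
  have hxC : x ∈ Subgroup.centralizer (K : Set H) := by
    rw [Subgroup.mem_centralizer_iff]
    intro k hk
    have hkM : k ∈ M := by rw [hMK]; exact hk
    exact Subgroup.mem_centralizer_singleton_iff.mp hkM.2
  have hxK : x ∈ K := hCK hxC
  have hxp' : x ^ p ^ 1 = 1 := by rw [pow_one]; exact hxp
  exact hx1 (Cfsg.Agent.Helper10.eq_one_of_pow_prime_pow_eq_one_of_coprime hKcop hxK hxp')

/-- **The linear core** of `l_p ≤ d_p`. -/
theorem derived_core {H : Type*} [Group H] [Finite H] {p : ℕ} [hp : Fact p.Prime] (hp2 : p ≠ 2)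
    (hsol : IsPSolvable p H) (hO : pCore p H = ⊥)
    {W : Type*} [CommGroup W] [Finite W] (hexp : ∀ w : W, w ^ p = 1)
    (ψ : H →* MulAut W) (hψ : Function.Injective ψ)
    (B : Subgroup H) (hB : IsPGroup p B)
    (hH : ∀ a ∈ ⁅B, B⁆, ∀ b ∈ B, ∀ b' ∈ B, ∀ w : W,
      ψ a (ψ b (ψ b' w / w) / (ψ b' w / w)) = ψ b (ψ b' w / w) / (ψ b' w / w))
    (hquad : ∀ a ∈ ⁅B, B⁆, ∀ w : W, ψ a (ψ a w / w) = ψ a w / w) :
    ⁅B, B⁆ = ⊥ := by
  let _inst : Module (ZMod p) (Additive W) := AddCommGroup.zmodModule (by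
    intro v
    induction v using Additive.rec with
    | ofMul w =>
      rw [← ofMul_pow, hexp w]
      rfl)
  exact derived_core_aux hp2 hsol hO ψ hψ B hB hH hquad

end Cfsg.Agent.Helper62.HHDer
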