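import Mathlib
import Cfsg.Prelude.Def_Local
import Cfsg.Agent.Lib.Helper62.HHDerD
import Cfsg.Agent.Lib.Helper31.HHB
import Cfsg.Agent.Lib.Helper33.Basic

set_option autoImplicit false
set_option linter.style.haveILetI false

/-!
# Hall–Higman: `l_p ≤ d_p` for odd `p`

For a finite `p`-soluble group, `p` odd, whose Sylow `p`-subgroups have derived length at most `d`,
the `p`-length is at most `d`.
-/

namespace Cfsg.Agent.Helper62.HHDer

open Cfsg Cfsg.Agent.Helper31.GT Cfsg.Agent.Helper63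
open scoped commutatorElement

universe u

section dser

variable {G : Type*} [Group G]

/-- The derived series of a subgroup, inside the ambient group. -/
def dser (S : Subgroup G) : ℕ → Subgroup G
  | 0 => S
  | n + 1 => ⁅dser S n, dser S n⁆

theorem dser_zero (S : Subgroup G) : dser S 0 = S := rfl

theorem dser_succ (S : Subgroup G) (n : ℕ) : dser S (n + 1) = ⁅dser S n, dser S n⁆ := rfl

theorem dser_eq_map (S : Subgroup G) (n : ℕ) :
    (derivedSeries ↥S n).map S.subtype = dser S n := by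
  induction n with
  | zero => rw [derivedSeries_zero, dser_zero, ← MonoidHom.range_eq_map, S.range_subtype]
  | succ n ih => rw [derivedSeries_succ, Subgroup.map_commutator, ih, dser_succ]

theorem dser_map {G' : Type*} [Group G'] (f : G →* G') (S : Subgroup G) (n : ℕ) :
    (dser S n).map f = dser (S.map f) n := by
  induction n with
  | zero => rfl
  | succ n ih => rw [dser_succ, Subgroup.map_commutator, ih, dser_succ]

theorem dser_le (S : Subgroup G) (n : ℕ) : dser S n ≤ S := by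
  induction n with
  | zero => exact le_rfl
  | succ n ih => exact (Subgroup.commutator_le_self _).trans ih

theorem dser_conj (S : Subgroup G) (n : ℕ) {g : G} (hg : g ∈ S) :
    ∀ a ∈ dser S n, g * a * g⁻¹ ∈ dser S n := by
  have hS : S.map (MulAut.conj g).toMonoidHom = S := by
    apply le_antisymm
    · rintro _ ⟨y, hy, rfl⟩
      exact S.mul_mem (S.mul_mem hg hy) (S.inv_mem hg)
    · intro y hy
      refine ⟨g⁻¹ * y * g, S.mul_mem (S.mul_mem (S.inv_mem hg) hy) hg, ?_⟩
      simp only [MulEquiv.coe_toMonoidHom, MulAut.conj_apply]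
      group
  intro a ha
  have h1 : (MulAut.conj g).toMonoidHom a ∈ (dser S n).map (MulAut.conj g).toMonoidHom :=
    Subgroup.mem_map_of_mem _ ha
  rw [dser_map, hS] at h1
  simpa using h1

/-- Sylow `p`-subgroups have derived length at most `d`. -/
def DerLE (p d : ℕ) (G : Type*) [Group G] : Prop :=
  ∀ P : Sylow p G, dser (P : Subgroup G) d = ⊥

theorem DerLE.quotient [Finite G] {p d : ℕ} [Fact p.Prime] (h : DerLE p d G) (N : Subgroup G)
    [N.Normal] : DerLE p d (G ⧸ N) := by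
  intro P'
  obtain ⟨P, rfl⟩ := Sylow.mapSurjective_surjective (QuotientGroup.mk'_surjective N) p P'
  rw [Sylow.coe_mapSurjective, ← dser_map, h P, Subgroup.map_bot]

end dser

variable {G : Type*} [Group G]

/-- The key step: with `O_{p'}(G) = 1`, the last term of the derived series of a Sylow
`p`-subgroup lies in `O_p(G)`. -/
theorem dser_le_pCore [Finite G] {p : ℕ} [hp : Fact p.Prime] (hp2 : p ≠ 2)
    (hsol : IsPSolvable p G) (hcore : pPrimeCore p G = ⊥) (P : Sylow p G) (d : ℕ)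
    (hd : dser (P : Subgroup G) (d + 1) = ⊥) : dser (P : Subgroup G) d ≤ pCore p G := by
  set P₁ := pCore p G with hP₁
  haveI hPn : P₁.Normal := Cfsg.pCore_normal p G
  have hPp : IsPGroup p P₁ := Cfsg.Agent.Helper55.isPGroup_pCore
  have hP₁P : P₁ ≤ (P : Subgroup G) := Cfsg.Agent.Helper33.pCore_le_sylow P
  set Φ := (frattini ↥P₁).map P₁.subtype with hΦ
  haveI hΦn : Φ.Normal := by
    rw [← Subgroup.normalizer_eq_top_iff, eq_top_iff]
    have h1 := Cfsg.Agent.Helper24.normalizer_le_normalizer_map_subtype_of_characteristic P₁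
      (frattini ↥P₁)
    rw [Subgroup.normalizer_eq_top_iff.mpr hPn] at h1
    exact h1
  obtain ⟨hfc, hfe⟩ := Cfsg.Agent.S4208.frattini_quot_props
    (IsPGroup.of_equiv hPp (MulEquiv.refl _) : IsPGroup p ↥P₁)
  have hΦ1 : ∀ u ∈ P₁, ∀ v ∈ P₁, u * v * u⁻¹ * v⁻¹ ∈ Φ := by
    intro u hu v hv
    refine ⟨⟨u, hu⟩ * ⟨v, hv⟩ * ⟨u, hu⟩⁻¹ * ⟨v, hv⟩⁻¹, ?_, rfl⟩
    rw [SetLike.mem_coe, ← QuotientGroup.eq_one_iff, QuotientGroup.mk_mul, QuotientGroup.mk_mul,
      QuotientGroup.mk_mul, QuotientGroup.mk_inv, QuotientGroup.mk_inv,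
      hfc (⟨u, hu⟩ : ↥P₁) (⟨v, hv⟩ : ↥P₁)]
    group
  have hΦ2 : ∀ v ∈ P₁, v ^ p ∈ Φ := by
    intro v hv
    refine ⟨⟨v, hv⟩ ^ p, ?_, rfl⟩
    rw [SetLike.mem_coe, ← QuotientGroup.eq_one_iff, QuotientGroup.mk_pow]
    exact hfe _
  set mk := QuotientGroup.mk' Φ with hmk
  have hmk1 : ∀ g : G, mk g = 1 ↔ g ∈ Φ := fun g => QuotientGroup.eq_one_iff g
  set φ := secAct P₁ Φ with hφ
  have hkerP : φ.ker ≤ P₁ := fun g hg =>
    Cfsg.Agent.Helper24.mem_pCore_of_commutator_mem_frattini hsol hcore g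
      ((mem_ker_secAct P₁ Φ g).mp hg)
  cases d with
  | zero =>
    -- `P` is abelian
    rw [dser_zero]
    intro a ha
    apply hkerP
    rw [mem_ker_secAct]
    intro v hv
    have hvP : v ∈ (P : Subgroup G) := hP₁P hv
    have hcomm : ⁅a, v⁆ = 1 := by
      have h1 : ⁅a, v⁆ ∈ ⁅(P : Subgroup G), (P : Subgroup G)⁆ :=
        Subgroup.commutator_mem_commutator ha hvP
      rw [dser_succ, dser_zero] at hd
      rw [hd, Subgroup.mem_bot] at h1
      exact h1
    rw [commutatorElement_def] at hcomm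
    rw [hcomm]
    exact Subgroup.one_mem _
  | succ d =>
    set B := dser (P : Subgroup G) d with hB
    set A := dser (P : Subgroup G) (d + 1) with hA
    have hAB : A = ⁅B, B⁆ := rfl
    have hBP : B ≤ (P : Subgroup G) := dser_le _ _
    have hAP : A ≤ (P : Subgroup G) := dser_le _ _
    have hAab : ∀ a ∈ A, ∀ a' ∈ A, a * a' = a' * a := by
      intro a ha a' ha'
      have h1 : ⁅a, a'⁆ ∈ ⁅A, A⁆ := Subgroup.commutator_mem_commutator ha ha'
      have h2 : ⁅A, A⁆ = ⊥ := hd
      rw [h2, Subgroup.mem_bot, commutatorElement_def] at h1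
      calc a * a' = (a * a' * a⁻¹ * a'⁻¹) * (a' * a) := by group
        _ = a' * a := by rw [h1, one_mul]
    -- the linear setting
    have hUcomm : ∀ u u' : ↥(P₁.map mk), u * u' = u' * u := by
      rintro ⟨_, v, hv, rfl⟩ ⟨_, v', hv', rfl⟩
      apply Subtype.ext
      show mk v * mk v' = mk v' * mk v
      have h3 := (hmk1 _).mpr (hΦ1 v hv v' hv')
      rw [map_mul, map_mul, map_mul, map_inv, map_inv] at h3
      calc mk v * mk v' = (mk v * mk v' * (mk v)⁻¹ * (mk v')⁻¹) * (mk v' * mk v) := by group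
        _ = mk v' * mk v := by rw [h3, one_mul]
    letI : CommGroup ↥(P₁.map mk) :=
      { (inferInstance : Group ↥(P₁.map mk)) with mul_comm := hUcomm }
    have hWexp : ∀ w : ↥(P₁.map mk), w ^ p = 1 := by
      rintro ⟨_, v, hv, rfl⟩
      apply Subtype.ext
      show (mk v) ^ p = 1
      rw [← map_pow]
      exact (hmk1 _).mpr (hΦ2 v hv)
    have hPker : P₁ ≤ φ.ker := fun g hg =>
      (mem_ker_secAct P₁ Φ g).mpr (fun v hv => hΦ1 g hg v hv)
    set ψ : G ⧸ P₁ →* MulAut ↥(P₁.map mk) := QuotientGroup.lift P₁ φ hPker with hψ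
    have hψinj : Function.Injective ψ := by
      rw [injective_iff_map_eq_one]
      intro g' hg'
      obtain ⟨g, rfl⟩ := QuotientGroup.mk_surjective g'
      have h1 : φ g = 1 := hg'
      exact (QuotientGroup.eq_one_iff g).mpr (hkerP (MonoidHom.mem_ker.mpr h1))
    have hsolH : IsPSolvable p (G ⧸ P₁) := Cfsg.Agent.Helper76.IsPSolvable.quotient hsol P₁
    have hOH : pCore p (G ⧸ P₁) = ⊥ := Cfsg.Agent.Helper31.HHB.pCore_quot_pCore_eq_bot p
    set π := QuotientGroup.mk' P₁ with hπ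
    -- the formula for `ψ g w / w`
    have hδ : ∀ (g v : G) (hv : v ∈ P₁),
        ψ (π g) ⟨mk v, Subgroup.mem_map_of_mem _ hv⟩ / ⟨mk v, Subgroup.mem_map_of_mem _ hv⟩ =
          (⟨mk (g * v * g⁻¹ * v⁻¹), Subgroup.mem_map_of_mem _
            (P₁.mul_mem (hPn.conj_mem v hv g) (P₁.inv_mem hv))⟩ : ↥(P₁.map mk)) := by
      intro g v hv
      apply Subtype.ext
      have hψg : ψ (π g) = φ g := rfl
      rw [Subgroup.coe_div, hψg, secAct_apply_coe]
      show mk g * mk v * (mk g)⁻¹ / mk v = mk (g * v * g⁻¹ * v⁻¹)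
      rw [div_eq_mul_inv, map_mul, map_mul, map_mul, map_inv, map_inv]
    have hBp : IsPGroup p (B.map π) := (P.isPGroup'.to_le hBP).map _
    have hmapcomm : ⁅B.map π, B.map π⁆ = A.map π := by
      rw [hAB, Subgroup.map_commutator]
    have key := derived_core hp2 hsolH hOH hWexp ψ hψinj (B.map π) hBp
      (by
        rw [hmapcomm]
        rintro _ ⟨a, ha, rfl⟩ _ ⟨b, hb, rfl⟩ _ ⟨b', hb', rfl⟩ ⟨_, v, hv, rfl⟩
        have hvP : v ∈ (P : Subgroup G) := hP₁P hv
        -- `c₁ = [b', v] ∈ B ∩ P₁`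
        have hc₁P : b' * v * b'⁻¹ * v⁻¹ ∈ P₁ := P₁.mul_mem (hPn.conj_mem v hv b') (P₁.inv_mem hv)
        have hc₁B : b' * v * b'⁻¹ * v⁻¹ ∈ B := by
          have h1 : v * b'⁻¹ * v⁻¹ ∈ B := dser_conj _ _ hvP _ (B.inv_mem hb')
          have e : b' * v * b'⁻¹ * v⁻¹ = b' * (v * b'⁻¹ * v⁻¹) := by group
          rw [e]
          exact B.mul_mem hb' h1
        have hc₂A : b * (b' * v * b'⁻¹ * v⁻¹) * b⁻¹ * (b' * v * b'⁻¹ * v⁻¹)⁻¹ ∈ A := by
          rw [hAB, ← commutatorElement_def]
          exact Subgroup.commutator_mem_commutator hb hc₁B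
        have hc₂P : b * (b' * v * b'⁻¹ * v⁻¹) * b⁻¹ * (b' * v * b'⁻¹ * v⁻¹)⁻¹ ∈ P₁ :=
          P₁.mul_mem (hPn.conj_mem _ hc₁P b) (P₁.inv_mem hc₁P)
        rw [hδ b' v hv, hδ b _ hc₁P]
        apply Subtype.ext
        have hψg : ψ (π a) = φ a := rfl
        rw [hψg, secAct_apply_coe]
        show mk a * mk _ * (mk a)⁻¹ = mk _
        rw [← map_inv, ← map_mul, ← map_mul]
        congr 1
        rw [hAab a ha _ hc₂A]
        group)
      (by
        rw [hmapcomm]
        rintro _ ⟨a, ha, rfl⟩ ⟨_, v, hv, rfl⟩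
        have hvP : v ∈ (P : Subgroup G) := hP₁P hv
        have hcP : a * v * a⁻¹ * v⁻¹ ∈ P₁ := P₁.mul_mem (hPn.conj_mem v hv a) (P₁.inv_mem hv)
        have hcA : a * v * a⁻¹ * v⁻¹ ∈ A := by
          have h1 : v * a⁻¹ * v⁻¹ ∈ A := dser_conj _ _ hvP _ (A.inv_mem ha)
          have e : a * v * a⁻¹ * v⁻¹ = a * (v * a⁻¹ * v⁻¹) := by group
          rw [e]
          exact A.mul_mem ha h1
        rw [hδ a v hv]
        apply Subtype.ext
        have hψg : ψ (π a) = φ a := rfl
        rw [hψg, secAct_apply_coe]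
        show mk a * mk _ * (mk a)⁻¹ = mk _
        rw [← map_inv, ← map_mul, ← map_mul]
        congr 1
        rw [hAab a ha _ hcA]
        group)
    rw [hmapcomm] at key
    intro a ha
    have h1 : π a ∈ A.map π := Subgroup.mem_map_of_mem _ ha
    rw [key, Subgroup.mem_bot] at h1
    exact (QuotientGroup.eq_one_iff a).mp h1

/-- Without the hypothesis `O_{p'}(G) = 1`: the last term lies in `O_{p',p}(G)`. -/
theorem dser_le_pPrimePCore [Finite G] {p : ℕ} [hp : Fact p.Prime] (hp2 : p ≠ 2)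
    (hsol : IsPSolvable p G) (P : Sylow p G) (d : ℕ)
    (hd : dser (P : Subgroup G) (d + 1) = ⊥) : dser (P : Subgroup G) d ≤ pPrimePCore p G := by
  have hsol' : IsPSolvable p (G ⧸ pPrimeCore p G) :=
    Cfsg.Agent.Helper76.IsPSolvable.quotient hsol _
  have hbot : pPrimeCore p (G ⧸ pPrimeCore p G) = ⊥ :=
    Cfsg.Agent.Helper55.pPrimeCore_quotient_eq_bot p
  set π := QuotientGroup.mk' (pPrimeCore p G) with hπ
  set P' : Sylow p (G ⧸ pPrimeCore p G) :=
    P.mapSurjective (QuotientGroup.mk'_surjective (pPrimeCore p G)) with hP'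
  have hP'c : (P' : Subgroup (G ⧸ pPrimeCore p G)) = (P : Subgroup G).map π :=
    Sylow.coe_mapSurjective _ _
  have hd' : dser (P' : Subgroup (G ⧸ pPrimeCore p G)) (d + 1) = ⊥ := by
    rw [hP'c, ← dser_map, hd, Subgroup.map_bot]
  have key := dser_le_pCore hp2 hsol' hbot P' d hd'
  rw [hP'c, ← dser_map] at key
  intro a ha
  show π a ∈ pCore p (G ⧸ pPrimeCore p G)
  exact key (Subgroup.mem_map_of_mem _ ha)

theorem main {p : ℕ} [hp : Fact p.Prime] (hp2 : p ≠ 2) : ∀ n : ℕ, ∀ (G : Type u) [Group G]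
    [Finite G], IsPSolvable p G → DerLE p n G → PL p n (⊥ : Subgroup G) ⊤ := by
  intro n
  induction n with
  | zero =>
    intro G _ _ _ hder
    refine PL.base _ _ bot_le inferInstance inferInstance ?_
    rw [Subgroup.relIndex_bot_left]
    have h3 : Nat.card ↥(⊤ : Subgroup G) = Nat.card G := Nat.card_congr Subgroup.topEquiv.toEquiv
    rw [h3, Nat.coprime_comm, Nat.Prime.coprime_iff_not_dvd hp.out]
    intro hdvd
    obtain ⟨P⟩ : Nonempty (Sylow p G) := inferInstance
    have h1 : (P : Subgroup G) = ⊥ := hder P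
    exact P.ne_bot_of_dvd_card hdvd h1
  | succ k ih =>
    intro G _ _ hsol hder
    have hKn : (pPrimeCore p G).Normal := inferInstance
    have hNn : (pPrimePCore p G).Normal := inferInstance
    have hKN : pPrimeCore p G ≤ pPrimePCore p G := le_comap_mk'_self _ _
    have hc1 : PL p 1 (⊥ : Subgroup G) (pPrimePCore p G) := by
      refine PL.step 0 ⊥ (pPrimeCore p G) (pPrimePCore p G) (pPrimePCore p G)
        (PL.base _ _ bot_le inferInstance hKn ?_) hKN le_rfl hNn hNn ?_ ?_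
      · rw [Subgroup.relIndex_bot_left]; exact Cfsg.Agent.Helper55.pPrimeCore_coprime p
      · have h1 : (pPrimeCore p G).relIndex (pPrimePCore p G) =
            Nat.card (pCore p (G ⧸ pPrimeCore p G)) := relIndex_comap_mk' _ _
        rw [h1]
        exact IsPGroup.iff_card.mp Cfsg.Agent.Helper55.isPGroup_pCore
      · simp
    have hsol' : IsPSolvable p (G ⧸ pPrimePCore p G) :=
      Cfsg.Agent.Helper76.IsPSolvable.quotient hsol _
    have hder' : DerLE p k (G ⧸ pPrimePCore p G) := by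
      intro P'
      obtain ⟨P, rfl⟩ := Sylow.mapSurjective_surjective
        (QuotientGroup.mk'_surjective (pPrimePCore p G)) p P'
      rw [Sylow.coe_mapSurjective, ← dser_map, eq_bot_iff]
      rintro _ ⟨a, ha, rfl⟩
      rw [Subgroup.mem_bot]
      exact (QuotientGroup.eq_one_iff a).mpr (dser_le_pPrimePCore hp2 hsol P k (hder P) ha)
    have hc2 := ih (G ⧸ pPrimePCore p G) hsol' hder'
    have hc3 := Cfsg.Agent.S0635.PL_comap (pPrimePCore p G) hc2
    rw [MonoidHom.comap_bot, QuotientGroup.ker_mk', Subgroup.comap_top] at hc3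
    have hc4 := hc1.trans hc3
    rw [Nat.add_comm] at hc4
    exact hc4

/-- **Hall–Higman**: `l_p ≤ d_p` for odd `p`. -/
theorem pLengthLE_of_derived {G : Type u} [Group G] [Finite G] {p : ℕ} [hp : Fact p.Prime]
    (hp2 : p ≠ 2) (hG : IsPSolvable p G) (d : ℕ)
    (hd : ∀ P : Sylow p G, derivedSeries ↥(P : Subgroup G) d = ⊥) : PLengthLE p d G := by
  apply PLengthLE_of_PL p
  apply main hp2 d G hG
  intro P
  rw [← dser_eq_map, hd P, Subgroup.map_bot]

end Cfsg.Agent.Helper62.HHDer
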