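import Mathlib
import Cfsg.Prelude.Def_LieTypeDatum
import Cfsg.Agent.Lib.Helper40.AutPOmCoset
import Cfsg.Agent.Lib.Helper40.AutPOmFieldMain
import Cfsg.Agent.Lib.Helper5.OrthLag12
import Cfsg.Agent.Lib.Helper5.OMFClass
import Cfsg.Agent.Lib.Helper62.OMFL

/-!
# OMF (F3o): `Inndiag = Inn · C_Inndiag(φ_σ)` for the minus-type orthogonal groups, `q` odd,
`σ` of odd order
-/

set_option autoImplicit false
set_option linter.unusedSectionVars false
set_option linter.unusedSimpArgs false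
set_option linter.unusedVariables false

namespace Cfsg.Agent.Helper62.OMF

open Matrix QuadraticMap Cfsg.Agent.Helper43 Cfsg.Agent.Helper5.OrthAut Cfsg.Agent.Helper40.AutPOm
  Cfsg.Agent.Helper5.OMF

/-- every unit of `F` is, up to squares, a unit of the fixed field -/
theorem f3o_exists_sq {F₀ : Type*} [Field F₀] [Fintype F₀] {F : Type*} [Field F] [Fintype F]
    (h2 : (2 : F) ≠ 0) (emb : F₀ →+* F) (σ : F ≃+* F) {r : ℕ} (hr : Odd r) (hσ : σ ^ r = 1)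
    (hι1 : ∀ x, σ (emb x) = emb x) (hι2 : ∀ y, σ y = y → ∃ x, emb x = y) (μ : Fˣ) :
    ∃ μ₀ : F₀ˣ, IsSquare ((μ : F) * (emb (μ₀ : F₀))⁻¹) := by
  classical
  by_cases hsq : IsSquare (μ : F)
  · refine ⟨1, ?_⟩
    rw [Units.val_one, map_one, inv_one, mul_one]
    exact hsq
  · have h2₀ : (2 : F₀) ≠ 0 := two_ne_zero_of_emb emb h2
    obtain ⟨ν₀, hν₀⟩ := exists_nonsquare_unit (F := F₀) h2₀
    have hns : ¬ IsSquare (emb (ν₀ : F₀)) := by
      apply not_isSquare_of_odd_order h2 σ hr hσ (emb (ν₀ : F₀)) (hι1 _)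
      intro c hc hcc
      obtain ⟨c₀, rfl⟩ := hι2 c hc
      apply hν₀
      refine ⟨c₀, ?_⟩
      apply emb.injective
      rw [map_mul, hcc]
    refine ⟨ν₀, ?_⟩
    apply isSquare_mul_of_not_isSquare hsq
    rw [isSquare_inv]
    exact hns

/-- the field automorphism applied to the entries of `deltaMinusMat` -/
theorem f3o_deltaMinusMat_map {F : Type*} [Field F] (σ : F ≃+* F) (m : ℕ) (a b ν : F)
    (w : F × F) :
    (deltaMinusMat m a b ν w).map σ = deltaMinusMat m (σ a) (σ b) (σ ν) (σ w.1, σ w.2) := by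
  ext i j
  rcases i with (i | i) | i <;> rcases j with (j | j) | j
  · by_cases hij : i = j
    · simp [deltaMinusMat, Matrix.diagonal_apply, hij]
    · simp [deltaMinusMat, Matrix.diagonal_apply, hij]
  · simp [deltaMinusMat, Matrix.diagonal_apply, apply_ite]
  · simp [deltaMinusMat]
  · simp [deltaMinusMat, Matrix.diagonal_apply, apply_ite]
  · simp [deltaMinusMat, Matrix.diagonal_apply, apply_ite]
  · simp [deltaMinusMat]
  · simp [deltaMinusMat]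
  · simp [deltaMinusMat]
  · fin_cases i <;> fin_cases j <;> simp [deltaMinusMat]


section aux

universe u

variable {F₀ : Type*} [Field F₀] [Fintype F₀] {F : Type u} [Field F] [Fintype F]

/-- the statement at the level of `stdMinus` -/
theorem f3o_aux (hodd : Odd (Fintype.card F)) {m : ℕ} (hm : 3 ≤ m) (emb : F₀ →+* F) (a₀ b₀ : F₀)
    (hab : ∀ z₁ z₂ : F, z₁ ^ 2 + emb a₀ * z₁ * z₂ + emb b₀ * z₂ ^ 2 = 0 → z₁ = 0 ∧ z₂ = 0)
    (σ : F ≃+* F) {r : ℕ} (hr : Odd r) (hσ : orderOf σ = r)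
    (hι1 : ∀ x, σ (emb x) = emb x) (hι2 : ∀ y, σ y = y → ∃ x, emb x = y)
    (hQ0 : ∃ v : (Fin m ⊕ Fin m) ⊕ Fin 2 → F, stdMinus F m (emb a₀) (emb b₀) v ≠ 0)
    (hσQ : σ ∈ QAut ⇑(stdMinus F m (emb a₀) (emb b₀)))
    (δ : MulAut (Cfsg.POmega F ⇑(stdMinus F m (emb a₀) (emb b₀))))
    (hδ : δ ∈ inD (stdMinus F m (emb a₀) (emb b₀)) hQ0 (m + 1)) :
    ∃ t c : MulAut (Cfsg.POmega F ⇑(stdMinus F m (emb a₀) (emb b₀))),
      t ∈ Cfsg.Inn (Cfsg.POmega F ⇑(stdMinus F m (emb a₀) (emb b₀))) ∧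
      c ∈ inD (stdMinus F m (emb a₀) (emb b₀)) hQ0 (m + 1) ∧
      c * fieldAutPOm ⇑(stdMinus F m (emb a₀) (emb b₀)) ⟨σ, hσQ⟩ =
        fieldAutPOm ⇑(stdMinus F m (emb a₀) (emb b₀)) ⟨σ, hσQ⟩ * c ∧
      δ = t * c := by
  classical
  have h2 := two_ne_zero_of_odd_card hodd
  have h2₀ : (2 : F₀) ≠ 0 := two_ne_zero_of_emb emb h2
  have hab' : AnisoPair (emb a₀) (emb b₀) := hab
  have hfam := stdMinus_isHypFamily F m (emb a₀) (emb b₀)
  have hfam₀ := stdMinus_isHypFamily F₀ m a₀ b₀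
  have hnd := stdMinus_nondegenerate (F := F) m hab'
  have hcard : Fintype.card ((Fin m ⊕ Fin m) ⊕ Fin 2) = 2 * (m + 1) := by simp; ring
  have hperf := hperf_of_hyp (stdMinus F m (emb a₀) (emb b₀)) hnd _ _ hfam (by omega)
    (by rw [hcard]; omega)
  have hcent := hcent_of_hyp (stdMinus F m (emb a₀) (emb b₀)) hfam (by omega)
    (Cfsg.Agent.Lead.POmegaCard.hspan_minus m (emb a₀) (emb b₀))
  have hB := isBC_stdMinus m emb a₀ b₀
  have hσr : σ ^ r = 1 := by rw [← hσ]; exact pow_orderOf_eq_one σ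
  -- notation
  set Q := stdMinus F m (emb a₀) (emb b₀) with hQdef
  set Q₀ := stdMinus F₀ m a₀ b₀ with hQ₀def
  -- step 1: a similarity with trivial discriminant character
  obtain ⟨x, hx, rfl⟩ := hδ
  have hxG1 : (x : GL ((Fin m ⊕ Fin m) ⊕ Fin 2) F) ∈ GO1 Q hQ0 (m + 1) := hx
  obtain ⟨hxGO, hxd⟩ := (mem_GO1 Q hQ0 (m + 1) _).1 hxG1
  set gx : ↥(GO Q) := ⟨x.1, hxGO⟩ with hgx
  -- step 2: the multiplier up to squares
  obtain ⟨μ₀, hμ₀⟩ := f3o_exists_sq h2 emb σ hr hσr hι1 hι2 (mult Q gx)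
  -- step 3: the rational similarity
  have hab₀ : AnisoPair a₀ b₀ := by
    intro z₁ z₂ h
    have h1 := hab (emb z₁) (emb z₂) (by
      rw [← map_pow, ← map_pow, ← map_mul, ← map_mul, ← map_mul, ← map_add, ← map_add, h,
        map_zero])
    exact ⟨emb.injective (by rw [h1.1, map_zero]), emb.injective (by rw [h1.2, map_zero])⟩
  obtain ⟨w₀, hw₀⟩ := hab₀.exists_nrm_eq (μ₀ : F₀)
  set μ' : Fˣ := Units.map (emb : F₀ →* F) μ₀ with hμ'
  have hμ'coe : (μ' : F) = emb (μ₀ : F₀) := rfl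
  set w' : F × F := (emb w₀.1, emb w₀.2) with hw'def
  have hw' : nrm (emb a₀) (emb b₀) w' = μ' := by
    rw [hμ'coe, ← hw₀]
    simp only [nrm, map_add, map_mul, map_pow, hw'def]
  set D : GL ((Fin m ⊕ Fin m) ⊕ Fin 2) F := deltaMinus m (emb a₀) (emb b₀) μ' w' hw' with hD
  have hDGO : D ∈ GO Q := deltaMinus_mem m (emb a₀) (emb b₀) μ' w' hw'
  set gD : ↥(GO Q) := ⟨D, hDGO⟩ with hgD
  have hmuD : mult Q gD = μ' := mult_unique _ hQ0 _ _ (fun v => by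
    show Q (deltaMinusMat m (emb a₀) (emb b₀) μ' w' *ᵥ v) = _
    exact deltaMinusMat_sim m (emb a₀) (emb b₀) μ' w' hw' v)
  have hdD : dHom Q hQ0 (m + 1) gD = 1 := by
    apply Units.ext
    rw [dHom_coe, hmuD, Units.val_one]
    show (deltaMinusMat m (emb a₀) (emb b₀) μ' w').det * _ = 1
    rw [deltaMinusMat_det, hw', ← pow_succ]
    exact mul_inv_cancel₀ (pow_ne_zero _ (Units.ne_zero _))
  have hDσ : mapGL σ D = D := by
    apply Units.ext
    show (deltaMinusMat m (emb a₀) (emb b₀) μ' w').map σ = deltaMinusMat m (emb a₀) (emb b₀) μ' w'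
    rw [f3o_deltaMinusMat_map, hι1, hι1, hμ'coe, hι1, hw'def]
    simp only [hι1]
  -- the quotient is a scalar times a special isometry
  have hy : psiHom Q hQ0 hnd (m + 1) hcard h2 (gx * gD⁻¹) = 1 := by
    rw [psiHom_eq_one_iff]
    constructor
    · have h1 : mult Q (gx * gD⁻¹) = mult Q gx * (mult Q gD)⁻¹ := by
        have h3 := map_mul (multHom Q hQ0) gx gD⁻¹
        rw [map_inv] at h3
        exact h3
      rw [h1, hmuD, Units.val_mul, Units.val_inv_eq_inv_val]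
      exact hμ₀
    · rw [map_mul, map_inv, hxd, hdD, inv_one, mul_one]
  obtain ⟨c, h, hh, hyh⟩ := (psiHom_eq_one_iff' Q hQ0 hnd (m + 1) hcard h2 _).1 hy
  have hyh' : x.1 * D⁻¹ = sclHom c * h := hyh
  -- step 4: Cartan–Dieudonné and the spinor norm
  have hhO : h ∈ Cfsg.isometryGroup F ⇑Q := SOG_le_OG Q hh
  have hhdet := ((mem_SOG_iff Q _).1 hh).2
  have hexc : Fintype.card F ≠ 2 ∨ Fintype.card ((Fin m ⊕ Fin m) ⊕ Fin 2) ≠ 4 :=
    Or.inr (by rw [hcard]; omega)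
  obtain ⟨l, hl, hhl⟩ := Cfsg.Agent.S0786.matrix_cd_all Q hnd hexc
    (h : Matrix ((Fin m ⊕ Fin m) ⊕ Fin 2) ((Fin m ⊕ Fin m) ⊕ Fin 2) F)
    (fun u => (mem_iso_iff (⇑Q) h).1 hhO u)
  have hneg : (-1 : F) ≠ 1 := by
    intro h'
    apply h2
    have : (1 : F) + 1 = 0 := by
      nth_rewrite 1 [← h']
      exact neg_add_cancel 1
    rw [← one_add_one_eq_two]
    exact this
  have hlen : Even l.length := by
    have h3 := det_list_reflection Q l hl
    have h4 : ((l.map (fun v => Cfsg.reflectionMatrix (⇑Q) v)).prod) =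
        (h : Matrix ((Fin m ⊕ Fin m) ⊕ Fin 2) ((Fin m ⊕ Fin m) ⊕ Fin 2) F) := hhl.symm
    rw [h4, hhdet] at h3
    exact (neg_one_pow_eq_one_iff_even hneg).1 h3.symm
  have hs : ∃ s : GL ((Fin m ⊕ Fin m) ⊕ Fin 2) F, s ∈ SOG Q ∧ mapGL σ s = s ∧
      h * s ∈ OmGL (⇑Q) := by
    by_cases hP : IsSquare ((l.map (fun v => Q v)).prod)
    · refine ⟨1, one_mem _, map_one _, ?_⟩
      rw [mul_one, mem_OmGL]
      refine ⟨⟨⟨h, hhO⟩, ?_⟩, rfl⟩
      exact (mem_Omega_iff_of_list Q h2 (by rw [hcard]; omega) hnd ⟨h, hhO⟩ l hl hhl).2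
        ⟨hlen, hP⟩
    · obtain ⟨ν₀, hν₀⟩ := exists_nonsquare_unit (F := F₀) h2₀
      have hns : ¬ IsSquare (emb (ν₀ : F₀)) := by
        apply not_isSquare_of_odd_order h2 σ hr hσr (emb (ν₀ : F₀)) (hι1 _)
        intro c' hc hcc
        obtain ⟨c₀, rfl⟩ := hι2 c' hc
        apply hν₀
        refine ⟨c₀, ?_⟩
        apply emb.injective
        rw [map_mul, hcc]
      obtain ⟨u₀, hu₀⟩ := hrep_of_hyp Q₀ hfam₀ (by omega) 1
      obtain ⟨v₀, hv₀⟩ := hrep_of_hyp Q₀ hfam₀ (by omega) (ν₀ : F₀)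
      have hQu : Q (mapV emb u₀) = 1 := by
        have := hB u₀
        rw [this, hu₀, map_one]
      have hQv : Q (mapV emb v₀) = emb (ν₀ : F₀) := by
        have := hB v₀
        rw [this, hv₀]
      have hu : Q (mapV emb u₀) ≠ 0 := by rw [hQu]; exact one_ne_zero
      have hv : Q (mapV emb v₀) ≠ 0 := by
        rw [hQv]
        intro h0
        apply hns
        rw [h0]
        exact ⟨0, by simp⟩
      set t : ↥(Cfsg.isometryGroup F ⇑Q) := reflIso Q hu * reflIso Q hv with ht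
      have htmat : ((t : GL ((Fin m ⊕ Fin m) ⊕ Fin 2) F) :
          Matrix ((Fin m ⊕ Fin m) ⊕ Fin 2) ((Fin m ⊕ Fin m) ⊕ Fin 2) F) =
          Cfsg.reflectionMatrix (⇑Q) (mapV emb u₀) * Cfsg.reflectionMatrix (⇑Q) (mapV emb v₀) :=
        rfl
      have htcoe : ((t : GL ((Fin m ⊕ Fin m) ⊕ Fin 2) F) :
          Matrix ((Fin m ⊕ Fin m) ⊕ Fin 2) ((Fin m ⊕ Fin m) ⊕ Fin 2) F) =
          ((Cfsg.reflectionMatrix (⇑Q₀) u₀ * Cfsg.reflectionMatrix (⇑Q₀) v₀ :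
            Matrix ((Fin m ⊕ Fin m) ⊕ Fin 2) ((Fin m ⊕ Fin m) ⊕ Fin 2) F₀)).map emb := by
        rw [Matrix.map_mul, hB.reflectionMatrix, hB.reflectionMatrix]
        rfl
      refine ⟨(t : GL ((Fin m ⊕ Fin m) ⊕ Fin 2) F), ?_, ?_, ?_⟩
      · rw [mem_SOG_iff]
        refine ⟨t.2, ?_⟩
        rw [htmat, Matrix.det_mul, reflectionMatrix_det Q hu, reflectionMatrix_det Q hv]
        ring
      · apply Units.ext
        rw [mapGL_coe, htcoe]
        ext i j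
        exact hι1 _
      · rw [mem_OmGL]
        refine ⟨⟨⟨h, hhO⟩ * t, ?_⟩, rfl⟩
        have hl' : ∀ w ∈ l ++ [mapV emb u₀, mapV emb v₀], Q w ≠ 0 := by
          intro w hw
          rw [List.mem_append] at hw
          rcases hw with hw | hw
          · exact hl w hw
          · simp only [List.mem_cons, List.not_mem_nil, or_false] at hw
            rcases hw with rfl | rfl
            · exact hu
            · exact hv
        have hmat : (((⟨h, hhO⟩ * t : ↥(Cfsg.isometryGroup F ⇑Q)) :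
            GL ((Fin m ⊕ Fin m) ⊕ Fin 2) F) :
            Matrix ((Fin m ⊕ Fin m) ⊕ Fin 2) ((Fin m ⊕ Fin m) ⊕ Fin 2) F) =
            ((l ++ [mapV emb u₀, mapV emb v₀]).map
              (fun v => Cfsg.reflectionMatrix (⇑Q) v)).prod := by
          rw [List.map_append, List.prod_append]
          show (h : Matrix ((Fin m ⊕ Fin m) ⊕ Fin 2) ((Fin m ⊕ Fin m) ⊕ Fin 2) F) *
            ((t : GL ((Fin m ⊕ Fin m) ⊕ Fin 2) F) :
              Matrix ((Fin m ⊕ Fin m) ⊕ Fin 2) ((Fin m ⊕ Fin m) ⊕ Fin 2) F) = _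
          rw [htmat, hhl]
          simp only [List.map_cons, List.map_nil, List.prod_cons, List.prod_nil, mul_one]
        refine (mem_Omega_iff_of_list Q h2 (by rw [hcard]; omega) hnd _ _ hl' hmat).2 ⟨?_, ?_⟩
        · rw [List.length_append]
          simp only [List.length_cons, List.length_nil]
          exact hlen.add (by decide)
        · rw [List.map_append, List.prod_append]
          simp only [List.map_cons, List.map_nil, List.prod_cons, List.prod_nil, mul_one]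
          rw [hQu, one_mul, hQv]
          exact isSquare_mul_of_not_isSquare hP hns
  obtain ⟨s, hsSO, hsσ, hhs⟩ := hs
  have hsO : s ∈ OG Q := SOG_le_OG Q hsSO
  -- step 5: assembly
  have hcGO : sclHom c ∈ GO Q := sclHom_mem_GO Q c
  have hsGO : s ∈ GO Q := iso_le_sim (⇑Q) hsO
  set xs : ↥(NO (⇑Q)) := ⟨sclHom c, sim_le_NO (⇑Q) hcGO⟩ with hxs
  set xω : ↥(NO (⇑Q)) := ⟨h * s, OmGL_le_NO (⇑Q) hhs⟩ with hxω
  set xc : ↥(NO (⇑Q)) := ⟨s⁻¹ * D, sim_le_NO (⇑Q) (mul_mem (inv_mem hsGO) hDGO)⟩ with hxc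
  have hxdec : x = xs * xω * xc := by
    apply Subtype.ext
    show x.1 = sclHom c * (h * s) * (s⁻¹ * D)
    calc x.1 = (x.1 * D⁻¹) * D := by group
      _ = sclHom c * h * D := by rw [hyh']
      _ = sclHom c * (h * s) * (s⁻¹ * D) := by group
  have hPxs : Phi (⇑Q) xs = 1 := by
    have h1 : xs ∈ (Phi (⇑Q)).ker := by
      rw [ker_Phi (⇑Q) hperf hcent, Subgroup.mem_subgroupOf]
      exact sclHom_mem c
    exact h1
  refine ⟨Phi (⇑Q) xω, Phi (⇑Q) xc, ?_, ?_, ?_, ?_⟩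
  · rw [inn_eq]
    exact ⟨xω, hhs, rfl⟩
  · refine ⟨xc, ?_, rfl⟩
    show s⁻¹ * D ∈ GO1 Q hQ0 (m + 1)
    exact mul_mem (inv_mem (SOG_le_GO1 Q hQ0 (m + 1) hsSO))
      ((mem_GO1 Q hQ0 (m + 1) D).2 ⟨hDGO, hdD⟩)
  · have h1 := fieldAutPOm_mul_Phi (⇑Q) ⟨σ, hσQ⟩ xc
    have h3 : sigmaNO (⇑Q) ⟨σ, hσQ⟩ xc = xc := by
      apply Subtype.ext
      rw [sigmaNO_coe]
      show mapGL σ (s⁻¹ * D) = s⁻¹ * D
      rw [map_mul, map_inv, hsσ, hDσ]
    rw [h3] at h1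
    exact h1.symm
  · rw [hxdec, map_mul, map_mul, hPxs, one_mul]

end aux

/-- (F3o) ODD characteristic, `σ` of ODD order: `Inndiag = Inn · C_Inndiag(φ_σ)`. -/
theorem inndiag_eq_inn_mul_cent_odd {F₀ : Type*} [Field F₀] [Fintype F₀] {F : Type*} [Field F]
    [Fintype F] (hodd : Odd (Fintype.card F))
    {m : ℕ} (hm : 3 ≤ m) (emb : F₀ →+* F) (a₀ b₀ : F₀)
    (hab : ∀ z₁ z₂ : F, z₁ ^ 2 + emb a₀ * z₁ * z₂ + emb b₀ * z₂ ^ 2 = 0 → z₁ = 0 ∧ z₂ = 0)
    (σ : F ≃+* F) {r : ℕ} (hr : Odd r) (hσ : orderOf σ = r)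
    (hι1 : ∀ x, σ (emb x) = emb x) (hι2 : ∀ y, σ y = y → ∃ x, emb x = y)
    (hσQ : σ ∈ QAut (Cfsg.quadFormMinus m F (emb a₀) (emb b₀)))
    (δ : MulAut (Cfsg.POmega F (Cfsg.quadFormMinus m F (emb a₀) (emb b₀))))
    (hδ : δ ∈ Cfsg.inndiagPOmegaMinus m F (emb a₀) (emb b₀)) :
    ∃ t c : MulAut (Cfsg.POmega F (Cfsg.quadFormMinus m F (emb a₀) (emb b₀))),
      t ∈ Cfsg.Inn (Cfsg.POmega F (Cfsg.quadFormMinus m F (emb a₀) (emb b₀))) ∧
      c ∈ Cfsg.inndiagPOmegaMinus m F (emb a₀) (emb b₀) ∧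
      c * fieldAutPOm (Cfsg.quadFormMinus m F (emb a₀) (emb b₀)) ⟨σ, hσQ⟩ =
        fieldAutPOm (Cfsg.quadFormMinus m F (emb a₀) (emb b₀)) ⟨σ, hσQ⟩ * c ∧
      δ = t * c := by
  classical
  have hfam := stdMinus_isHypFamily F m (emb a₀) (emb b₀)
  have hQ0 := hQ0_of_hyp (stdMinus F m (emb a₀) (emb b₀)) hfam (by omega)
  have haux := inndiag_minus_aux hodd m (emb a₀) (emb b₀) hab hQ0
  have key := fun hσQ' δ' hδ' => f3o_aux (F₀ := F₀) hodd hm emb a₀ b₀ hab σ hr hσ hι1 hι2 hQ0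
    hσQ' δ' hδ'
  rw [← haux, coe_stdMinus] at key
  exact key hσQ δ hδ

end Cfsg.Agent.Helper62.OMF
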