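import Mathlib

/-!
# Semilinearity from singular lines (helper62, for helper5's orthogonal Aut rows)

`semilinear_of_singular_lines`: an injective additive map preserving (in both directions) the
singular lines of a quadratic form is semilinear, provided the singular vectors span and any two
singular points have a common singular perpendicular neighbour off both lines.
-/

set_option autoImplicit false

namespace Cfsg.Agent.Helper62.OSemi

open QuadraticMap

section L1

variable {F V : Type*} [Field F] [AddCommGroup V] [Module F V]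

/-- independence of the images of two independent singular vectors. -/
theorem indep_images (Q : QuadraticForm F V) (f : V →+ V) (hinj : Function.Injective f)
    (hline' : ∀ w, Q w = 0 → ∀ c' : F, ∃ c : F, f (c • w) = c' • f w)
    {w z : V} (hw : w ≠ 0) (hQw : Q w = 0) (hQz : Q z = 0) (hz : ∀ c : F, z ≠ c • w)
    {a b : F} (h : a • f w + b • f z = 0) : a = 0 ∧ b = 0 := by
  have hz0 : z ≠ 0 := by
    intro h0
    exact hz 0 (by rw [h0, zero_smul])
  have hfw : f w ≠ 0 := by
    intro h0
    exact hw (hinj (by rw [h0, map_zero]))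
  have hfz : f z ≠ 0 := by
    intro h0
    exact hz0 (hinj (by rw [h0, map_zero]))
  obtain ⟨a', ha'⟩ := hline' w hQw a
  obtain ⟨b', hb'⟩ := hline' z hQz b
  have h1 : f (a' • w + b' • z) = 0 := by
    rw [map_add, ha', hb', h]
  have h2 : a' • w + b' • z = 0 := hinj (by rw [h1, map_zero])
  have hb0 : b' = 0 := by
    by_contra hb0
    apply hz (-(b'⁻¹ * a'))
    have h3 : b' • z = -(a' • w) := by
      rw [eq_neg_iff_add_eq_zero, add_comm]
      exact h2
    have h4 : z = b'⁻¹ • (b' • z) := by
      rw [smul_smul, inv_mul_cancel₀ hb0, one_smul]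
    rw [h4, h3, smul_neg, smul_smul, neg_smul]
  have ha0 : a' = 0 := by
    rw [hb0, zero_smul, add_zero] at h2
    rcases smul_eq_zero.mp h2 with h | h
    · exact h
    · exact absurd h hw
  constructor
  · rw [ha0, zero_smul, map_zero] at ha'
    rcases smul_eq_zero.mp ha'.symm with h | h
    · exact h
    · exact absurd h hfw
  · rw [hb0, zero_smul, map_zero] at hb'
    rcases smul_eq_zero.mp hb'.symm with h | h
    · exact h
    · exact absurd h hfz

/-- the scalar distortion is the same on two perpendicular independent singular vectors. -/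
theorem transfer (Q : QuadraticForm F V) (f : V →+ V) (hinj : Function.Injective f)
    (hline : ∀ w, Q w = 0 → ∀ c : F, ∃ c' : F, f (c • w) = c' • f w)
    (hline' : ∀ w, Q w = 0 → ∀ c' : F, ∃ c : F, f (c • w) = c' • f w)
    {w z : V} (hw : w ≠ 0) (hQw : Q w = 0) (hQz : Q z = 0) (hp : polar Q z w = 0)
    (hz : ∀ c : F, z ≠ c • w) {c d : F} (hd : f (c • w) = d • f w) :
    f (c • z) = d • f z := by
  have hQwz : Q (w + z) = 0 := by
    have h1 : polar Q w z = 0 := by rw [polar_comm]; exact hp
    have h2 : Q (w + z) = Q w + Q z + polar Q w z := by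
      unfold polar
      ring
    rw [h2, hQw, hQz, h1]
    simp
  obtain ⟨d1, hd1⟩ := hline z hQz c
  obtain ⟨d2, hd2⟩ := hline (w + z) hQwz c
  have h3 : (d - d2) • f w + (d1 - d2) • f z = 0 := by
    have h4 : f (c • (w + z)) = d • f w + d1 • f z := by
      rw [smul_add, map_add, hd, hd1]
    rw [hd2, map_add, smul_add] at h4
    rw [sub_smul, sub_smul]
    have h5 : d • f w + d1 • f z - (d2 • f w + d2 • f z) = 0 := by
      rw [h4]; exact sub_self _
    rw [← h5]
    abel
  obtain ⟨h6, h7⟩ := indep_images Q f hinj hline' hw hQw hQz hz h3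
  have h8 : d1 = d := by
    rw [sub_eq_zero] at h6 h7
    rw [h7, ← h6]
  rw [hd1, h8]

theorem semilinear_of_singular_lines (Q : QuadraticForm F V)
    (hex : ∃ w : V, w ≠ 0 ∧ Q w = 0)
    (hspan : Submodule.span F {w : V | Q w = 0} = ⊤)
    (hconn : ∀ w w' : V, w ≠ 0 → w' ≠ 0 → Q w = 0 → Q w' = 0 →
      ∃ z : V, Q z = 0 ∧ polar Q z w = 0 ∧ polar Q z w' = 0 ∧ (∀ c : F, z ≠ c • w) ∧
        (∀ c : F, z ≠ c • w'))
    (f : V →+ V) (hinj : Function.Injective f)
    (hline : ∀ w, Q w = 0 → ∀ c : F, ∃ c' : F, f (c • w) = c' • f w)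
    (hline' : ∀ w, Q w = 0 → ∀ c' : F, ∃ c : F, f (c • w) = c' • f w) :
    ∃ σ : F ≃+* F, ∀ (c : F) (w : V), f (c • w) = σ c • f w := by
  classical
  obtain ⟨w0, hw0, hQw0⟩ := hex
  have hfw0 : f w0 ≠ 0 := by
    intro h0
    exact hw0 (hinj (by rw [h0, map_zero]))
  -- the distortion on w0
  choose s hs using hline w0 hQw0
  -- it is the distortion on every nonzero singular vector
  have hall : ∀ w : V, w ≠ 0 → Q w = 0 → ∀ c : F, f (c • w) = s c • f w := by
    intro w hw hQw c
    obtain ⟨z, hQz, hzw0, hzw, hz1, hz2⟩ := hconn w0 w hw0 hw hQw0 hQw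
    have hz0 : z ≠ 0 := by
      intro h0
      exact hz1 0 (by rw [h0, zero_smul])
    have h1 : f (c • z) = s c • f z :=
      transfer Q f hinj hline hline' hw0 hQw0 hQz hzw0 hz1 (hs c)
    have hwz : ∀ c' : F, w ≠ c' • z := by
      intro c' h
      have hc' : c' ≠ 0 := by
        intro h0
        rw [h0, zero_smul] at h
        exact hw h
      apply hz2 c'⁻¹
      rw [h, smul_smul, inv_mul_cancel₀ hc', one_smul]
    have hp : polar Q w z = 0 := by rw [polar_comm]; exact hzw
    exact transfer Q f hinj hline hline' hz0 hQz hQw hp hwz h1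
  have hinjs : ∀ {a b : F}, a • f w0 = b • f w0 → a = b := by
    intro a b h
    have h1 : (a - b) • f w0 = 0 := by rw [sub_smul, h, sub_self]
    rcases smul_eq_zero.mp h1 with h2 | h2
    · exact sub_eq_zero.mp h2
    · exact absurd h2 hfw0
  have hs0 : s 0 = 0 := by
    apply hinjs
    rw [← hs 0, zero_smul, zero_smul, map_zero]
  have hs1 : s 1 = 1 := by
    apply hinjs
    rw [← hs 1, one_smul, one_smul]
  have hsadd : ∀ a b : F, s (a + b) = s a + s b := by
    intro a b
    apply hinjs
    rw [← hs (a + b), add_smul, map_add, hs a, hs b, add_smul]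
  have hsmul : ∀ a b : F, s (a * b) = s a * s b := by
    intro a b
    by_cases hb : b = 0
    · rw [hb, mul_zero, hs0, mul_zero]
    · apply hinjs
      have hbw : b • w0 ≠ 0 := by
        intro h
        rcases smul_eq_zero.mp h with h1 | h1
        · exact hb h1
        · exact hw0 h1
      have hQbw : Q (b • w0) = 0 := by
        rw [QuadraticMap.map_smul, hQw0, smul_zero]
      rw [← hs (a * b), mul_smul, hall (b • w0) hbw hQbw a, hs b, smul_smul]
  let σ₀ : F →+* F :=
    { toFun := s
      map_one' := hs1
      map_mul' := hsmul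
      map_zero' := hs0
      map_add' := hsadd }
  have hσinj : Function.Injective σ₀ := by
    intro a b h
    have h1 : s a = s b := h
    have h2 : f (a • w0) = f (b • w0) := by rw [hs a, hs b, h1]
    have h3 : a • w0 = b • w0 := hinj h2
    have h4 : (a - b) • w0 = 0 := by rw [sub_smul, h3, sub_self]
    rcases smul_eq_zero.mp h4 with h5 | h5
    · exact sub_eq_zero.mp h5
    · exact absurd h5 hw0
  have hσsurj : Function.Surjective σ₀ := by
    intro c'
    obtain ⟨c, hc⟩ := hline' w0 hQw0 c'
    refine ⟨c, ?_⟩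
    show s c = c'
    apply hinjs
    rw [← hs c, hc]
  refine ⟨RingEquiv.ofBijective σ₀ ⟨hσinj, hσsurj⟩, ?_⟩
  intro c w
  show f (c • w) = s c • f w
  have hw : w ∈ Submodule.span F {w : V | Q w = 0} := by rw [hspan]; trivial
  revert c
  induction hw using Submodule.span_induction with
  | mem x hx =>
    intro c
    by_cases hx0 : x = 0
    · rw [hx0, smul_zero, map_zero, smul_zero]
    · exact hall x hx0 hx c
  | zero =>
    intro c
    rw [smul_zero, map_zero, smul_zero]
  | add x y _ _ hx hy =>
    intro c
    rw [smul_add, map_add, hx c, hy c, map_add, smul_add]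
  | smul a x _ hx =>
    intro c
    rw [smul_smul, hx (c * a), hx a, hsmul, smul_smul]

end L1

section L2

variable {F V : Type*} [Field F] [AddCommGroup V] [Module F V]

theorem semisim_of_singular (Q : QuadraticForm F V) (f : V →+ V) (σ : F ≃+* F)
    (hsemi : ∀ (c : F) (w : V), f (c • w) = σ c • f w)
    (hsing : ∀ w, Q w = 0 → Q (f w) = 0)
    (hspan : Submodule.span F {w : V | Q w = 0} = ⊤)
    (hpart : ∀ e : V, e ≠ 0 → Q e = 0 → ∃ e', Q e' = 0 ∧ polar Q e e' = 1)
    (hperp : ∀ e : V, e ≠ 0 → Q e = 0 → ∀ x, polar Q e x = 0 →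
      x ∈ Submodule.span F {z : V | Q z = 0 ∧ polar Q e z = 0})
    (hnon : ∀ e e' : V, e ≠ 0 → e' ≠ 0 → Q e = 0 → Q e' = 0 →
      ∃ t, Q t = 0 ∧ polar Q e t ≠ 0 ∧ polar Q e' t ≠ 0) :
    ∃ μ : F, ∀ w, Q (f w) = μ * σ (Q w) := by
  classical
  -- Step 1: perpendicular singular vectors have perpendicular images
  have step1 : ∀ e z : V, Q e = 0 → Q z = 0 → polar Q e z = 0 → polar Q (f e) (f z) = 0 := by
    intro e z hQe hQz hp
    have h1 : Q (e + z) = 0 := by
      rw [QuadraticMap.map_add Q, hQe, hQz, hp]; simp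
    have h2 := hsing (e + z) h1
    rw [map_add, QuadraticMap.map_add Q, hsing e hQe, hsing z hQz] at h2
    simpa using h2
  -- Step 2: the same for arbitrary x perpendicular to a nonzero singular e
  have step2 : ∀ e : V, e ≠ 0 → Q e = 0 → ∀ x, polar Q e x = 0 → polar Q (f e) (f x) = 0 := by
    intro e he hQe x hx
    have hmem := hperp e he hQe x hx
    clear hx
    induction hmem using Submodule.span_induction with
    | mem z hz => exact step1 e z hQe hz.1 hz.2
    | zero => rw [map_zero, polar_zero_right]
    | add y y' _ _ hy hy' => rw [map_add, polar_add_right, hy, hy', add_zero]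
    | smul a y _ hy => rw [hsemi, polar_smul_right, hy, smul_zero]
  -- Step 3: proportionality for each nonzero singular e
  have step3 : ∀ e : V, e ≠ 0 → Q e = 0 → ∃ m : F, ∀ x, polar Q (f e) (f x) = m * σ (polar Q e x) := by
    intro e he hQe
    obtain ⟨e', hQe', hee'⟩ := hpart e he hQe
    refine ⟨polar Q (f e) (f e'), ?_⟩
    intro x
    have h1 : polar Q e (x - polar Q e x • e') = 0 := by
      rw [sub_eq_add_neg, polar_add_right, ← neg_smul, polar_smul_right, hee']
      simp
    have h2 := step2 e he hQe _ h1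
    rw [sub_eq_add_neg, map_add, ← neg_smul, hsemi, polar_add_right, polar_smul_right] at h2
    rw [map_neg, smul_eq_mul] at h2
    have h3 : polar Q (f e) (f x) = σ (polar Q e x) * polar Q (f e) (f e') := by
      have := eq_neg_of_add_eq_zero_left h2
      rw [this]; ring
    rw [h3, mul_comm]
  choose m hm using step3
  -- Step 4: the constants agree
  have step4 : ∀ e t : V, ∀ (he : e ≠ 0) (ht : t ≠ 0) (hQe : Q e = 0) (hQt : Q t = 0),
      polar Q e t ≠ 0 → m e he hQe = m t ht hQt := by
    intro e t he ht hQe hQt hne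
    have h1 := hm e he hQe t
    have h2 := hm t ht hQt e
    rw [polar_comm] at h2
    rw [h1, polar_comm Q t e] at h2
    have h3 : σ (polar Q e t) ≠ 0 := by
      intro h0
      exact hne ((map_eq_zero_iff σ σ.injective).mp h0)
    exact mul_right_cancel₀ h3 h2
  have step4' : ∀ e e' : V, ∀ (he : e ≠ 0) (he' : e' ≠ 0) (hQe : Q e = 0) (hQe' : Q e' = 0),
      m e he hQe = m e' he' hQe' := by
    intro e e' he he' hQe hQe'
    obtain ⟨t, hQt, h1, h2⟩ := hnon e e' he he' hQe hQe'
    have ht : t ≠ 0 := by
      intro h0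
      rw [h0, polar_zero_right] at h1
      exact h1 rfl
    rw [step4 e t he ht hQe hQt h1, step4 e' t he' ht hQe' hQt h2]
  -- Step 5: a global constant
  obtain ⟨μ, hμ⟩ : ∃ μ : F, ∀ e : V, Q e = 0 → ∀ x, polar Q (f e) (f x) = μ * σ (polar Q e x) := by
    by_cases hex : ∃ e0 : V, e0 ≠ 0 ∧ Q e0 = 0
    · obtain ⟨e0, he0, hQe0⟩ := hex
      refine ⟨m e0 he0 hQe0, ?_⟩
      intro e hQe x
      by_cases he : e = 0
      · rw [he, map_zero, polar_zero_left, polar_zero_left, map_zero, mul_zero]
      · rw [hm e he hQe x, step4' e e0 he he0 hQe hQe0]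
    · refine ⟨0, ?_⟩
      intro e hQe x
      have he : e = 0 := by
        by_contra he
        exact hex ⟨e, he, hQe⟩
      rw [he, map_zero, polar_zero_left, polar_zero_left, map_zero, mul_zero]
  -- Step 6: polar forms are proportional
  have step6 : ∀ v x : V, polar Q (f v) (f x) = μ * σ (polar Q v x) := by
    intro v x
    have hv : v ∈ Submodule.span F {w : V | Q w = 0} := by rw [hspan]; trivial
    induction hv using Submodule.span_induction with
    | mem e he => exact hμ e he x
    | zero => rw [map_zero, polar_zero_left, polar_zero_left, map_zero, mul_zero]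
    | add y y' _ _ hy hy' =>
      rw [map_add, polar_add_left, hy, hy', polar_add_left, map_add, mul_add]
    | smul a y _ hy =>
      rw [hsemi, polar_smul_left, hy, polar_smul_left, smul_eq_mul, smul_eq_mul, map_mul]
      ring
  -- Step 7: the quadratic forms are proportional
  refine ⟨μ, ?_⟩
  intro w
  have hw : w ∈ Submodule.span F {w : V | Q w = 0} := by rw [hspan]; trivial
  induction hw using Submodule.span_induction with
  | mem e he =>
    have he' : Q e = 0 := he
    rw [hsing e he', he', map_zero, mul_zero]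
  | zero => rw [map_zero, QuadraticMap.map_zero, map_zero, mul_zero]
  | add y y' _ _ hy hy' =>
    rw [map_add, QuadraticMap.map_add Q, hy, hy', step6, QuadraticMap.map_add Q, map_add, map_add]
    ring
  | smul a y _ hy =>
    rw [hsemi, QuadraticMap.map_smul, hy, QuadraticMap.map_smul, smul_eq_mul, smul_eq_mul,
      map_mul, map_mul]
    ring

end L2

end Cfsg.Agent.Helper62.OSemi
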