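import Mathlib
import Cfsg.Agent.Lib.Helper64.S4017Defs
import Cfsg.Agent.Lib.Helper63.S4017D1
import Cfsg.Agent.Lib.Helper90.S4017C1
import Cfsg.Agent.Lib.Helper62.S4017D3

set_option autoImplicit false

/-!
# S4017M (D4b), core: the Sylow `p`-subgroup through `z` is centralised by `t`
((D4a) as a hypothesis)
-/

namespace Cfsg.Agent.Helper62.S4017M

open Cfsg.Agent.Helper64.S4017

variable {G : Type*} [Group G] [Finite G] {a p : ℕ} {Q : Subgroup G} {x : G}

/-- (D4b), with (D4a) as a hypothesis. -/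
theorem h62_D_sylow_le_core (h : Setting a p Q x) (T : Tools a p Q x) (ha : a = 2)
    (hP1 : ¬ P1ne p Q)
    (hD4a : ∀ {t t' : G}, t ∈ Q → t ≠ 1 → t' ∈ Q → t' ≠ 1 → t ≠ t' →
      (∃ z : G, z ≠ 1 ∧ IsPel p z ∧ z * t = t * z) →
      (∀ z1 z2 : G, IsPel p z1 → z1 * t = t * z1 → IsPel p z2 → z2 * t' = t' * z2 →
        z1 * z2 = z2 * z1) → False)
    {t z : G} (ht : t ∈ Q) (ht1 : t ≠ 1) (hz : IsPel p z) (hz1 : z ≠ 1)
    (hzt : z * t = t * z) (P : Sylow p G) (hzP : z ∈ P) : ∀ g ∈ P, g * t = t * g := by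
  classical
  have hp : p.Prime := h.prime
  have hp3 : p = 3 := by
    have := h.p_eq; rw [ha] at this; omega
  have htt : t * t = 1 := h.elem t ht
  have hot : orderOf t = 2 := orderOf_eq_prime (by rw [pow_two]; exact htt) ht1
  have hQcomm : ∀ s ∈ Q, ∀ s' ∈ Q, s * s' = s' * s := by
    intro s hs s' hs'
    have h1 := h.elem s hs
    have h2 := h.elem s' hs'
    have h3 := h.elem (s * s') (Q.mul_mem hs hs')
    have e1 : s⁻¹ = s := inv_eq_of_mul_eq_one_right h1
    have e2 : s'⁻¹ = s' := inv_eq_of_mul_eq_one_right h2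
    have e3 : (s * s')⁻¹ = s * s' := inv_eq_of_mul_eq_one_right h3
    rw [← e3, mul_inv_rev, e1, e2]
  have hPpel : ∀ (P' : Sylow p G), ∀ g ∈ P', IsPel p g := by
    intro P' g hg
    obtain ⟨k, hk⟩ := P'.isPGroup' ⟨g, hg⟩
    have hk' : g ^ p ^ k = 1 := by
      have := congrArg Subtype.val hk
      simpa using this
    obtain ⟨m, -, hm⟩ := (Nat.dvd_prime_pow hp).1 (orderOf_dvd_of_pow_eq_one hk')
    exact ⟨m, hm⟩
  obtain ⟨P0, hzP0, huniq, hpel, -⟩ := D_sylow h T ha hP1 ht ht1 hz hz1 hzt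
  have hPP0 : P = P0 := huniq P hzP
  subst hPP0
  -- `Q` normalises `P`
  have hnorm : ∀ s ∈ Q, ∀ g ∈ (P : Subgroup G), s * g * s⁻¹ ∈ (P : Subgroup G) := by
    intro s hs g hg
    have hsinv : s⁻¹ = s := inv_eq_of_mul_eq_one_right (h.elem s hs)
    have hε : s⁻¹ * z * s ∈ P := by
      by_cases hs1 : s = 1
      · rw [hs1]; simpa using hzP
      by_cases hst : s = t
      · rw [hst]
        have : t⁻¹ * z * t = z := by rw [mul_assoc, hzt, ← mul_assoc, inv_mul_cancel, one_mul]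
        rw [this]; exact hzP
      · have hD1 := Cfsg.Agent.Helper63.S4017M.D_inverts h T ha hP1 ht ht1 hs hs1 hst hz hzt
        have e : s⁻¹ * z * s = s * z * s⁻¹ := by rw [hsinv]
        rw [e, hD1]; exact (P : Subgroup G).inv_mem hzP
    have hc : s * g * s⁻¹ * z = z * (s * g * s⁻¹) := by
      have hab := h.abel P g hg _ hε
      calc s * g * s⁻¹ * z = s * (g * (s⁻¹ * z * s)) * s⁻¹ := by group
        _ = s * ((s⁻¹ * z * s) * g) * s⁻¹ := by rw [hab]
        _ = z * (s * g * s⁻¹) := by group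
    exact hpel _ hc (Cfsg.Agent.Helper63.S4017M.isPel_conj (hPpel P g hg) s)
  have hodd : ∀ g ∈ (P : Subgroup G), Odd (orderOf g) := by
    intro g hg
    obtain ⟨j, hj⟩ := hPpel P g hg
    rw [hj, hp3]; exact Odd.pow (by decide)
  have hgen := Cfsg.Agent.Helper90.S4017M.eigen_generate (P : Subgroup G) Q (h.abel P) hQcomm
    h.elem hnorm hodd
  have hcent : Subgroup.closure {w | w ∈ (P : Subgroup G) ∧ IsEig Q w} ≤
      Subgroup.centralizer {t} := by
    rw [Subgroup.closure_le]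
    rintro w ⟨hwP, hwE⟩
    rw [SetLike.mem_coe, Subgroup.mem_centralizer_singleton_iff]
    by_contra hne
    have hw1 : w ≠ 1 := by
      rintro rfl
      exact hne (by simp)
    have hwpel : IsPel p w := hPpel P w hwP
    have htw : t * w * t⁻¹ = w⁻¹ := by
      rcases hwE t ht with h1 | h1
      · exfalso; apply hne
        have h2 := congrArg (· * t) h1
        have h3 : t * w = w * t := by simpa using h2
        exact h3.symm
      · exact h1
    obtain ⟨s, hs, hs1, hst⟩ : ∃ s ∈ Q, s ≠ 1 ∧ s ≠ t := by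
      by_contra hcon
      push Not at hcon
      have hle : Q ≤ Subgroup.zpowers t := by
        intro s hs
        by_cases hs1 : s = 1
        · rw [hs1]; exact Subgroup.one_mem _
        · rw [hcon s hs hs1]; exact Subgroup.mem_zpowers t
      have := Subgroup.card_le_of_le hle
      rw [h.card_Q, Nat.card_zpowers, hot, ha] at this
      omega
    obtain ⟨ti, hti, hti1, htit, htiw⟩ : ∃ ti ∈ Q, ti ≠ 1 ∧ ti ≠ t ∧ w * ti = ti * w := by
      rcases hwE s hs with h1 | h1
      · refine ⟨s, hs, hs1, hst, ?_⟩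
        have := congrArg (· * s) h1
        simpa using this.symm
      · refine ⟨t * s, Q.mul_mem ht hs, ?_, ?_, ?_⟩
        · intro h2
          apply hst
          have e : s = t⁻¹ := eq_inv_of_mul_eq_one_right h2
          rw [e]; exact inv_eq_of_mul_eq_one_right htt
        · intro h2
          apply hs1
          simpa using h2
        · have e : t * s * w * (t * s)⁻¹ = w := by
            calc t * s * w * (t * s)⁻¹ = t * (s * w * s⁻¹) * t⁻¹ := by group
              _ = t * w⁻¹ * t⁻¹ := by rw [h1]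
              _ = (t * w * t⁻¹)⁻¹ := by group
              _ = w := by rw [htw, inv_inv]
          calc w * (t * s) = (t * s * w * (t * s)⁻¹) * (t * s) := by rw [e]
            _ = t * s * w := by group
    obtain ⟨Pw, hwPw, huniqw, hpelw, -⟩ := D_sylow h T ha hP1 hti hti1 hwpel hw1 htiw
    have hPPw : P = Pw := huniqw P hwP
    obtain ⟨Z, hZmem, hZab⟩ := T.ct t ht ht1
    obtain ⟨Z', hZ'mem, hZ'ab⟩ := T.ct ti hti hti1
    apply hD4a ht ht1 hti hti1 (Ne.symm htit) ⟨z, hz1, hz, hzt⟩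
    intro z1 z2 hz1p hz1t hz2p hz2t
    have h1P : z1 ∈ P :=
      hpel z1 (hZab z1 ((hZmem z1).2 ⟨hz1t, hz1p⟩) z ((hZmem z).2 ⟨hzt, hz⟩)) hz1p
    have h2P : z2 ∈ P := by
      rw [hPPw]
      exact hpelw z2 (hZ'ab z2 ((hZ'mem z2).2 ⟨hz2t, hz2p⟩) w ((hZ'mem w).2 ⟨htiw, hwpel⟩)) hz2p
    exact h.abel P z1 h1P z2 h2P
  intro g hg
  have hgc := hcent (hgen hg)
  rw [Subgroup.mem_centralizer_singleton_iff] at hgc
  exact hgc

end Cfsg.Agent.Helper62.S4017M
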