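import Mathlib
import Cfsg.Agent.Lib.Helper64.S4017Defs
import Cfsg.Agent.Lib.Helper69.S4017D4a
import Cfsg.Agent.Lib.Helper62.S4017D4bCore

set_option autoImplicit false

/-!
# S4017M (D4b) `D_sylow_le` (helper64's server)
-/

namespace Cfsg.Agent.Helper62.S4017M

open Cfsg.Agent.Helper64.S4017

variable {G : Type*} [Group G] [Finite G] {a p : ℕ} {Q : Subgroup G} {x : G}

/-- (D4b) the Sylow `p`-subgroup `P ∋ z` is centralised by `t`: `Q` normalises `P` (uniqueness in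
(D3) and (D1)); by (C1) `P` is generated by eigenvectors `w ∈ P`; `C_Q(w)` has index `≤ 2` in `Q`, is
not `Q` (`P₁ = 1`), so is `{1, t_i}`; if `t_i ≠ t` then `w ∈ P ∩ Z_{t_i}`, and (D3) for `(t_i, w)`
shows `Z_{t_i} ≤ P`; also `Z_t ≤ P`, `P` abelian: contradiction with (D4a). -/
theorem D_sylow_le (h : Setting a p Q x) (T : Tools a p Q x) (ha : a = 2)
    (hP1 : ¬ P1ne p Q) {t z : G} (ht : t ∈ Q) (ht1 : t ≠ 1) (hz : IsPel p z) (hz1 : z ≠ 1)
    (hzt : z * t = t * z) (P : Sylow p G) (hzP : z ∈ P) : ∀ g ∈ P, g * t = t * g :=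
  h62_D_sylow_le_core h T ha hP1
    (fun ht ht1 ht' ht'1 hne hZ hcomm =>
      Cfsg.Agent.Helper69.S4017M.D_comm_false h T ha hP1 ht ht1 ht' ht'1 hne hZ hcomm)
    ht ht1 hz hz1 hzt P hzP

end Cfsg.Agent.Helper62.S4017M
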