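import Mathlib
import Cfsg.Agent.Lib.Helper62.SLN0
import Cfsg.Agent.Lib.Helper25.SLN_TOPA
import Cfsg.Agent.Lib.Helper25.SLN_TOPB
import Cfsg.Agent.Lib.Helper93.SLN_TOPC
import Cfsg.Agent.Lib.Helper5.SLN_A
import Cfsg.Agent.Lib.Helper3.SLN_TR
import Cfsg.Agent.Lib.Helper47.SLN_R8
import Cfsg.Agent.Lib.Helper28.SLN_EX

/-!
# SLN project (S2332): final assembly
-/

set_option autoImplicit false

namespace Cfsg.Agent.Helper62.SLN

open Matrix Module Cfsg.Agent.Helper25.SLN Cfsg.Agent.Helper93.SLN Cfsg.Agent.Helper5.SLN Cfsg.Agent.Helper3.SLN Cfsg.Agent.Helper47.SLN Cfsg.Agent.Helper28.SLN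

/-- from the integrality relation to a divisibility of naturals -/
theorem h62_dvd_T (k c A P : ℕ) (hP : 1 ≤ P) (hk : k = c + (P - 1))
    (hdiv : (k : ℤ) ∣ ((A : ℕ) : ℤ) * ((c : ℤ) - 1)) : k ∣ A * P := by
  have h1 : ((c : ℤ) - 1) = (k : ℤ) - (P : ℤ) := by
    subst hk
    push_cast [Nat.cast_sub hP]
    ring
  rw [h1] at hdiv
  have h2 : (k : ℤ) ∣ (A : ℤ) * (P : ℤ) := by
    have h3 : (A : ℤ) * (P : ℤ) = (A : ℤ) * (k : ℤ) - (A : ℤ) * ((k : ℤ) - (P : ℤ)) := by ring
    rw [h3]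
    exact dvd_sub (Dvd.intro_left _ rfl) hdiv
  exact_mod_cast h2

theorem h62_gs_succ (q m : ℕ) : gs q (m + 1) = gs q m + q ^ m := by
  unfold gs
  rw [Finset.sum_range_succ]

theorem h62_gs_pos (q m : ℕ) : 1 ≤ gs q (m + 1) := by
  unfold gs
  rw [Finset.sum_range_succ']
  simp

section Main

variable (F : Type*) [Field F] [Fintype F] [DecidableEq F]

/-- the lower bound, by strong induction on `n` -/
theorem h62_lower_bound : ∀ n : ℕ, 3 ≤ n →
    ¬ (n = 3 ∧ Fintype.card F = 2) → ¬ (n = 3 ∧ Fintype.card F = 4) →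
    ¬ (n = 4 ∧ Fintype.card F = 2) → ¬ (n = 4 ∧ Fintype.card F = 3) →
    ∀ (k : ℕ) (ρ : Representation ℂ (SpecialLinearGroup (Fin n) F) (Fin k → ℂ)),
      ρ.IsIrreducible → 2 ≤ k → gs (Fintype.card F) n - 1 ≤ k := by
  intro n
  induction n using Nat.strong_induction_on with
  | _ n ih =>
  intro hn h32 h34 h42 h43 k ρ hρ hk
  obtain ⟨m, rfl⟩ : ∃ m, n = m + 1 := ⟨n - 1, by omega⟩
  have hq2 : 2 ≤ Fintype.card F := Fintype.one_lt_card
  have hpp : IsPrimePow (Fintype.card F) := FiniteField.isPrimePow_card F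
  generalize hq : Fintype.card F = q at *
  have hqm : 1 ≤ q ^ m := Nat.one_le_pow _ _ (by omega)
  obtain ⟨e⟩ := exists_reindex F m
  have hρ' := irreducible_comp_equiv e ρ hρ
  set ρ' : Representation ℂ (SpecialLinearGroup (Unit ⊕ Fin m) F) (Fin k → ℂ) :=
    ρ.comp e.toMonoidHom with hρ'def
  have hcard : Fintype.card (Fin m) = m := Fintype.card_fin m
  by_contra hlt
  push Not at hlt
  have h2le : ¬ 2 * (q ^ m - 1) ≤ k := by
    intro h
    have := two_mul_le q m hq2 (by omega)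
    omega
  rcases Nat.lt_or_ge m 3 with hm3 | hm3
  · -- n = 3
    have hm : m = 2 := by omega
    subst hm
    have hq2' : q ≠ 2 := fun h => h32 ⟨rfl, h⟩
    have hq4' : q ≠ 4 := fun h => h34 ⟨rfl, h⟩
    rcases topB (κ := Fin 2) (F := F) hcard (hq ▸ hq2') (hq ▸ hq4') ρ' hρ' hk with
      h | ⟨c, hkc, hdiv, hc⟩
    · rw [hq] at h
      exact h2le h
    · rw [hq] at hkc hdiv hc
      have hT : k ∣ gs q 3 * (q ^ 2 - 1) * q ^ 2 := h62_dvd_T k c _ (q ^ 2) hqm hkc hdiv
      have hgs : gs q 3 = 1 + q + q ^ 2 := by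
        unfold gs
        simp [Finset.sum_range_succ]
      have hqq : q ≤ q ^ 2 := by nlinarith
      have hk' : k = q ^ 2 + q - 2 ∨ k = q ^ 2 + q - 1 := by
        rw [hgs] at hlt
        omega
      rcases hk' with hk' | hk'
      · rw [hk'] at hT
        exact arith_three_b q hpp hq2' hq4' hT
      · have h3 := arith_generic q 2 hq2 le_rfl
        apply h3
        have : gs q (2 + 1) - 2 = q ^ 2 + q - 1 := by
          rw [hgs]; omega
        rw [this, ← hk']
        exact hT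
  · -- n ≥ 4
    have hq4 : Fintype.card (Fin m) = 3 → 4 ≤ q := by
      intro h
      rw [hcard] at h
      subst h
      have h1 : q ≠ 2 := fun h => h42 ⟨rfl, h⟩
      have h2 : q ≠ 3 := fun h => h43 ⟨rfl, h⟩
      omega
    have hκ : 3 ≤ Fintype.card (Fin m) := by rw [hcard]; exact hm3
    by_cases hsp : (m = 3 ∧ q = 4) ∨ (m = 4 ∧ q = 2) ∨ (m = 4 ∧ q = 3)
    · -- the three special pairs
      rcases topC (κ := Fin m) (F := F) hκ (hq ▸ hq4) ρ' hρ' hk with h | ⟨c, hkc, hdiv, hc⟩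
      · rw [hcard, hq] at h
        exact h2le h
      · rw [hcard, hq] at hkc hdiv hc
        have hT : k ∣ gs q (m + 1) * (q ^ m - 1) * q ^ m := h62_dvd_T k c _ (q ^ m) hqm hkc hdiv
        rcases hsp with ⟨rfl, hq'⟩ | ⟨rfl, hq'⟩ | ⟨rfl, hq'⟩
        · rw [hq'] at hT hkc hc hlt
          have hg : gs 4 (3 + 1) = 85 := by decide
          rw [hg] at hT hlt
          norm_num at hT hkc hc hlt
          have : 81 ≤ k := by omega
          interval_cases k <;> omega
        · rw [hq'] at hT hkc hc hlt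
          have hg : gs 2 (4 + 1) = 31 := by decide
          rw [hg] at hT hlt
          norm_num at hT hkc hc hlt
          have : 25 ≤ k := by omega
          interval_cases k <;> omega
        · rw [hq'] at hT hkc hc hlt
          have hg : gs 3 (4 + 1) = 121 := by decide
          rw [hg] at hT hlt
          norm_num at hT hkc hc hlt
          have : 114 ≤ k := by omega
          interval_cases k <;> omega
    · -- the generic step
      push Not at hsp
      rcases topA (κ := Fin m) (F := F) hκ (hq ▸ hq4) ρ' hρ' hk with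
        h | ⟨c, hkc, hdiv, k', σ, hσ, hk'2, hk'c⟩
      · rw [hcard, hq] at h
        exact h2le h
      · rw [hcard, hq] at hkc hdiv
        have hT : k ∣ gs q (m + 1) * (q ^ m - 1) * q ^ m := h62_dvd_T k c _ (q ^ m) hqm hkc hdiv
        have hIH := ih m (by omega) hm3
          (fun h => by
            have h1 := hq4 (by rw [hcard]; exact h.1)
            omega)
          (fun h => hsp.1 h.1 h.2) (fun h => hsp.2.1 h.1 h.2) (fun h => hsp.2.2 h.1 h.2)
          k' σ hσ hk'2
        have hgs := h62_gs_succ q m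
        have hgm := h62_gs_pos q (m - 1)
        have hm1 : m - 1 + 1 = m := by omega
        rw [hm1] at hgm
        have hkeq : k = gs q (m + 1) - 2 := by omega
        apply arith_generic q m hq2 (by omega)
        rw [← hkeq]
        exact hT

end Main

end Cfsg.Agent.Helper62.SLN

namespace Cfsg.Agent.Helper62.SLN

open Matrix Module Cfsg.Agent.Helper25.SLN Cfsg.Agent.Helper93.SLN Cfsg.Agent.Helper5.SLN Cfsg.Agent.Helper3.SLN Cfsg.Agent.Helper47.SLN Cfsg.Agent.Helper28.SLN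

/-- S2332 -/
theorem h62_main {F : Type*} [Field F] [Fintype F] [DecidableEq F] (n : ℕ) (hn : 3 ≤ n)
    (hex : (n, Fintype.card F) ≠ (3, 2) ∧ (n, Fintype.card F) ≠ (3, 4) ∧
      (n, Fintype.card F) ≠ (4, 2) ∧ (n, Fintype.card F) ≠ (4, 3)) :
    (∀ (k : ℕ) (ρ : Representation ℂ (Matrix.SpecialLinearGroup (Fin n) F) (Fin k → ℂ)),
      ρ.IsIrreducible → 2 ≤ k →
        (Fintype.card F ^ n - Fintype.card F) / (Fintype.card F - 1) ≤ k) ∧
    (∃ ρ : Representation ℂ (Matrix.SpecialLinearGroup (Fin n) F)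
      (Fin ((Fintype.card F ^ n - Fintype.card F) / (Fintype.card F - 1)) → ℂ), ρ.IsIrreducible) := by
  have hq2 : 2 ≤ Fintype.card F := Fintype.one_lt_card
  refine ⟨?_, exists_irr_min n hn⟩
  intro k ρ hρ hk
  rw [gs_eq _ n hq2 (by omega)]
  obtain ⟨h1, h2, h3, h4⟩ := hex
  exact h62_lower_bound F n hn
    (fun h => h1 (by rw [h.1, h.2])) (fun h => h2 (by rw [h.1, h.2]))
    (fun h => h3 (by rw [h.1, h.2])) (fun h => h4 (by rw [h.1, h.2])) k ρ hρ hk

end Cfsg.Agent.Helper62.SLN
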