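import Mathlib
import Cfsg.Agent.Lib.Helper62.SUO0
import Cfsg.Agent.Lib.Helper45.SUOC2
import Cfsg.Agent.Lib.Helper65.SUOU2
import Cfsg.Agent.Lib.Helper57.SUOE6
import Cfsg.Agent.Lib.Helper99.SUOX3
import Cfsg.Agent.Lib.Helper29.SUOX
import Cfsg.Agent.Lib.Helper87.SUOC4
import Cfsg.Agent.Lib.Helper42.SUOU5
import Cfsg.Agent.Lib.Helper98.SUOU4
import Cfsg.Agent.Lib.Helper66.SUOA
import Cfsg.Agent.Lib.Helper65.SUOU3

set_option autoImplicit false
set_option linter.unusedSectionVars false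
set_option linter.unusedVariables false
set_option quotPrecheck false
set_option maxHeartbeats 1000000

namespace Cfsg.Agent.Helper62.SUOMain

open Matrix Cfsg Cfsg.Agent.Helper13 Cfsg.Agent.Helper87.PsuA Cfsg.Agent.Helper62.SUO

variable {F : Type*} [Field F] [Fintype F] {q m : ℕ}

local notation "V" => Fin (2 * m + 5) → F
local notation "G" => ↥(Cfsg.SU (2 * m + 5) F q)
local notation "H" => Cfsg.hermForm (2 * m + 5) F q

theorem main_odd (hF : Fintype.card F = q ^ 2) :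
    ∃ u g h : ↥(Cfsg.SU (2 * m + 5) F q),
      (IsNilpotent (((u : Matrix.SpecialLinearGroup (Fin (2 * m + 5)) F) :
          Matrix (Fin (2 * m + 5)) (Fin (2 * m + 5)) F) - 1) ∧
        (((u : Matrix.SpecialLinearGroup (Fin (2 * m + 5)) F) :
          Matrix (Fin (2 * m + 5)) (Fin (2 * m + 5)) F) - 1) ^ (2 * m + 5 - 1) ≠ 0) ∧
      Subgroup.closure ({u, g * u * g⁻¹, h * u * h⁻¹} : Set ↥(Cfsg.SU (2 * m + 5) F q)) = ⊤ := by
  classical
  obtain ⟨b, hb'⟩ := Cfsg.Agent.Helper87.PsuHB.exists_hb hF (2 * m + 5)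
  have hb : HB q b := hb'
  obtain ⟨t, a, c, ht, hta, ha, hκ, hgen⟩ : ∃ t a c : F, t ≠ 0 ∧ a + a ^ q + t * t ^ q = 0 ∧
      a ≠ 0 ∧ c - c ^ q ≠ 0 ∧ Gen2 c (c - c ^ q) ((c - c ^ q) ^ 2 * (a * a ^ q)) := by
    rcases Nat.even_or_odd q with hq | hq
    · exact Cfsg.Agent.Helper99.SUO.exists_params_even hF hq
    · exact Cfsg.Agent.Helper29.SUO.exists_params_odd hF hq
  obtain ⟨u, huU, hsup, hP, hP'⟩ := Cfsg.Agent.Helper45.SUO.exists_u hF hb t a ht hta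
  have hreg := Cfsg.Agent.Helper65.SUO.regular_of_supNZ hF hb (by omega) huU hsup
  obtain ⟨i0, hi0⟩ : ∃ i0 : Fin (2 * m + 5), i0 = ⟨0, by omega⟩ := ⟨_, rfl⟩
  obtain ⟨i1, hi1⟩ : ∃ i1 : Fin (2 * m + 5), i1 = ⟨1, by omega⟩ := ⟨_, rfl⟩
  obtain ⟨iT, hiT⟩ : ∃ iT : Fin (2 * m + 5), iT = ⟨2 * m + 3, by omega⟩ := ⟨_, rfl⟩
  have hv0 : i0.val = 0 := by rw [hi0]
  have hv1 : i1.val = 1 := by rw [hi1]
  obtain ⟨s1, hs1def⟩ : ∃ s1 : F, s1 = co q b (actv u (b i1)) i0 := ⟨_, rfl⟩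
  have hs1 : s1 ≠ 0 := by
    rw [hs1def]; exact hsup i0 i1 (by rw [hv0, hv1])
  obtain ⟨e1, he1⟩ : ∃ e1 : V, e1 = s1⁻¹ • b i1 := ⟨_, rfl⟩
  obtain ⟨p, hp⟩ : ∃ p : V, p = ((-a * s1) ^ q) • b iT := ⟨_, rfl⟩
  obtain ⟨h, hl0, hlp⟩ := Cfsg.Agent.Helper87.SUO.exists_h hF hb t a ht hta ha huU hsup hP hP' e1 p
    (by rw [he1, hs1def, hi0, hi1]) (by rw [hp, hs1def, hi0, hi1, hiT])
  obtain ⟨g, μ, α, hα, hg⟩ := Cfsg.Agent.Helper42.SUO.exists_g hF hb (by omega) huU hsup i0 i1 hv0 hv1 c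
  rw [← hs1def, ← he1] at hα hg
  refine ⟨u, g, h, hreg, ?_⟩
  obtain ⟨Hs, hHs⟩ : ∃ Hs : Subgroup G, Hs = Subgroup.closure
    ({u, g * u * g⁻¹, h * u * h⁻¹} : Set G) := ⟨_, rfl⟩
  rw [← hHs]
  have hu : u ∈ Hs := by rw [hHs]; exact Subgroup.subset_closure (by simp)
  have hgu : g * u * g⁻¹ ∈ Hs := by rw [hHs]; exact Subgroup.subset_closure (by simp)
  have hl : h * u * h⁻¹ ∈ Hs := by rw [hHs]; exact Subgroup.subset_closure (by simp)
  have hrev0 : Fin.rev i0 ≠ i0 := by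
    rw [hi0]; intro hh; have := congrArg Fin.val hh; simp [Fin.rev] at this <;> omega
  have h00 : H (b i0) (b i0) = 0 := by
    rw [hb i0 i0, if_neg (fun hh => hrev0 hh.symm)]
  have h01 : H (b i0) (b i1) = 0 := by
    rw [hb i0 i1, if_neg]
    rw [hi0, hi1]; intro hh; have := congrArg Fin.val hh; simp [Fin.rev] at this <;> omega
  have h0T : H (b i0) (b iT) = 0 := by
    rw [hb i0 iT, if_neg]
    rw [hi0, hiT]; intro hh; have := congrArg Fin.val hh; simp [Fin.rev] at this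
  have h1T : H (b i1) (b iT) = 1 := by
    rw [hb i1 iT, if_pos]
    rw [hi1, hiT]; apply Fin.ext; simp [Fin.rev] <;> omega
  obtain ⟨ulow0, ulow1, -⟩ := Cfsg.Agent.Helper98.SUO.usub_low hF hb huU i0 i1 ⟨2, by omega⟩ hv0 hv1 rfl
  rw [← hs1def] at ulow1
  have hue1 : actv u e1 = e1 + b i0 := by
    rw [he1, actv_smul, ulow1, smul_add, smul_smul, inv_mul_cancel₀ hs1, one_smul]
  have he0e1 : H (b i0) e1 = 0 := by
    rw [he1, hermForm_smul_right, h01, mul_zero]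
  have he1p : H e1 p = -a := by
    rw [he1, hp, hermForm_smul_left, hermForm_smul_right, h1T, mul_one, frob_frob hF]
    field_simp
  have hp0 : H (b i0) p = 0 := by
    rw [hp, hermForm_smul_right, h0T, mul_zero]
  have hp1 : H (b i1) p ≠ 0 := by
    rw [hp, hermForm_smul_right, h1T, mul_one, frob_frob hF]
    exact mul_ne_zero (neg_ne_zero.2 ha) hs1
  have hcQ : c • e1 ∈ QQ hF Hs (b i0) := by
    obtain ⟨S, hS⟩ := Cfsg.Agent.Helper66.SUO.QQ_addsub hF (Hs := Hs) (e0 := b i0) h00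
    have hr : g * u * g⁻¹ * u⁻¹ ∈ Hs := Hs.mul_mem hgu (Hs.inv_mem hu)
    have h1 : c • e1 + μ • b i0 ∈ QQ hF Hs (b i0) := by
      refine ⟨?_, α, hα, ?_⟩
      · rw [hermForm_add_right hF, hermForm_smul_right, hermForm_smul_right, he0e1, h00,
          mul_zero, mul_zero, add_zero]
      · rw [← hg]; exact hr
    have h2 : μ • b i0 ∈ QQ hF Hs (b i0) := Cfsg.Agent.Helper66.SUO.QQ_e0 hF h00 μ
    rw [← hS] at h1 h2 ⊢
    have := S.sub_mem h1 h2
    simpa using this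
  have hyp : Hyp hF Hs u (h * u * h⁻¹) (b i0) e1 p c (-a) :=
    { hu := hu
      hl := hl
      e0e0 := h00
      ue0 := ulow0
      ue1 := hue1
      le0 := by rw [hi0]; exact hl0
      lp := by rw [hi0]; exact hlp
      e0e1 := he0e1
      e1p := he1p
      γ0 := neg_ne_zero.2 ha
      hc := hcQ
      κ0 := hκ
      gen := by
        have : (-a) * (-a) ^ q = a * a ^ q := by rw [frob_neg hF]; ring
        rw [this]; exact hgen
      cyc := Cfsg.Agent.Helper65.SUO.cyc_of_supNZ hF hb huU hsup i0 i1 hv0 hv1 p hp0 hp1 }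
  exact Cfsg.Agent.Helper57.SUO.core_top hF (by omega) (by omega) hyp

end Cfsg.Agent.Helper62.SUOMain
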