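import Mathlib

/-!
# Cyclic semiregular groups of isometries of a symplectic space over `ZMod p`

If `T` is an isometry of a nondegenerate alternating form on a `ZMod p`-space `V` of order `p ^ (2 n)`,
of order dividing `h` (`h` prime to `p`), all of whose nontrivial powers act without nonzero fixed points,
then `h ∣ p ^ n + 1` or `h ∣ p ^ n - 1`.
-/

set_option autoImplicit false
set_option linter.unusedVariables false

namespace Cfsg.Agent.Helper62.SympCyclic

open Polynomial

section NT

/-- Number theory: `u ^ (2 n) = 1`, `u ^ j = -1` in `ZMod h` give `u ^ n = ± 1`. -/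
theorem pow_eq_one_or_neg_one {R : Type*} [CommRing R] (hne : (-1 : R) ≠ 1) (u : R) (n j : ℕ)
    (h2n : u ^ (2 * n) = 1) (hj : u ^ j = -1) : u ^ n = 1 ∨ u ^ n = -1 := by
  have h2j : u ^ (2 * j) = 1 := by
    rw [mul_comm, pow_mul, hj]; norm_num
  have hu : IsUnit u := by
    rcases Nat.eq_zero_or_pos j with hj0 | hj0
    · subst hj0; simp at hj; exact absurd hj.symm hne
    · refine IsUnit.of_pow_eq_one h2j (by omega)
  obtain ⟨uu, rfl⟩ := hu
  set g := Nat.gcd n j with hg
  have hord2n : orderOf uu ∣ 2 * n := by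
    apply orderOf_dvd_of_pow_eq_one
    apply Units.ext; simpa using h2n
  have hord2j : orderOf uu ∣ 2 * j := by
    apply orderOf_dvd_of_pow_eq_one
    apply Units.ext; simpa using h2j
  have hord : orderOf uu ∣ 2 * g := by
    have := Nat.dvd_gcd hord2n hord2j
    rwa [Nat.gcd_mul_left] at this
  have hw2 : (uu ^ g) ^ 2 = 1 := by
    rw [← pow_mul, mul_comm]; exact orderOf_dvd_iff_pow_eq_one.1 hord
  obtain ⟨kj, hkj⟩ : g ∣ j := Nat.gcd_dvd_right n j
  obtain ⟨kn, hkn⟩ : g ∣ n := Nat.gcd_dvd_left n j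
  have hwj : ((uu ^ g : Rˣ) : R) ^ kj = -1 := by
    rw [← Units.val_pow_eq_pow_val, ← pow_mul, ← hkj]; simpa using hj
  have hw2' : ((uu ^ g : Rˣ) : R) ^ 2 = 1 := by
    rw [← Units.val_pow_eq_pow_val, hw2]; simp
  -- kj is odd
  have hw : ((uu ^ g : Rˣ) : R) = -1 := by
    rcases Nat.even_or_odd' kj with ⟨c, hc | hc⟩
    · rw [hc, pow_mul, hw2', one_pow] at hwj; exact absurd hwj.symm hne
    · rw [hc, pow_succ, pow_mul, hw2', one_pow, one_mul] at hwj; exact hwj
  have : ((uu : Rˣ) : R) ^ n = (-1) ^ kn := by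
    conv_lhs => rw [hkn, pow_mul]
    rw [← hw]; simp
  rw [this]
  exact neg_one_pow_eq_or R kn

theorem nt_conclusion {p h n j : ℕ} (hp : 1 ≤ p) (hcop : h.Coprime p) (h2n : h ∣ p ^ (2 * n) - 1) (hj : h ∣ p ^ j + 1) :
    h ∣ p ^ n + 1 ∨ h ∣ p ^ n - 1 := by
  have hpn : ∀ k, 1 ≤ p ^ k := fun k => Nat.one_le_pow _ _ hp
  by_cases hne : (-1 : ZMod h) = 1
  · -- h ∣ 2
    have h2 : h ∣ 2 := by
      have : ((2 : ℕ) : ZMod h) = 0 := by
        have : (1 : ZMod h) + 1 = 0 := by
          calc (1 : ZMod h) + 1 = 1 + (-1) := by rw [hne]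
            _ = 0 := by ring
        push_cast; rw [← this]; ring
      exact (ZMod.natCast_eq_zero_iff _ _).1 this
    rcases (Nat.dvd_prime Nat.prime_two).1 h2 with rfl | rfl
    · left; exact one_dvd _
    · -- p odd
      have hodd : Odd p := by
        rcases Nat.even_or_odd p with he | ho
        · exfalso
          have : 2 ∣ Nat.gcd 2 p := Nat.dvd_gcd (dvd_refl 2) he.two_dvd
          rw [hcop] at this; omega
        · exact ho
      left
      have : Odd (p ^ n) := hodd.pow
      have := this.add_odd odd_one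
      exact this.two_dvd
  · have e2n : ((p : ZMod h)) ^ (2 * n) = 1 := by
      have : ((p ^ (2 * n) - 1 : ℕ) : ZMod h) = 0 := (ZMod.natCast_eq_zero_iff _ _).2 h2n
      rw [Nat.cast_sub (hpn _)] at this
      push_cast at this
      exact sub_eq_zero.1 this
    have ej : ((p : ZMod h)) ^ j = -1 := by
      have : ((p ^ j + 1 : ℕ) : ZMod h) = 0 := (ZMod.natCast_eq_zero_iff _ _).2 hj
      push_cast at this
      exact eq_neg_of_add_eq_zero_left this
    rcases pow_eq_one_or_neg_one hne (p : ZMod h) n j e2n ej with h1 | h1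
    · right
      apply (ZMod.natCast_eq_zero_iff _ _).1
      rw [Nat.cast_sub (hpn _)]; push_cast; rw [h1]; ring
    · left
      apply (ZMod.natCast_eq_zero_iff _ _).1
      push_cast; rw [h1]; ring

end NT

section Count

open MulAction in
/-- Burnside counting for an action that is free away from one fixed point
(same statement as `Helper58.card_dvd_card_sub_one_of_free`, reproved here to keep this file self-contained). -/
theorem card_dvd_card_sub_one_of_free' {F : Type*} [Group F] [Fintype F] {X : Type*} [Fintype X]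
    [MulAction F X] (α : X) (hfix : ∀ f : F, f • α = α)
    (hfree : ∀ f : F, f ≠ 1 → ∀ x : X, f • x = x → x = α) :
    Fintype.card F ∣ Fintype.card X - 1 := by
  classical
  have hB := MulAction.sum_card_fixedBy_eq_card_orbits_mul_card_group F X
  have h1 : ∀ f : F, Fintype.card (fixedBy X f) = if f = 1 then Fintype.card X else 1 := by
    intro f
    split_ifs with hf
    · subst hf
      exact Fintype.card_congr (Equiv.subtypeUnivEquiv (fun x => (one_smul F x)))
    · rw [Fintype.card_eq_one_iff]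
      exact ⟨⟨α, hfix f⟩, fun ⟨y, hy⟩ => Subtype.ext (hfree f hf y hy)⟩
  simp_rw [h1] at hB
  rw [Finset.sum_ite, Finset.sum_const, Finset.sum_const, Finset.filter_eq' Finset.univ (1 : F)] at hB
  simp only [Finset.mem_univ, if_true, Finset.card_singleton, smul_eq_mul, one_mul, mul_one] at hB
  have hcF : (Finset.filter (fun f : F => ¬ f = 1) Finset.univ).card = Fintype.card F - 1 := by
    rw [Finset.filter_not, Finset.filter_eq' Finset.univ (1 : F)]
    simp [Finset.card_sdiff, Finset.card_univ]
  rw [hcF] at hB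
  have hFpos : 0 < Fintype.card F := Fintype.card_pos
  have hXpos : 0 < Fintype.card X := Fintype.card_pos_iff.mpr ⟨α⟩
  have : Fintype.card X - 1 =
      Fintype.card (Quotient (orbitRel F X)) * Fintype.card F - Fintype.card F := by
    omega
  rw [this]
  exact Nat.dvd_sub (dvd_mul_left _ _) (dvd_refl _)

end Count

section LA

variable {p : ℕ} [hp : Fact p.Prime] {V : Type*} [AddCommGroup V] [Module (ZMod p) V]

/-- The "adjoint" polynomial: `q (X ^ (h - 1))`, so that `(adj h q)(T) = q (T⁻¹)` when `T ^ h = 1`. -/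
noncomputable def adj (p h : ℕ) (q : (ZMod p)[X]) : (ZMod p)[X] := q.comp (X ^ (h - 1))

variable (B : LinearMap.BilinForm (ZMod p) V) (T : Module.End (ZMod p) V) (h : ℕ)

theorem aeval_adj (q : (ZMod p)[X]) : aeval T (adj p h q) = aeval (T ^ (h - 1)) q := by
  unfold adj
  rw [aeval_comp]; simp

theorem T_mul_pow_pred (hh : 0 < h) (hT : T ^ h = 1) (v : V) : T ((T ^ (h - 1)) v) = v := by
  have : T * T ^ (h - 1) = 1 := by
    rw [← pow_succ']
    have : h - 1 + 1 = h := by omega
    rw [this, hT]
  have := congrArg (fun f : Module.End (ZMod p) V => f v) this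
  simpa using this

theorem adjoint_identity (hh : 0 < h) (hT : T ^ h = 1) (hBT : ∀ v w, B (T v) (T w) = B v w)
    (q : (ZMod p)[X]) : ∀ v w : V, B (aeval T q v) w = B v (aeval T (adj p h q) w) := by
  have hstep : ∀ v w : V, B (T v) w = B v ((T ^ (h - 1)) w) := by
    intro v w
    conv_lhs => rw [← T_mul_pow_pred T h hh hT w]
    rw [hBT]
  simp_rw [aeval_adj]
  induction q using Polynomial.induction_on with
  | C a => intro v w; simp
  | add q r hq hr => intro v w; simp [hq, hr]
  | monomial n a ih =>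
    intro v w
    have e1 : aeval T (C a * X ^ (n + 1)) = aeval T (C a * X ^ n) * T := by
      rw [pow_succ, ← mul_assoc, map_mul (aeval T) (C a * X ^ n) X, aeval_X]
    have e2 : aeval (T ^ (h - 1)) (C a * X ^ (n + 1)) = T ^ (h - 1) * aeval (T ^ (h - 1)) (C a * X ^ n) := by
      rw [pow_succ', mul_left_comm, map_mul (aeval (T ^ (h - 1))) X (C a * X ^ n), aeval_X]
    rw [e1, e2, Module.End.mul_apply, Module.End.mul_apply, ih (T v) w, hstep]

theorem aeval_mem_of_invariant (U : Submodule (ZMod p) V) (hU : ∀ u ∈ U, T u ∈ U) (q : (ZMod p)[X]) :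
    ∀ u ∈ U, aeval T q u ∈ U := by
  induction q using Polynomial.induction_on with
  | C a => intro u hu; simpa using U.smul_mem a hu
  | add q r hq hr => intro u hu; simpa using U.add_mem (hq u hu) (hr u hu)
  | monomial n a ih =>
    intro u hu
    have e1 : aeval T (C a * X ^ (n + 1)) = aeval T (C a * X ^ n) * T := by
      rw [pow_succ, ← mul_assoc, map_mul (aeval T) (C a * X ^ n) X, aeval_X]
    rw [e1, Module.End.mul_apply]
    exact ih (T u) (hU u hu)

theorem squarefree_X_pow_sub_one (hh : 0 < h) (hcop : h.Coprime p) : Squarefree (X ^ h - 1 : (ZMod p)[X]) := by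
  have hne : ((h : ℕ) : ZMod p) ≠ 0 := by
    intro h0
    have hdvd : p ∣ h := (ZMod.natCast_eq_zero_iff _ _).1 h0
    have : p ∣ Nat.gcd h p := Nat.dvd_gcd hdvd (dvd_refl p)
    rw [hcop] at this
    exact hp.out.one_lt.ne' (Nat.dvd_one.1 this)
  have := Polynomial.separable_X_pow_sub_C (F := ZMod p) (n := h) (1 : ZMod p) hne one_ne_zero
  simpa using this.squarefree

theorem X_pow_sub_one_ne_zero (hh : 0 < h) : (X ^ h - 1 : (ZMod p)[X]) ≠ 0 := by
  have := Polynomial.X_pow_sub_C_ne_zero (R := ZMod p) hh (1 : ZMod p)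
  simpa using this

/-- A `T`-invariant subspace not contained in `W` has an element outside `W` killed by an irreducible
factor of `X ^ h - 1`. -/
theorem exists_irreducible_piece (hh : 0 < h) (hcop : h.Coprime p)
    (U W : Submodule (ZMod p) V) (hU : ∀ u ∈ U, T u ∈ U) :
    ∀ (d : ℕ) (q : (ZMod p)[X]), q.natDegree = d → q ∣ X ^ h - 1 → (∃ u ∈ U, aeval T q u = 0 ∧ u ∉ W) →
      ∃ g : (ZMod p)[X], Irreducible g ∧ g ∣ q ∧ ∃ u ∈ U, aeval T g u = 0 ∧ u ∉ W := by
  intro d
  induction d using Nat.strong_induction_on with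
  | _ d ih =>
    intro q hd hqf ⟨u, huU, hqu, huW⟩
    have hq0 : q ≠ 0 := by
      rintro rfl
      exact X_pow_sub_one_ne_zero h hh (zero_dvd_iff.1 hqf)
    by_cases hunit : IsUnit q
    · exfalso
      obtain ⟨r, hr, rfl⟩ := Polynomial.isUnit_iff.1 hunit
      simp at hqu
      rcases hqu with hr0 | hu0
      · exact hr.ne_zero hr0
      · exact huW (hu0 ▸ W.zero_mem)
    by_cases hirr : Irreducible q
    · exact ⟨q, hirr, dvd_refl q, u, huU, hqu, huW⟩
    · -- q = a * b nontrivially
      have : ∃ a b : (ZMod p)[X], q = a * b ∧ ¬ IsUnit a ∧ ¬ IsUnit b := by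
        by_contra hcon
        push Not at hcon
        apply hirr
        refine ⟨hunit, ?_⟩
        intro a b hab
        by_cases ha : IsUnit a
        · exact Or.inl ha
        · exact Or.inr (hcon a b hab ha)
      obtain ⟨a, b, rfl, ha, hb⟩ := this
      have ha0 : a ≠ 0 := left_ne_zero_of_mul hq0
      have hb0 : b ≠ 0 := right_ne_zero_of_mul hq0
      have hdeg : (a * b).natDegree = a.natDegree + b.natDegree := Polynomial.natDegree_mul ha0 hb0
      have hdega : 0 < a.natDegree := by
        rw [Polynomial.natDegree_pos_iff_degree_pos]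
        exact Polynomial.degree_pos_of_ne_zero_of_nonunit ha0 ha
      have hdegb : 0 < b.natDegree := by
        rw [Polynomial.natDegree_pos_iff_degree_pos]
        exact Polynomial.degree_pos_of_ne_zero_of_nonunit hb0 hb
      have hsq : Squarefree (a * b) := (squarefree_X_pow_sub_one h hh hcop).squarefree_of_dvd hqf
      have hcop' : IsCoprime a b := (squarefree_mul_iff.1 hsq).1.isCoprime
      obtain ⟨s, t, hst⟩ := hcop'
      -- u = (s a)(T) u + (t b)(T) u
      have hsplit : u = aeval T (s * a) u + aeval T (t * b) u := by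
        have := congrArg (fun r : (ZMod p)[X] => aeval T r u) hst
        simp only [map_add, LinearMap.add_apply, map_one, Module.End.one_apply] at this
        exact this.symm
      by_cases h1 : aeval T (s * a) u ∈ W
      · have h2 : aeval T (t * b) u ∉ W := by
          intro h2
          apply huW
          rw [hsplit]
          exact W.add_mem h1 h2
        -- killed by a
        have hk : aeval T a (aeval T (t * b) u) = 0 := by
          rw [← Module.End.mul_apply, ← map_mul]
          have : a * (t * b) = t * (a * b) := by ring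
          rw [this, map_mul, Module.End.mul_apply, hqu, map_zero]
        obtain ⟨g, hg, hga, u', hu'U, hgu', hu'W⟩ := ih a.natDegree (by omega) a rfl
          (dvd_trans (dvd_mul_right a b) hqf)
          ⟨_, aeval_mem_of_invariant T U hU _ u huU, hk, h2⟩
        exact ⟨g, hg, dvd_trans hga (dvd_mul_right a b), u', hu'U, hgu', hu'W⟩
      · have hk : aeval T b (aeval T (s * a) u) = 0 := by
          rw [← Module.End.mul_apply, ← map_mul]
          have : b * (s * a) = s * (a * b) := by ring
          rw [this, map_mul, Module.End.mul_apply, hqu, map_zero]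
        obtain ⟨g, hg, hgb, u', hu'U, hgu', hu'W⟩ := ih b.natDegree (by omega) b rfl
          (dvd_trans (dvd_mul_left b a) hqf)
          ⟨_, aeval_mem_of_invariant T U hU _ u huU, hk, h1⟩
        exact ⟨g, hg, dvd_trans hgb (dvd_mul_left b a), u', hu'U, hgu', hu'W⟩

/-- If the irreducible `g` does not divide its adjoint, `ker g(T)` is totally isotropic. -/
theorem isotropic_of_not_dvd_adj (hh : 0 < h) (hT : T ^ h = 1) (hBT : ∀ v w, B (T v) (T w) = B v w)
    (g : (ZMod p)[X]) (hg : Irreducible g) (hnd : ¬ g ∣ adj p h g) (v w : V)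
    (hv : aeval T g v = 0) (hw : aeval T g w = 0) : B v w = 0 := by
  obtain ⟨a, b, hab⟩ := hg.coprime_iff_not_dvd.2 hnd
  have hsplit : w = aeval T (a * g) w + aeval T (b * adj p h g) w := by
    have := congrArg (fun r : (ZMod p)[X] => aeval T r w) hab
    simp only [map_add, LinearMap.add_apply, map_one, Module.End.one_apply] at this
    exact this.symm
  have h1 : aeval T (a * g) w = 0 := by
    rw [map_mul, Module.End.mul_apply, hw, map_zero]
  have h2 : aeval T (b * adj p h g) w = aeval T (adj p h g) (aeval T b w) := by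
    rw [mul_comm, map_mul, Module.End.mul_apply]
  rw [hsplit, h1, zero_add, h2, ← adjoint_identity B T h hh hT hBT g, hv]
  simp

/-- Field lemma: an irreducible factor `g` of `X ^ h - 1` whose roots have exact order `h` and which divides its
adjoint `g (X ^ (h - 1))` forces `h ∣ p ^ j + 1` for some `j`. -/
theorem exists_pow_add_one (hh : 0 < h) (g : (ZMod p)[X]) (hg : Irreducible g) (hgf : g ∣ X ^ h - 1)
    (hadj : g ∣ adj p h g) (hord : ∀ i, 0 < i → i < h → ¬ g ∣ X ^ i - 1) : ∃ j : ℕ, h ∣ p ^ j + 1 := by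
  have : Fact (Irreducible g) := ⟨hg⟩
  have hg0 : g ≠ 0 := hg.ne_zero
  have : Module.Finite (ZMod p) (AdjoinRoot g) := (AdjoinRoot.powerBasis hg0).finite
  have : Finite (AdjoinRoot g) := Module.finite_of_finite (ZMod p)
  set t : AdjoinRoot g := AdjoinRoot.root g with ht
  have ht_h : t ^ h = 1 := by
    have : aeval t (X ^ h - 1 : (ZMod p)[X]) = 0 := by
      rw [AdjoinRoot.aeval_eq, AdjoinRoot.mk_eq_zero]; exact hgf
    simpa [sub_eq_zero] using this
  have ht_ord : orderOf t = h := by
    rw [orderOf_eq_iff hh]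
    refine ⟨ht_h, fun i hi hi0 hti => hord i hi0 hi ?_⟩
    rw [← AdjoinRoot.mk_eq_zero, ← AdjoinRoot.aeval_eq]
    simp [← ht, hti]
  have hroot : aeval (t ^ (h - 1)) g = 0 := by
    have : aeval t (adj p h g) = 0 := by
      rw [AdjoinRoot.aeval_eq, AdjoinRoot.mk_eq_zero]; exact hadj
    unfold adj at this
    rw [aeval_comp] at this
    simpa using this
  let σ : AdjoinRoot g →ₐ[ZMod p] AdjoinRoot g :=
    AdjoinRoot.liftAlgHom g (Algebra.ofId (ZMod p) (AdjoinRoot g)) (t ^ (h - 1)) (by
      rw [aeval_def] at hroot; exact hroot)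
  have hσt : σ t = t ^ (h - 1) := AdjoinRoot.liftAlgHom_root _ _ _ _
  obtain ⟨⟨j, hj⟩, hjσ⟩ := (FiniteField.bijective_frobeniusAlgHom_pow (ZMod p) (AdjoinRoot g)).2 σ
  refine ⟨j, ?_⟩
  have hfrob : (FiniteField.frobeniusAlgHom (ZMod p) (AdjoinRoot g) ^ j) t = t ^ (p ^ j) := by
    rw [AlgHom.coe_pow, FiniteField.coe_frobeniusAlgHom, pow_iterate, ZMod.card]
  have hjσ' : FiniteField.frobeniusAlgHom (ZMod p) (AdjoinRoot g) ^ j = σ := hjσ
  rw [hjσ', hσt] at hfrob
  rw [← ht_ord]
  apply orderOf_dvd_of_pow_eq_one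
  rw [pow_succ, ← hfrob, ← pow_succ]
  have : h - 1 + 1 = h := by omega
  rw [this, ht_h]

theorem pow_mem_of_invariant (W : Submodule (ZMod p) V) (hW : ∀ w ∈ W, T w ∈ W) :
    ∀ k : ℕ, ∀ w ∈ W, (T ^ k) w ∈ W := by
  intro k
  induction k with
  | zero => intro w hw; simpa using hw
  | succ k ih => intro w hw; rw [pow_succ, Module.End.mul_apply]; exact ih _ (hW w hw)

/-- A cyclic group of order `h` acting freely on the nonzero vectors of an invariant subspace. -/
theorem dvd_card_sub_one_of_free [Finite V] (hh : 0 < h) (hT : T ^ h = 1)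
    (hfree : ∀ i, 0 < i → i < h → ∀ v, (T ^ i) v = v → v = 0)
    (W : Submodule (ZMod p) V) (hW : ∀ w ∈ W, T w ∈ W) : h ∣ Nat.card W - 1 := by
  classical
  have : NeZero h := ⟨hh.ne'⟩
  have hWpow := pow_mem_of_invariant T W hW
  letI act : MulAction (Multiplicative (ZMod h)) W :=
    { smul := fun k w => ⟨(T ^ (Multiplicative.toAdd k).val) w.1, hWpow _ _ w.2⟩
      one_smul := by
        intro w
        apply Subtype.ext
        show (T ^ (Multiplicative.toAdd (1 : Multiplicative (ZMod h))).val) w.1 = w.1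
        simp
      mul_smul := by
        intro a b w
        apply Subtype.ext
        show (T ^ (Multiplicative.toAdd (a * b)).val) w.1 =
          (T ^ (Multiplicative.toAdd a).val) ((T ^ (Multiplicative.toAdd b).val) w.1)
        rw [← Module.End.mul_apply, ← pow_add, toAdd_mul, ZMod.val_add, ← pow_eq_pow_mod _ hT] }
  letI : Fintype W := Fintype.ofFinite W
  have key := card_dvd_card_sub_one_of_free' (F := Multiplicative (ZMod h)) (X := W) (0 : W)
    (by
      intro k
      apply Subtype.ext
      show (T ^ (Multiplicative.toAdd k).val) (0 : V) = 0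
      simp)
    (by
      intro k hk x hx
      have hk0 : Multiplicative.toAdd k ≠ 0 := by
        intro h0
        apply hk
        have : k = Multiplicative.ofAdd (Multiplicative.toAdd k) := rfl
        rw [this, h0]; rfl
      have hv0 : 0 < (Multiplicative.toAdd k).val := by
        rcases Nat.eq_zero_or_pos (Multiplicative.toAdd k).val with h0 | h0
        · exact absurd ((ZMod.val_eq_zero _).1 h0) hk0
        · exact h0
      have hvlt : (Multiplicative.toAdd k).val < h := ZMod.val_lt _
      have hx' : (T ^ (Multiplicative.toAdd k).val) x.1 = x.1 := congrArg Subtype.val hx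
      apply Subtype.ext
      exact hfree _ hv0 hvlt x.1 hx')
  rw [Fintype.card_multiplicative, ZMod.card] at key
  rwa [Nat.card_eq_fintype_card]

/-- If all the kernels of irreducible factors are totally isotropic, there is an invariant Lagrangian. -/
theorem exists_lagrangian [Finite V] (halt : B.IsAlt) (hh : 0 < h) (hcop : h.Coprime p) (hT : T ^ h = 1)
    (hBT : ∀ v w, B (T v) (T w) = B v w)
    (hiso : ∀ g : (ZMod p)[X], Irreducible g → g ∣ X ^ h - 1 → ∀ u : V, u ≠ 0 → aeval T g u = 0 →
      ∀ v w : V, aeval T g v = 0 → aeval T g w = 0 → B v w = 0) :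
    ∃ W : Submodule (ZMod p) V, (∀ w ∈ W, T w ∈ W) ∧ (∀ v ∈ W, ∀ w ∈ W, B v w = 0) ∧ B.orthogonal W ≤ W := by
  classical
  let 𝒮 : Set (Submodule (ZMod p) V) := {W | (∀ w ∈ W, T w ∈ W) ∧ ∀ v ∈ W, ∀ w ∈ W, B v w = 0}
  have hfin : 𝒮.Finite := Set.toFinite _
  have hne : 𝒮.Nonempty := ⟨⊥, by
    refine ⟨?_, ?_⟩
    · intro w hw; rw [Submodule.mem_bot] at hw; subst hw; simp
    · intro v hv w hw; rw [Submodule.mem_bot] at hv; subst hv; simp⟩
  obtain ⟨W, ⟨hWT, hWiso⟩, hWmax⟩ := hfin.exists_maximal hne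
  refine ⟨W, hWT, hWiso, ?_⟩
  by_contra hUW
  have hskew : ∀ v w : V, B v w = 0 → B w v = 0 := by
    intro v w hvw
    have := halt.neg_eq v w
    rw [hvw] at this
    simpa using this.symm
  -- U = W^⊥ is T-invariant
  have hUT : ∀ u ∈ B.orthogonal W, T u ∈ B.orthogonal W := by
    intro u hu
    rw [LinearMap.BilinForm.mem_orthogonal_iff] at hu ⊢
    intro w hw
    show B w (T u) = 0
    have h1 : B w (T u) = B ((T ^ (h - 1)) w) u := by
      conv_lhs => rw [← T_mul_pow_pred T h hh hT w]
      rw [hBT]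
    rw [h1]
    exact hu _ (pow_mem_of_invariant T W hWT _ w hw)
  obtain ⟨u₀, hu₀U, hu₀W⟩ := SetLike.not_le_iff_exists.1 hUW
  have hf0 : aeval T (X ^ h - 1 : (ZMod p)[X]) u₀ = 0 := by
    simp [hT]
  obtain ⟨g, hg, hgf, u, huU, hgu, huW⟩ := exists_irreducible_piece T h hh hcop (B.orthogonal W) W hUT _ _ rfl
    (dvd_refl _) ⟨u₀, hu₀U, hf0, hu₀W⟩
  have hu0 : u ≠ 0 := by
    rintro rfl; exact huW W.zero_mem
  have hKiso := hiso g hg hgf u hu0 hgu
  -- Y = ker g(T) ⊓ U
  let Y : Submodule (ZMod p) V := LinearMap.ker (aeval T g) ⊓ B.orthogonal W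
  have hYT : ∀ y ∈ Y, T y ∈ Y := by
    intro y hy
    obtain ⟨hy1, hy2⟩ := Submodule.mem_inf.1 hy
    refine Submodule.mem_inf.2 ⟨?_, hUT y hy2⟩
    rw [LinearMap.mem_ker] at hy1 ⊢
    have hc : aeval T g * T = T * aeval T g := by
      have : aeval T (g * X) = aeval T (X * g) := by rw [mul_comm]
      simpa [map_mul] using this
    have := congrArg (fun f : Module.End (ZMod p) V => f y) hc
    simp only [Module.End.mul_apply] at this
    rw [this, hy1, map_zero]
  have hW'mem : W ⊔ Y ∈ 𝒮 := by
    refine ⟨?_, ?_⟩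
    · intro x hx
      obtain ⟨w, hw, y, hy, rfl⟩ := Submodule.mem_sup.1 hx
      rw [map_add]
      exact Submodule.add_mem _ (Submodule.mem_sup_left (hWT w hw)) (Submodule.mem_sup_right (hYT y hy))
    · intro x hx x' hx'
      obtain ⟨w, hw, y, hy, rfl⟩ := Submodule.mem_sup.1 hx
      obtain ⟨w', hw', y', hy', rfl⟩ := Submodule.mem_sup.1 hx'
      obtain ⟨hy1, hy2⟩ := Submodule.mem_inf.1 hy
      obtain ⟨hy1', hy2'⟩ := Submodule.mem_inf.1 hy'
      rw [LinearMap.mem_ker] at hy1 hy1'
      rw [LinearMap.BilinForm.mem_orthogonal_iff] at hy2 hy2'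
      have e1 : B w w' = 0 := hWiso w hw w' hw'
      have e2 : B w y' = 0 := hy2' w hw
      have e3 : B y w' = 0 := hskew _ _ (hy2 w' hw')
      have e4 : B y y' = 0 := hKiso y y' hy1 hy1'
      simp [e1, e2, e3, e4]
  have hle : W ≤ W ⊔ Y := le_sup_left
  have hge := hWmax hW'mem hle
  apply huW
  apply hge
  apply Submodule.mem_sup_right
  exact Submodule.mem_inf.2 ⟨LinearMap.mem_ker.2 hgu, huU⟩

/-- Main linear algebra theorem (bilinear form version). -/
theorem main_bilin [Finite V] (hB : B.Nondegenerate) (halt : B.IsAlt)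
    (hh : 0 < h) (hcop : h.Coprime p) (hT : T ^ h = 1)
    (hfree : ∀ i, 0 < i → i < h → ∀ v, (T ^ i) v = v → v = 0)
    (hBT : ∀ v w, B (T v) (T w) = B v w) (n : ℕ) (hn : Nat.card V = p ^ (2 * n)) :
    h ∣ p ^ n + 1 ∨ h ∣ p ^ n - 1 := by
  classical
  have hp1 : 1 < p := hp.out.one_lt
  have h2n : h ∣ p ^ (2 * n) - 1 := by
    have := dvd_card_sub_one_of_free T h hh hT hfree ⊤ (fun w _ => Submodule.mem_top)
    rwa [Nat.card_congr (Submodule.topEquiv (R := ZMod p) (M := V)).toEquiv, hn] at this
  by_cases hA : ∃ g : (ZMod p)[X], Irreducible g ∧ g ∣ X ^ h - 1 ∧ g ∣ adj p h g ∧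
      ∃ v : V, v ≠ 0 ∧ aeval T g v = 0
  · obtain ⟨g, hg, hgf, hgadj, v, hv0, hgv⟩ := hA
    have hord : ∀ i, 0 < i → i < h → ¬ g ∣ X ^ i - 1 := by
      intro i hi0 hih ⟨c, hc⟩
      apply hv0
      apply hfree i hi0 hih v
      have : aeval T (X ^ i - 1 : (ZMod p)[X]) v = 0 := by
        rw [hc, mul_comm, map_mul, Module.End.mul_apply, hgv, map_zero]
      simp only [map_sub, map_pow, aeval_X, map_one, LinearMap.sub_apply, Module.End.one_apply] at this
      exact sub_eq_zero.1 this
    obtain ⟨j, hj⟩ := exists_pow_add_one h hh g hg hgf hgadj hord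
    exact nt_conclusion hp1.le hcop h2n hj
  · push Not at hA
    have hiso : ∀ g : (ZMod p)[X], Irreducible g → g ∣ X ^ h - 1 → ∀ u : V, u ≠ 0 → aeval T g u = 0 →
        ∀ v w : V, aeval T g v = 0 → aeval T g w = 0 → B v w = 0 := by
      intro g hg hgf u hu0 hgu v w hv hw
      have hnd : ¬ g ∣ adj p h g := fun hd => hA g hg hgf hd u hu0 hgu
      exact isotropic_of_not_dvd_adj B T h hh hT hBT g hg hnd v w hv hw
    obtain ⟨W, hWT, hWiso, hWge⟩ := exists_lagrangian B T h halt hh hcop hT hBT hiso
    have hWeq : B.orthogonal W = W := by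
      apply le_antisymm hWge
      intro w hw
      rw [LinearMap.BilinForm.mem_orthogonal_iff]
      intro v hv
      exact hWiso v hv w hw
    have hfr := LinearMap.BilinForm.finrank_orthogonal hB W
    rw [hWeq] at hfr
    have hle : Module.finrank (ZMod p) W ≤ Module.finrank (ZMod p) V := Submodule.finrank_le W
    have hV : Nat.card V = p ^ Module.finrank (ZMod p) V := by
      rw [Module.natCard_eq_pow_finrank (K := ZMod p) (V := V), Nat.card_zmod]
    have hWc : Nat.card W = p ^ Module.finrank (ZMod p) W := by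
      rw [Module.natCard_eq_pow_finrank (K := ZMod p) (V := W), Nat.card_zmod]
    have hdim : Module.finrank (ZMod p) V = 2 * n := by
      rw [hn] at hV
      exact (Nat.pow_right_injective hp1 hV).symm
    have hWn : Module.finrank (ZMod p) W = n := by omega
    right
    have := dvd_card_sub_one_of_free T h hh hT hfree W hWT
    rwa [hWc, hWn] at this

end LA

section Wrapper

/-- Main theorem, in terms of a biadditive alternating pairing into a group of order `p` (module version). -/
theorem symp_cyclic_module {p : ℕ} [hp : Fact p.Prime] {V M : Type*} [AddCommGroup V] [Module (ZMod p) V]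
    [Finite V] [AddCommGroup M] (hM : Nat.card M = p)
    (ω : V →+ V →+ M) (halt : ∀ v, ω v v = 0) (hnd : ∀ v, (∀ w, ω v w = 0) → v = 0)
    (T : V →+ V) (h : ℕ) (hh : 0 < h) (hcop : h.Coprime p) (hT : ∀ v, T^[h] v = v)
    (hfree : ∀ i, 0 < i → i < h → ∀ v, T^[i] v = v → v = 0)
    (hωT : ∀ v w, ω (T v) (T w) = ω v w) (n : ℕ) (hn : Nat.card V = p ^ (2 * n)) :
    h ∣ p ^ n + 1 ∨ h ∣ p ^ n - 1 := by
  classical
  have hcyc : IsAddCyclic M := isAddCyclic_of_prime_card hM
  let e : M ≃+ ZMod p := (zmodAddCyclicAddEquiv hcyc).symm.trans (ZMod.ringEquivCongr hM).toAddEquiv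
  have hskew : ∀ v w, ω v w = - ω w v := by
    intro v w
    have := halt (v + w)
    simp only [map_add, AddMonoidHom.add_apply, halt, zero_add, add_zero] at this
    exact eq_neg_of_add_eq_zero_right this
  let B : LinearMap.BilinForm (ZMod p) V :=
    LinearMap.mk₂ (ZMod p) (fun v w => e (ω v w))
      (by intro v v' w; simp)
      (by
        intro c v w
        exact ZMod.map_smul (e.toAddMonoidHom.comp (ω.flip w)) c v)
      (by intro v w w'; simp)
      (by
        intro c v w
        exact ZMod.map_smul (e.toAddMonoidHom.comp (ω v)) c w)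
  have hBdef : ∀ v w, B v w = e (ω v w) := fun v w => rfl
  have hBalt : B.IsAlt := by
    intro v
    show B v v = 0
    rw [hBdef, halt, map_zero]
  have hBnd : B.Nondegenerate := by
    refine (LinearMap.IsRefl.nondegenerate_iff_separatingLeft (B := B) hBalt.isRefl).2 ?_
    intro v hv
    apply hnd v
    intro w
    have := hv w
    rw [hBdef] at this
    exact (AddEquiv.map_eq_zero_iff e).1 this
  let T' : Module.End (ZMod p) V := T.toZModLinearMap p
  have hT'pow : ∀ i v, (T' ^ i) v = T^[i] v := by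
    intro i v
    rw [Module.End.pow_apply]
    rfl
  have hT'h : T' ^ h = 1 := by
    apply LinearMap.ext
    intro v
    rw [hT'pow, hT, Module.End.one_apply]
  have hfree' : ∀ i, 0 < i → i < h → ∀ v, (T' ^ i) v = v → v = 0 := by
    intro i hi hih v hv
    rw [hT'pow] at hv
    exact hfree i hi hih v hv
  have hBT : ∀ v w, B (T' v) (T' w) = B v w := by
    intro v w
    show B (T v) (T w) = B v w
    rw [hBdef, hBdef, hωT]
  exact main_bilin B T' h hBnd hBalt hh hcop hT'h hfree' hBT n hn

/-- Main theorem, in terms of a biadditive alternating pairing into a group of order `p`. -/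
theorem symp_cyclic {p : ℕ} [hp : Fact p.Prime] {V M : Type*} [AddCommGroup V] [Finite V] [AddCommGroup M]
    (hV : ∀ v : V, p • v = 0) (hM : Nat.card M = p)
    (ω : V →+ V →+ M) (halt : ∀ v, ω v v = 0) (hnd : ∀ v, (∀ w, ω v w = 0) → v = 0)
    (T : V →+ V) (h : ℕ) (hh : 0 < h) (hcop : h.Coprime p) (hT : ∀ v, T^[h] v = v)
    (hfree : ∀ i, 0 < i → i < h → ∀ v, T^[i] v = v → v = 0)
    (hωT : ∀ v w, ω (T v) (T w) = ω v w) (n : ℕ) (hn : Nat.card V = p ^ (2 * n)) :
    h ∣ p ^ n + 1 ∨ h ∣ p ^ n - 1 := by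
  letI : Module (ZMod p) V := AddCommGroup.zmodModule hV
  exact symp_cyclic_module hM ω halt hnd T h hh hcop hT hfree hωT n hn

end Wrapper

end Cfsg.Agent.Helper62.SympCyclic
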