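import Mathlib
import Cfsg.Agent.Lib.Helper47.Frat
import Cfsg.Agent.S4208

set_option autoImplicit false

/-!
# Frattini index bookkeeping for finite `p`-groups

`fidx X = [X : Φ(X)]`.  For a finite `p`-group this is `p ^ d(X)`.  We prove the sub-multiplicativity
`fidx X ≤ fidx (X ⧸ N) * fidx N` and a few consequences.
-/

namespace Cfsg.Agent.Helper62.TwoRank

open Subgroup

/-- The index of the Frattini subgroup. -/
noncomputable def fidx (X : Type*) [Group X] : ℕ := (frattini X).index

theorem fidx_pos (X : Type*) [Group X] [Finite X] : 0 < fidx X :=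
  Nat.pos_of_ne_zero (Subgroup.index_ne_zero_of_finite)

theorem fidx_le_card (X : Type*) [Group X] [Finite X] : fidx X ≤ Nat.card X :=
  Nat.le_of_dvd Nat.card_pos (Subgroup.index_dvd_card _)

theorem fidx_dvd_card (X : Type*) [Group X] [Finite X] : fidx X ∣ Nat.card X :=
  Subgroup.index_dvd_card _

theorem fidx_congr {X Y : Type*} [Group X] [Group Y] (e : X ≃* Y) : fidx X = fidx Y := by
  unfold fidx
  have h : (frattini Y).comap e.toMonoidHom = frattini X := by
    have := e.comapSubgroup.map_radical
    exact this
  rw [← h]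
  exact Subgroup.index_comap_of_surjective _ e.surjective

/-- In a finite group, a normal subgroup with elementary abelian quotient contains the
Frattini subgroup. -/
theorem frattini_le_of_elementary_quotient {X : Type*} [Group X] [Finite X] {p : ℕ} [Fact p.Prime]
    (L : Subgroup X) [hL : L.Normal] (hcomm : ∀ x y : X, x * y * (y * x)⁻¹ ∈ L)
    (hpow : ∀ x : X, x ^ p ∈ L) :
    frattini X ≤ L := by
  have h := Cfsg.Agent.Helper47.frattini_le_ker_of_elementary (p := p) (QuotientGroup.mk' L)
    (fun x y => by
      rw [← map_mul, ← map_mul]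
      rw [QuotientGroup.mk'_apply, QuotientGroup.mk'_apply, QuotientGroup.eq]
      exact (hL.mem_comm_iff).mp (hcomm y x))
    (fun x => by
      rw [← map_pow, QuotientGroup.mk'_apply, QuotientGroup.eq_one_iff]
      exact hpow x)
  rwa [QuotientGroup.ker_mk'] at h

theorem comm_mem_frattini {X : Type*} [Group X] [Finite X] {p : ℕ} [Fact p.Prime]
    (hX : IsPGroup p X) (x y : X) : x * y * (y * x)⁻¹ ∈ frattini X := by
  have h := (Cfsg.Agent.S4208.frattini_quot_props hX).1 (x : X ⧸ frattini X) (y : X ⧸ frattini X)
  rw [← QuotientGroup.mk_mul, ← QuotientGroup.mk_mul] at h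
  have h2 := (QuotientGroup.eq.mp h.symm)
  -- h2 : (y*x)⁻¹ * (x*y) ∈ frattini X
  have hn : (frattini X).Normal := inferInstance
  exact (hn.mem_comm_iff).mp h2

theorem pow_mem_frattini {X : Type*} [Group X] [Finite X] {p : ℕ} [Fact p.Prime]
    (hX : IsPGroup p X) (x : X) : x ^ p ∈ frattini X := by
  have h := (Cfsg.Agent.S4208.frattini_quot_props hX).2 (x : X ⧸ frattini X)
  rw [← QuotientGroup.mk_pow, QuotientGroup.eq_one_iff] at h
  exact h

/-- Sub-multiplicativity of the Frattini index along a normal subgroup. -/
theorem fidx_le_quotient_mul {X : Type*} [Group X] [Finite X] {p : ℕ} [Fact p.Prime]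
    (hX : IsPGroup p X) (N : Subgroup X) [N.Normal] :
    fidx X ≤ fidx (X ⧸ N) * fidx ↥N := by
  have hLn : (frattini X).Normal := inferInstance
  have h1 : frattini ↥N ≤ (frattini X).subgroupOf N := by
    have : ((frattini X).subgroupOf N).Normal := hLn.subgroupOf N
    apply frattini_le_of_elementary_quotient (p := p)
    · intro x y
      rw [Subgroup.mem_subgroupOf]
      exact comm_mem_frattini hX (x : X) (y : X)
    · intro x
      rw [Subgroup.mem_subgroupOf]
      exact pow_mem_frattini hX (x : X)
  have h2 : frattini (X ⧸ N) ≤ (frattini X).map (QuotientGroup.mk' N) := by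
    have : ((frattini X).map (QuotientGroup.mk' N)).Normal :=
      Subgroup.Normal.map hLn _ (QuotientGroup.mk'_surjective N)
    apply frattini_le_of_elementary_quotient (p := p)
    · intro a b
      induction a using QuotientGroup.induction_on with | _ x => ?_
      induction b using QuotientGroup.induction_on with | _ y => ?_
      exact ⟨x * y * (y * x)⁻¹, comm_mem_frattini hX x y, rfl⟩
    · intro a
      induction a using QuotientGroup.induction_on with | _ x => ?_
      exact ⟨x ^ p, pow_mem_frattini hX x, rfl⟩
  have i1 : (frattini X).relIndex N ∣ fidx ↥N := Subgroup.index_dvd_of_le h1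
  have i2 : (frattini X ⊔ N).index ∣ fidx (X ⧸ N) := by
    have := Subgroup.index_dvd_of_le h2
    rw [Subgroup.index_map, QuotientGroup.ker_mk', QuotientGroup.range_mk', index_top, mul_one]
      at this
    exact this
  have i3 : (frattini X).relIndex (frattini X ⊔ N) * (frattini X ⊔ N).index = fidx X :=
    Subgroup.relIndex_mul_index le_sup_left
  have i4 : (frattini X).relIndex (frattini X ⊔ N) = (frattini X).relIndex N :=
    Subgroup.relIndex_sup_left _ _
  rw [← i3, i4, mul_comm]
  exact Nat.mul_le_mul (Nat.le_of_dvd (fidx_pos _) i2) (Nat.le_of_dvd (fidx_pos _) i1)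

/-- Frattini index along a normal subgroup, crude version. -/
theorem fidx_le_index_mul {X : Type*} [Group X] [Finite X] {p : ℕ} [Fact p.Prime]
    (hX : IsPGroup p X) (N : Subgroup X) [N.Normal] :
    fidx X ≤ N.index * fidx ↥N := by
  refine (fidx_le_quotient_mul hX N).trans (Nat.mul_le_mul_right _ ?_)
  rw [Subgroup.index_eq_card]
  exact fidx_le_card _

/-- A cyclic `p`-group has Frattini index at most `p`. -/
theorem fidx_le_of_isCyclic {X : Type*} [Group X] [Finite X] {p : ℕ} [hp : Fact p.Prime]
    (hX : IsPGroup p X) [IsCyclic X] : fidx X ≤ p := by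
  have hcyc : IsCyclic (X ⧸ frattini X) :=
    isCyclic_of_surjective (QuotientGroup.mk' (frattini X)) (QuotientGroup.mk'_surjective _)
  have h1 : Monoid.exponent (X ⧸ frattini X) = Nat.card (X ⧸ frattini X) :=
    IsCyclic.exponent_eq_card
  have h2 : Monoid.exponent (X ⧸ frattini X) ∣ p :=
    Monoid.exponent_dvd_of_forall_pow_eq_one (Cfsg.Agent.S4208.frattini_quot_props hX).2
  rw [h1, ← Subgroup.index_eq_card] at h2
  exact Nat.le_of_dvd hp.out.pos h2

/-- If the Frattini subgroup of a `p`-group is trivial the group is abelian. -/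
theorem comm_of_frattini_eq_bot {X : Type*} [Group X] [Finite X] {p : ℕ} [Fact p.Prime]
    (hX : IsPGroup p X) (h : frattini X = ⊥) (x y : X) : x * y = y * x := by
  have := comm_mem_frattini hX x y
  rw [h, Subgroup.mem_bot, mul_inv_eq_one] at this
  exact this

/-- A nonabelian `p`-group has Frattini index a proper divisor of its order. -/
theorem two_mul_fidx_le_card_of_not_comm {X : Type*} [Group X] [Finite X] {p : ℕ} [Fact p.Prime]
    (hX : IsPGroup p X) (hnc : ¬ ∀ x y : X, x * y = y * x) : 2 * fidx X ≤ Nat.card X := by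
  have hne : frattini X ≠ ⊥ := fun h => hnc (comm_of_frattini_eq_bot hX h)
  have h1 : Nat.card (frattini X) * fidx X = Nat.card X := Subgroup.card_mul_index _
  have h2 : Nat.card (frattini X) ≠ 1 := by
    intro h
    exact hne (Subgroup.card_eq_one.mp h)
  have h3 : 0 < Nat.card (frattini X) := Nat.card_pos
  have h4 : 2 ≤ Nat.card (frattini X) := by omega
  calc 2 * fidx X ≤ Nat.card (frattini X) * fidx X := Nat.mul_le_mul_right _ h4
    _ = Nat.card X := h1

/-- For a commutative `2`-group the Frattini index is at most the number of solutions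
of `y ^ 2 = 1`. -/
theorem fidx_le_card_sq_eq_one {Y : Type*} [Group Y] [Finite Y] (hY : IsPGroup 2 Y)
    (hc : ∀ a b : Y, a * b = b * a) : fidx Y ≤ Nat.card {y : Y // y ^ 2 = 1} := by
  have : Fact (Nat.Prime 2) := ⟨Nat.prime_two⟩
  let sq : Y →* Y :=
    { toFun := fun y => y ^ 2
      map_one' := one_pow 2
      map_mul' := fun a b => (Commute.mul_pow (hc a b) 2) }
  have hr : sq.range ≤ frattini Y := by
    rintro _ ⟨y, rfl⟩
    exact pow_mem_frattini hY y
  have h1 : fidx Y ∣ sq.range.index := Subgroup.index_dvd_of_le hr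
  have h2 : sq.range.index * Nat.card sq.range = Nat.card Y := Subgroup.index_mul_card _
  have h3 : sq.ker.index * Nat.card sq.ker = Nat.card Y := Subgroup.index_mul_card _
  rw [Subgroup.index_ker] at h3
  have h4 : sq.range.index = Nat.card sq.ker := by
    have hpos : 0 < Nat.card sq.range := Nat.card_pos
    have : sq.range.index * Nat.card sq.range = Nat.card sq.ker * Nat.card sq.range := by
      rw [h2, ← h3, mul_comm]
    exact Nat.eq_of_mul_eq_mul_right hpos this
  have h5 : Nat.card sq.ker = Nat.card {y : Y // y ^ 2 = 1} := by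
    apply Nat.card_congr
    exact Equiv.subtypeEquivRight (fun y => by rw [MonoidHom.mem_ker]; rfl)
  rw [← h5, ← h4]
  exact Nat.le_of_dvd (Nat.pos_of_ne_zero Subgroup.index_ne_zero_of_finite) h1

end Cfsg.Agent.Helper62.TwoRank
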