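import Mathlib
import Cfsg.Agent.Lib.Helper62.TwoRankA

set_option autoImplicit false

/-!
# Square roots of one modulo `2 ^ k` and automorphisms of cyclic `2`-groups
-/

namespace Cfsg.Agent.Helper62.TwoRank

open Subgroup

/-- If `2 ^ (k + 1)` divides `x ^ 2 - 1` then `2 ^ k` divides `x - 1` or `x + 1`. -/
theorem two_pow_dvd_sub_or_add (k : ℕ) (x : ℤ) (h : (2 : ℤ) ^ (k + 1) ∣ x ^ 2 - 1) :
    (2 : ℤ) ^ k ∣ x - 1 ∨ (2 : ℤ) ^ k ∣ x + 1 := by
  rcases Nat.eq_zero_or_pos k with rfl | hk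
  · left; simp
  -- x is odd
  have hodd : Odd x := by
    by_contra hx
    rw [Int.not_odd_iff_even] at hx
    obtain ⟨t, rfl⟩ := hx
    have h2 : (2 : ℤ) ∣ (t + t) ^ 2 - 1 := dvd_trans (dvd_pow_self 2 (by omega)) h
    have h3 : (t + t) ^ 2 - 1 = 2 * (2 * t ^ 2) - 1 := by ring
    rw [h3] at h2
    generalize 2 * t ^ 2 = s at h2
    omega
  obtain ⟨t, rfl⟩ := hodd
  have h4 : (2 * t + 1) ^ 2 - 1 = 2 ^ 2 * (t * (t + 1)) := by ring
  rw [h4] at h
  obtain ⟨j, rfl⟩ : ∃ j, k = j + 1 := ⟨k - 1, by omega⟩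
  have h5 : (2 : ℤ) ^ (j + 1 + 1) = 2 ^ 2 * 2 ^ j := by ring
  rw [h5] at h
  have h6 : (2 : ℤ) ^ j ∣ t * (t + 1) := (mul_dvd_mul_iff_left (by norm_num)).mp h
  have hp : Prime (2 : ℤ) := Int.prime_two
  by_cases ht : (2 : ℤ) ∣ t
  · left
    have h7 : ¬ (2 : ℤ) ∣ t + 1 := by omega
    have h8 : (2 : ℤ) ^ j ∣ t := by
      rw [mul_comm] at h6
      exact hp.pow_dvd_of_dvd_mul_left j h7 h6
    obtain ⟨c, rfl⟩ := h8
    exact ⟨c, by ring⟩
  · right
    have h8 : (2 : ℤ) ^ j ∣ t + 1 := hp.pow_dvd_of_dvd_mul_left j ht h6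
    obtain ⟨c, hc⟩ := h8
    exact ⟨c, by rw [pow_succ]; linear_combination 2 * hc⟩

/-- Square roots of one modulo `2 ^ (k + 1)`. -/
theorem zmod_sq_eq_one (k : ℕ) (u : ZMod (2 ^ (k + 1))) (hu : u ^ 2 = 1) :
    u = 1 ∨ u = -1 ∨ u = 1 + (2 : ZMod (2 ^ (k + 1))) ^ k ∨
      u = -1 + (2 : ZMod (2 ^ (k + 1))) ^ k := by
  obtain ⟨x, rfl⟩ := ZMod.intCast_surjective u
  have h0 : ((2 : ZMod (2 ^ (k + 1))) ^ (k + 1)) = 0 := by
    have := ZMod.natCast_self (2 ^ (k + 1))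
    push_cast at this
    exact this
  have h1 : ((2 ^ (k + 1) : ℕ) : ℤ) ∣ x ^ 2 - 1 := by
    rw [← ZMod.intCast_zmod_eq_zero_iff_dvd]
    push_cast
    rw [hu]; ring
  have h1' : (2 : ℤ) ^ (k + 1) ∣ x ^ 2 - 1 := by exact_mod_cast h1
  rcases two_pow_dvd_sub_or_add k x h1' with ⟨s, hs⟩ | ⟨s, hs⟩
  · obtain ⟨c, rfl | rfl⟩ := Int.even_or_odd' s
    · left
      have hx : x = 1 + 2 ^ (k + 1) * c := by rw [pow_succ]; linear_combination hs
      rw [hx]; push_cast; rw [h0]; ring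
    · right; right; left
      have hx : x = 1 + 2 ^ (k + 1) * c + 2 ^ k := by rw [pow_succ]; linear_combination hs
      rw [hx]; push_cast; rw [h0]; ring
  · obtain ⟨c, rfl | rfl⟩ := Int.even_or_odd' s
    · right; left
      have hx : x = -1 + 2 ^ (k + 1) * c := by rw [pow_succ]; linear_combination hs
      rw [hx]; push_cast; rw [h0]; ring
    · right; right; right
      have hx : x = -1 + 2 ^ (k + 1) * c + 2 ^ k := by rw [pow_succ]; linear_combination hs
      rw [hx]; push_cast; rw [h0]; ring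

/-- At most four units modulo `2 ^ k` square to one. -/
theorem card_units_sq_eq_one_le (n k : ℕ) (hn : n = 2 ^ k) :
    Nat.card {u : (ZMod n)ˣ // u ^ 2 = 1} ≤ 4 := by
  subst hn
  rcases Nat.eq_zero_or_pos k with rfl | hk
  · have hinj : Function.Injective
        (fun u : {u : (ZMod (2 ^ 0))ˣ // u ^ 2 = 1} => ((u.1 : (ZMod (2 ^ 0))ˣ) : ZMod (2 ^ 0))) := by
      intro a b h
      exact Subtype.ext (Units.ext h)
    have := Nat.card_le_card_of_injective _ hinj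
    rw [Nat.card_zmod] at this
    exact this.trans (by norm_num)
  obtain ⟨j, rfl⟩ : ∃ j, k = j + 1 := ⟨k - 1, by omega⟩
  classical
  let S : Finset (ZMod (2 ^ (j + 1))) :=
    {1, -1, 1 + (2 : ZMod (2 ^ (j + 1))) ^ j, -1 + (2 : ZMod (2 ^ (j + 1))) ^ j}
  have hS : S.card ≤ 4 := Finset.card_le_four
  have hmem : ∀ u : {u : (ZMod (2 ^ (j + 1)))ˣ // u ^ 2 = 1},
      ((u.1 : (ZMod (2 ^ (j + 1)))ˣ) : ZMod (2 ^ (j + 1))) ∈ S := by
    intro u
    have h2 : ((u.1 : (ZMod (2 ^ (j + 1)))ˣ) : ZMod (2 ^ (j + 1))) ^ 2 = 1 := by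
      have := congrArg (fun w : (ZMod (2 ^ (j + 1)))ˣ => (w : ZMod (2 ^ (j + 1)))) u.2
      simpa using this
    have := zmod_sq_eq_one j _ h2
    simp only [S, Finset.mem_insert, Finset.mem_singleton]
    exact this
  let f : {u : (ZMod (2 ^ (j + 1)))ˣ // u ^ 2 = 1} → S := fun u => ⟨_, hmem u⟩
  have hf : Function.Injective f := by
    intro a b h
    have := congrArg Subtype.val h
    exact Subtype.ext (Units.ext this)
  calc Nat.card {u : (ZMod (2 ^ (j + 1)))ˣ // u ^ 2 = 1} ≤ Nat.card S :=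
        Nat.card_le_card_of_injective f hf
    _ = S.card := by simp
    _ ≤ 4 := hS

/-- At most four automorphisms of a cyclic `2`-group square to one. -/
theorem card_mulAut_sq_eq_one_le {A : Type*} [Group A] [IsCyclic A] (k : ℕ)
    (hA : Nat.card A = 2 ^ k) : Nat.card {σ : MulAut A // σ ^ 2 = 1} ≤ 4 := by
  have : NeZero (Nat.card A) := ⟨by rw [hA]; positivity⟩
  have h := card_units_sq_eq_one_le (Nat.card A) k hA
  refine le_trans (Nat.card_le_card_of_injective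
    (fun σ : {σ : MulAut A // σ ^ 2 = 1} =>
      (⟨IsCyclic.mulAutMulEquiv A σ.1, by rw [← map_pow, σ.2, map_one]⟩ :
        {u : (ZMod (Nat.card A))ˣ // u ^ 2 = 1})) ?_) h
  intro σ τ hστ
  exact Subtype.ext ((IsCyclic.mulAutMulEquiv A).injective (congrArg Subtype.val hστ))

/-- Automorphisms of a cyclic group commute. -/
theorem mulAut_comm_of_cyclic {A : Type*} [Group A] [IsCyclic A] (σ τ : MulAut A) :
    σ * τ = τ * σ := by
  apply (IsCyclic.mulAutMulEquiv A).injective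
  rw [map_mul, map_mul, mul_comm]

/-- A `2`-group of automorphisms of a cyclic `2`-group has Frattini index at most four. -/
theorem fidx_le_four_of_injective_mulAut {Y A : Type*} [Group Y] [Finite Y] [Group A] [IsCyclic A]
    (k : ℕ) (hA : Nat.card A = 2 ^ k) (ψ : Y →* MulAut A) (hψ : Function.Injective ψ)
    (hY : IsPGroup 2 Y) : fidx Y ≤ 4 := by
  have hc : ∀ a b : Y, a * b = b * a := by
    intro a b
    apply hψ
    rw [map_mul, map_mul, mulAut_comm_of_cyclic]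
  have : NeZero (Nat.card A) := ⟨by rw [hA]; positivity⟩
  have hfin : Finite {σ : MulAut A // σ ^ 2 = 1} := by
    have : Finite (MulAut A) := Finite.of_equiv _ (IsCyclic.mulAutMulEquiv A).symm.toEquiv
    infer_instance
  refine (fidx_le_card_sq_eq_one hY hc).trans (le_trans ?_ (card_mulAut_sq_eq_one_le k hA))
  refine Nat.card_le_card_of_injective
    (fun y : {y : Y // y ^ 2 = 1} =>
      (⟨ψ y.1, by rw [← map_pow, y.2, map_one]⟩ : {σ : MulAut A // σ ^ 2 = 1})) ?_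
  intro a b hab
  exact Subtype.ext (hψ (congrArg Subtype.val hab))

end Cfsg.Agent.Helper62.TwoRank
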