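import Mathlib
import Cfsg.Agent.Lib.Helper62.TwoRankA

set_option autoImplicit false

/-!
# A `2`-group acting faithfully on an abelian group of odd order: invariant subgroups
-/

namespace Cfsg.Agent.Helper62.TwoRank

open Subgroup

universe u w

variable {V : Type u} [CommGroup V] {P : Type w} [Group P]

/-- Restriction of an action to an invariant subgroup. -/
def resHom (φ : P →* MulAut V) (V₁ : Subgroup V) (hinv : ∀ x : P, ∀ v ∈ V₁, φ x v ∈ V₁) :
    P →* MulAut V₁ where
  toFun x :=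
    { toFun := fun v => ⟨φ x v, hinv x v v.2⟩
      invFun := fun v => ⟨φ x⁻¹ v, hinv x⁻¹ v v.2⟩
      left_inv := fun v => Subtype.ext (by
        show φ x⁻¹ (φ x v) = v
        rw [map_inv]; exact MulAut.inv_apply_self _ _ _)
      right_inv := fun v => Subtype.ext (by
        show φ x (φ x⁻¹ v) = v
        rw [map_inv]; exact MulAut.apply_inv_self _ _ _)
      map_mul' := fun a b => Subtype.ext (map_mul (φ x) (a : V) (b : V)) }
  map_one' := by
    ext v
    show φ 1 v = v
    rw [map_one]; rfl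
  map_mul' x y := by
    ext v
    show φ (x * y) v = φ x (φ y v)
    rw [map_mul]; rfl

theorem resHom_apply (φ : P →* MulAut V) (V₁ : Subgroup V)
    (hinv : ∀ x : P, ∀ v ∈ V₁, φ x v ∈ V₁) (x : P) (v : V₁) :
    ((resHom φ V₁ hinv x v : V₁) : V) = φ x v := rfl

/-- Induced action on the quotient by an invariant subgroup. -/
def quoHom (φ : P →* MulAut V) (V₁ : Subgroup V) (hinv : ∀ x : P, ∀ v ∈ V₁, φ x v ∈ V₁) :
    P →* MulAut (V ⧸ V₁) where
  toFun x :=
    { toFun := QuotientGroup.map V₁ V₁ (φ x).toMonoidHom (fun v hv => hinv x v hv)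
      invFun := QuotientGroup.map V₁ V₁ (φ x⁻¹).toMonoidHom (fun v hv => hinv x⁻¹ v hv)
      left_inv := by
        intro a
        induction a using QuotientGroup.induction_on with | _ v => ?_
        show ((φ x⁻¹ (φ x v) : V) : V ⧸ V₁) = v
        rw [map_inv, MulAut.inv_apply_self]
      right_inv := by
        intro a
        induction a using QuotientGroup.induction_on with | _ v => ?_
        show ((φ x (φ x⁻¹ v) : V) : V ⧸ V₁) = v
        rw [map_inv, MulAut.apply_inv_self]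
      map_mul' := map_mul _ }
  map_one' := by
    ext a
    induction a using QuotientGroup.induction_on with | _ v => ?_
    show ((φ 1 v : V) : V ⧸ V₁) = v
    rw [map_one]; rfl
  map_mul' x y := by
    ext a
    induction a using QuotientGroup.induction_on with | _ v => ?_
    show ((φ (x * y) v : V) : V ⧸ V₁) = ((φ x (φ y v) : V) : V ⧸ V₁)
    rw [map_mul]; rfl

theorem quoHom_mk (φ : P →* MulAut V) (V₁ : Subgroup V)
    (hinv : ∀ x : P, ∀ v ∈ V₁, φ x v ∈ V₁) (x : P) (v : V) :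
    quoHom φ V₁ hinv x (v : V ⧸ V₁) = ((φ x v : V) : V ⧸ V₁) := rfl

/-- An automorphism of `2`-power order of an odd order abelian group which is trivial on
`V₁` and on `V ⧸ V₁` is trivial. -/
theorem eq_one_of_trivial_on_series [Finite V] (hodd : Odd (Nat.card V)) (σ : MulAut V) (j : ℕ)
    (hσ : σ ^ (2 ^ j) = 1) (V₁ : Subgroup V) (h1 : ∀ v ∈ V₁, σ v = v)
    (h2 : ∀ v : V, σ v * v⁻¹ ∈ V₁) : σ = 1 := by
  ext v
  have hcσ : σ (σ v * v⁻¹) = σ v * v⁻¹ := h1 _ (h2 v)
  have hpow : ∀ m : ℕ, (σ ^ m) v = v * (σ v * v⁻¹) ^ m := by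
    intro m
    induction m with
    | zero => simp
    | succ m ih =>
      rw [pow_succ', MulAut.mul_apply, ih, map_mul, map_pow, hcσ, pow_succ]
      simp only [mul_comm, mul_assoc]
      rw [mul_inv_cancel_left]
  have h3 : (σ v * v⁻¹) ^ (2 ^ j) = 1 := by
    have := hpow (2 ^ j)
    rw [hσ, MulAut.one_apply] at this
    exact left_eq_mul.mp this
  have h4 : orderOf (σ v * v⁻¹) ∣ 2 ^ j := orderOf_dvd_of_pow_eq_one h3
  have h5 : orderOf (σ v * v⁻¹) ∣ Nat.card V := orderOf_dvd_natCard _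
  have hcop : Nat.Coprime (2 ^ j) (Nat.card V) :=
    Nat.Coprime.pow_left j (Nat.coprime_two_left.mpr hodd)
  have h6 : orderOf (σ v * v⁻¹) = 1 := Nat.eq_one_of_dvd_coprimes hcop h4 h5
  rw [orderOf_eq_one_iff, mul_inv_eq_one] at h6
  rw [MulAut.one_apply]
  exact h6

/-- The kernel of restriction acts faithfully on the quotient. -/
theorem quoHom_injective_on_ker [Finite V] (hodd : Odd (Nat.card V)) (hP : IsPGroup 2 P)
    (φ : P →* MulAut V) (hinj : Function.Injective φ) (V₁ : Subgroup V)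
    (hinv : ∀ x : P, ∀ v ∈ V₁, φ x v ∈ V₁) :
    Function.Injective ((quoHom φ V₁ hinv).comp (resHom φ V₁ hinv).ker.subtype) := by
  rw [injective_iff_map_eq_one]
  rintro ⟨x, hx⟩ h
  apply Subtype.ext
  show x = 1
  apply hinj
  rw [map_one]
  obtain ⟨j, hj⟩ := hP x
  apply eq_one_of_trivial_on_series hodd (φ x) j (by rw [← map_pow, hj, map_one]) V₁
  · intro v hv
    have := congrArg (fun f : MulAut V₁ => ((f ⟨v, hv⟩ : V₁) : V)) (MonoidHom.mem_ker.mp hx)
    exact this
  · intro v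
    have h' : quoHom φ V₁ hinv x (v : V ⧸ V₁) = (v : V ⧸ V₁) := by
      have := congrArg (fun f : MulAut (V ⧸ V₁) => f (v : V ⧸ V₁)) h
      exact this
    rw [quoHom_mk] at h'
    have := QuotientGroup.eq.mp h'.symm
    rw [mul_comm] at this
    exact this

/-- Frattini index bound from an invariant subgroup. -/
theorem fidx_le_of_invariant [Finite V] [Finite P] (hodd : Odd (Nat.card V)) (hP : IsPGroup 2 P)
    (φ : P →* MulAut V) (hinj : Function.Injective φ) (V₁ : Subgroup V)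
    (hinv : ∀ x : P, ∀ v ∈ V₁, φ x v ∈ V₁) (B₁ B₂ : ℕ)
    (h₁ : ∀ (Q : Type w) [Group Q] [Finite Q] (ψ : Q →* MulAut V₁),
      Function.Injective ψ → IsPGroup 2 Q → fidx Q ≤ B₁)
    (h₂ : ∀ (Q : Type w) [Group Q] [Finite Q] (ψ : Q →* MulAut (V ⧸ V₁)),
      Function.Injective ψ → IsPGroup 2 Q → fidx Q ≤ B₂) :
    fidx P ≤ B₁ * B₂ := by
  have : Fact (Nat.Prime 2) := ⟨Nat.prime_two⟩
  have h := fidx_le_quotient_mul hP (resHom φ V₁ hinv).ker
  have a1 : fidx (P ⧸ (resHom φ V₁ hinv).ker) ≤ B₁ :=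
    h₁ (P ⧸ (resHom φ V₁ hinv).ker) (QuotientGroup.kerLift (resHom φ V₁ hinv))
      (QuotientGroup.kerLift_injective _) (hP.to_quotient _)
  have a2 : fidx (resHom φ V₁ hinv).ker ≤ B₂ :=
    h₂ (resHom φ V₁ hinv).ker ((quoHom φ V₁ hinv).comp (resHom φ V₁ hinv).ker.subtype)
      (quoHom_injective_on_ker hodd hP φ hinj V₁ hinv) (hP.to_subgroup _)
  exact h.trans (Nat.mul_le_mul a1 a2)

/-- Order bound from an invariant subgroup. -/
theorem card_le_of_invariant [Finite V] [Finite P] (hodd : Odd (Nat.card V)) (hP : IsPGroup 2 P)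
    (φ : P →* MulAut V) (hinj : Function.Injective φ) (V₁ : Subgroup V)
    (hinv : ∀ x : P, ∀ v ∈ V₁, φ x v ∈ V₁) :
    Nat.card P ≤ Nat.card (MulAut V₁) * Nat.card (MulAut (V ⧸ V₁)) := by
  rw [Subgroup.card_eq_card_quotient_mul_card_subgroup (resHom φ V₁ hinv).ker]
  refine Nat.mul_le_mul ?_ ?_
  · exact Nat.card_le_card_of_injective _ (QuotientGroup.kerLift_injective (resHom φ V₁ hinv))
  · exact Nat.card_le_card_of_injective _ (quoHom_injective_on_ker hodd hP φ hinj V₁ hinv)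

end Cfsg.Agent.Helper62.TwoRank
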