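import Mathlib
import Cfsg.Agent.Lib.Helper62.TwoRankC

set_option autoImplicit false

/-!
# Involutions acting on abelian groups of odd order, and the numerical bound
-/

namespace Cfsg.Agent.Helper62.TwoRank

open Subgroup

universe u w

/-- The exponent in the rank bound. -/
def bnd (q n : ℕ) : ℕ := if q = 3 then (if n ≤ 1 then n else 3 * n / 2 - 1) else 2 * n - 1

theorem bnd_add_le (q a b : ℕ) (ha : 1 ≤ a) (hb : 1 ≤ b) : bnd q a + bnd q b ≤ bnd q (a + b) := by
  unfold bnd
  split_ifs <;> omega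

theorem bnd_double (q a : ℕ) (ha : 1 ≤ a) (h : ¬ (q = 3 ∧ a = 1)) :
    1 + (bnd q a + bnd q a) ≤ bnd q (a + a) := by
  unfold bnd
  split_ifs <;> omega

theorem three_le_bnd (q n : ℕ) (hn : 2 ≤ n) (h : ¬ (q = 3 ∧ n = 2)) : 3 ≤ bnd q n := by
  unfold bnd
  split_ifs <;> omega

theorem bnd_one (q : ℕ) : bnd q 1 = 1 := by
  unfold bnd
  split_ifs <;> omega

theorem bnd_three_two : bnd 3 2 = 2 := by
  unfold bnd
  norm_num

theorem two_pow_bnd_three (n : ℕ) (hn : 1 ≤ n) : 2 ^ bnd 3 n + 1 ≤ 3 ^ n := by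
  have key : ∀ m : ℕ, 2 ^ bnd 3 (m + 2) + 1 ≤ 3 ^ (m + 2) ∧ 2 ^ bnd 3 (m + 3) + 1 ≤ 3 ^ (m + 3) := by
    intro m
    induction m with
    | zero => constructor <;> (unfold bnd; norm_num)
    | succ m ih =>
      refine ⟨ih.2, ?_⟩
      have h1 : bnd 3 (m + 1 + 3) = bnd 3 (m + 2) + 3 := by
        unfold bnd
        split_ifs <;> omega
      rw [h1, pow_add]
      have h2 : 3 ^ (m + 1 + 3) = 9 * 3 ^ (m + 2) := by ring
      rw [h2]
      have := ih.1
      omega
  rcases Nat.lt_or_ge n 2 with h | h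
  · have : n = 1 := by omega
    subst this
    unfold bnd
    norm_num
  · obtain ⟨m, rfl⟩ : ∃ m, n = m + 2 := ⟨n - 2, by omega⟩
    exact (key m).1

theorem two_pow_bnd_five (q n : ℕ) (hq : 5 ≤ q) (hn : 1 ≤ n) : 2 ^ bnd q n + 1 ≤ q ^ n := by
  have hb : bnd q n = 2 * n - 1 := by
    unfold bnd
    split_ifs <;> omega
  rw [hb]
  have h5 : 2 ^ (2 * n - 1) + 1 ≤ 5 ^ n := by
    obtain ⟨m, rfl⟩ : ∃ m, n = m + 1 := ⟨n - 1, by omega⟩
    clear hn hb
    induction m with
    | zero => norm_num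
    | succ m ih =>
      have h1 : 2 * (m + 1 + 1) - 1 = (2 * (m + 1) - 1) + 2 := by omega
      rw [h1, pow_add, pow_succ 5 (m + 1)]
      omega
  exact h5.trans (Nat.pow_le_pow_left hq n)

theorem two_pow_bnd_lt (q n : ℕ) (hq : q.Prime) (hq2 : q ≠ 2) (hn : 1 ≤ n) :
    2 ^ bnd q n + 1 ≤ q ^ n := by
  by_cases h3 : q = 3
  · subst h3
    exact two_pow_bnd_three n hn
  · have h4 : q ≠ 4 := by
      rintro rfl
      norm_num at hq
    have := hq.two_le
    exact two_pow_bnd_five q n (by omega) hn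

variable {V : Type u} [CommGroup V] {P : Type w} [Group P]

/-- Fixed points of an automorphism. -/
def fixSub (σ : MulAut V) : Subgroup V where
  carrier := {v | σ v = v}
  mul_mem' := fun {a b} ha hb => by
    show σ (a * b) = a * b
    rw [map_mul, show σ a = a from ha, show σ b = b from hb]
  one_mem' := map_one σ
  inv_mem' := fun {a} ha => by
    show σ a⁻¹ = a⁻¹
    rw [map_inv, show σ a = a from ha]

theorem mem_fixSub {σ : MulAut V} {v : V} : v ∈ fixSub σ ↔ σ v = v := Iff.rfl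

/-- Inverted points of an automorphism. -/
def invSub (σ : MulAut V) : Subgroup V where
  carrier := {v | σ v = v⁻¹}
  mul_mem' := fun {a b} ha hb => by
    show σ (a * b) = (a * b)⁻¹
    rw [map_mul, show σ a = a⁻¹ from ha, show σ b = b⁻¹ from hb, mul_inv]
  one_mem' := by
    show σ 1 = 1⁻¹
    rw [map_one, inv_one]
  inv_mem' := fun {a} ha => by
    show σ a⁻¹ = a⁻¹⁻¹
    rw [map_inv, show σ a = a⁻¹ from ha]

theorem mem_invSub {σ : MulAut V} {v : V} : v ∈ invSub σ ↔ σ v = v⁻¹ := Iff.rfl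

theorem eq_one_of_mul_self_eq_one [Finite V] (hodd : Odd (Nat.card V)) (v : V) (h : v * v = 1) :
    v = 1 := by
  have h1 : orderOf v ∣ 2 := orderOf_dvd_of_pow_eq_one (by rw [pow_two]; exact h)
  have h2 : orderOf v ∣ Nat.card V := orderOf_dvd_natCard v
  have : orderOf v = 1 := Nat.eq_one_of_dvd_coprimes (Nat.coprime_two_left.mpr hodd) h1 h2
  exact orderOf_eq_one_iff.mp this

/-- An involutory automorphism of an odd order abelian group splits it. -/
theorem card_fixSub_mul_card_invSub [Finite V] (hodd : Odd (Nat.card V)) (σ : MulAut V)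
    (hσ : ∀ v, σ (σ v) = v) : Nat.card (fixSub σ) * Nat.card (invSub σ) = Nat.card V := by
  apply Subgroup.IsComplement'.card_mul_card
  apply Subgroup.isComplement'_of_disjoint_and_mul_eq_univ
  · rw [Subgroup.disjoint_def]
    intro v h1 h2
    have h3 : v = v⁻¹ := by
      rw [← mem_fixSub.mp h1]
      conv_rhs => rw [mem_fixSub.mp h1]
      exact mem_invSub.mp h2
    exact eq_one_of_mul_self_eq_one hodd v (by rw [mul_eq_one_iff_eq_inv]; exact h3)
  · apply Set.eq_univ_of_forall
    intro v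
    have hcop : (Nat.card V).Coprime 2 := Nat.coprime_two_right.mpr hodd
    obtain ⟨w, hw⟩ := (powCoprime hcop).surjective v
    have hw' : w ^ 2 = v := hw
    refine Set.mem_mul.mpr ⟨w * σ w, ?_, w * (σ w)⁻¹, ?_, ?_⟩
    · show σ (w * σ w) = w * σ w
      rw [map_mul, hσ, mul_comm]
    · show σ (w * (σ w)⁻¹) = (w * (σ w)⁻¹)⁻¹
      rw [map_mul, map_inv, hσ, mul_inv, inv_inv, mul_comm]
    · rw [← hw', pow_two]
      calc w * σ w * (w * (σ w)⁻¹) = w * w * (σ w * (σ w)⁻¹) := by
            simp only [mul_left_comm, mul_assoc]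
        _ = w * w := by rw [mul_inv_cancel, mul_one]

theorem fixSub_invariant (σ τ : MulAut V) (hc : τ * σ = σ * τ) :
    ∀ v ∈ fixSub σ, τ v ∈ fixSub σ := by
  intro v hv
  show σ (τ v) = τ v
  have := congrArg (fun f : MulAut V => f v) hc
  simp only [MulAut.mul_apply] at this
  rw [← this, mem_fixSub.mp hv]

theorem invSub_invariant (σ τ : MulAut V) (hc : τ * σ = σ * τ) :
    ∀ v ∈ invSub σ, τ v ∈ invSub σ := by
  intro v hv
  show σ (τ v) = (τ v)⁻¹
  have := congrArg (fun f : MulAut V => f v) hc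
  simp only [MulAut.mul_apply] at this
  rw [← this, mem_invSub.mp hv, map_inv]

/-- In an irreducible faithful action on an odd order abelian group a central involution
acts as inversion. -/
theorem central_invol_inverts [Finite V] (hodd : Odd (Nat.card V)) (φ : P →* MulAut V)
    (hinj : Function.Injective φ)
    (hirr : ∀ V₁ : Subgroup V, (∀ x : P, ∀ v ∈ V₁, φ x v ∈ V₁) → V₁ = ⊥ ∨ V₁ = ⊤)
    (c : P) (hc : c ∈ Subgroup.center P) (hc1 : c ≠ 1) (hc2 : c * c = 1) :
    ∀ v : V, φ c v = v⁻¹ := by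
  have hσ : ∀ v, φ c (φ c v) = v := by
    intro v
    have : φ c * φ c = 1 := by rw [← map_mul, hc2, map_one]
    have := congrArg (fun f : MulAut V => f v) this
    simpa only [MulAut.mul_apply, MulAut.one_apply] using this
  have hcomm : ∀ x : P, φ x * φ c = φ c * φ x := by
    intro x
    rw [← map_mul, ← map_mul, Subgroup.mem_center_iff.mp hc x]
  have hcard := card_fixSub_mul_card_invSub hodd (φ c) hσ
  rcases hirr (fixSub (φ c)) (fun x => fixSub_invariant (φ c) (φ x) (hcomm x)) with h | h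
  · rw [h, Subgroup.card_bot, one_mul] at hcard
    have htop : invSub (φ c) = ⊤ := (Subgroup.card_eq_iff_eq_top _).mp hcard
    intro v
    have : v ∈ invSub (φ c) := by rw [htop]; exact Subgroup.mem_top v
    exact this
  · exfalso
    apply hc1
    apply hinj
    rw [map_one]
    ext v
    have : v ∈ fixSub (φ c) := by rw [h]; exact Subgroup.mem_top v
    rw [MulAut.one_apply]
    exact this

end Cfsg.Agent.Helper62.TwoRank
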