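import Mathlib
import Cfsg.Agent.Lib.Helper62.TwoRankD

set_option autoImplicit false

/-!
# The inductive steps: reducible case and the four-group case
-/

namespace Cfsg.Agent.Helper62.TwoRank

open Subgroup

universe u w

/-- The statement proved by induction on `n`. -/
def BoundAt (q n : ℕ) : Prop :=
  ∀ (V : Type u) [CommGroup V] [Finite V] (P : Type w) [Group P] [Finite P] (φ : P →* MulAut V),
    (∀ v : V, v ^ q = 1) → Nat.card V = q ^ n → Function.Injective φ → IsPGroup 2 P →
    fidx P ≤ 2 ^ bnd q n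

theorem odd_card_of_card_eq {V : Type u} [CommGroup V] (q n : ℕ) (hq : q.Prime) (hq2 : q ≠ 2)
    (hcard : Nat.card V = q ^ n) : Odd (Nat.card V) := by
  rw [hcard]
  exact Odd.pow (hq.odd_of_ne_two hq2)

/-- Reducible case of the induction. -/
theorem step_reducible (q : ℕ) [hq : Fact q.Prime] (hq2 : q ≠ 2) (n : ℕ)
    (IH : ∀ m < n, BoundAt.{u, w} q m)
    (V : Type u) [CommGroup V] [Finite V] (P : Type w) [Group P] [Finite P] (φ : P →* MulAut V)
    (hexp : ∀ v : V, v ^ q = 1) (hcard : Nat.card V = q ^ n) (hinj : Function.Injective φ)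
    (hP : IsPGroup 2 P) (V₁ : Subgroup V) (hinv : ∀ x : P, ∀ v ∈ V₁, φ x v ∈ V₁) (a : ℕ)
    (ha : Nat.card V₁ = q ^ a) (ha0 : 0 < a) (han : a < n) :
    fidx P ≤ 2 ^ (bnd q a + bnd q (n - a)) := by
  have hodd : Odd (Nat.card V) := odd_card_of_card_eq q n hq.out hq2 hcard
  have hquo : Nat.card (V ⧸ V₁) = q ^ (n - a) := by
    have := Subgroup.card_eq_card_quotient_mul_card_subgroup V₁
    rw [hcard, ha] at this
    have h2 : q ^ n = q ^ (n - a) * q ^ a := by
      rw [← pow_add]; congr 1; omega
    rw [h2] at this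
    exact (Nat.eq_of_mul_eq_mul_right (pow_pos hq.out.pos a) this).symm
  rw [pow_add]
  apply fidx_le_of_invariant hodd hP φ hinj V₁ hinv
  · intro Q _ _ ψ hψ hQ
    exact IH a han V₁ Q ψ (fun v => Subtype.ext (by
      rw [Subgroup.coe_pow, hexp]; rfl)) ha hψ hQ
  · intro Q _ _ ψ hψ hQ
    refine IH (n - a) (by omega) (V ⧸ V₁) Q ψ (fun v => ?_) hquo hψ hQ
    induction v using QuotientGroup.induction_on with | _ v => ?_
    rw [← QuotientGroup.mk_pow, hexp, QuotientGroup.mk_one]

theorem card_mulAut_of_card_three {X : Type*} [Group X] [Finite X] (h : Nat.card X = 3) :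
    Nat.card (MulAut X) = 2 := by
  have : Fact (Nat.Prime 3) := ⟨Nat.prime_three⟩
  have hc : IsCyclic X := isCyclic_of_prime_card h
  rw [IsCyclic.card_mulAut X, h, Nat.totient_prime Nat.prime_three]

/-- Cardinalities of subgroups of a group of order `q ^ n`. -/
theorem exists_card_subgroup_eq {V : Type u} [CommGroup V] [Finite V] (q n : ℕ) (hq : q.Prime)
    (hcard : Nat.card V = q ^ n) (U : Subgroup V) : ∃ a ≤ n, Nat.card U = q ^ a := by
  have := Subgroup.card_subgroup_dvd_card U
  rw [hcard] at this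
  exact (Nat.dvd_prime_pow hq).mp this

/-- The four-group case of the induction. -/
theorem step_fourgroup (q : ℕ) [hq : Fact q.Prime] (hq2 : q ≠ 2) (n : ℕ)
    (IH : ∀ m < n, BoundAt.{u, w} q m)
    (V : Type u) [CommGroup V] [Finite V] (P : Type w) [Group P] [Finite P] (φ : P →* MulAut V)
    (hexp : ∀ v : V, v ^ q = 1) (hcard : Nat.card V = q ^ n) (hinj : Function.Injective φ)
    (hP : IsPGroup 2 P)
    (hirr : ∀ V₁ : Subgroup V, (∀ x : P, ∀ v ∈ V₁, φ x v ∈ V₁) → V₁ = ⊥ ∨ V₁ = ⊤)
    (z e : P) (hz : z ∈ Subgroup.center P) (hz1 : z ≠ 1) (hz2 : z * z = 1) (he2 : e * e = 1)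
    (he1 : e ≠ 1) (hez : e ≠ z) (hconj : ∀ g : P, g⁻¹ * e * g = e ∨ g⁻¹ * e * g = e * z) :
    fidx P ≤ 2 ^ bnd q n := by
  have h2p : Fact (Nat.Prime 2) := ⟨Nat.prime_two⟩
  have hodd : Odd (Nat.card V) := odd_card_of_card_eq q n hq.out hq2 hcard
  have hzinv : ∀ v : V, φ z v = v⁻¹ := central_invol_inverts hodd φ hinj hirr z hz hz1 hz2
  have hzc : ∀ g : P, g * z = z * g := Subgroup.mem_center_iff.mp hz
  -- `e` is not central
  have hnc : ¬ ∀ g : P, g * e = e * g := by
    intro h
    have heinv := central_invol_inverts hodd φ hinj hirr e (Subgroup.mem_center_iff.mpr h) he1 he2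
    apply hez
    apply hinj
    ext v
    rw [heinv, hzinv]
  push Not at hnc
  obtain ⟨g₀, hg₀⟩ := hnc
  have hg₀' : e * g₀ = g₀ * e * z := by
    have hgen : e * g₀ = g₀ * (g₀⁻¹ * e * g₀) := by group
    rcases hconj g₀ with h | h
    · exfalso
      apply hg₀
      rw [h] at hgen
      exact hgen.symm
    · rw [h, ← mul_assoc] at hgen
      exact hgen
  -- the centralizer of `e`
  have hmemM : ∀ b : P, b ∈ Subgroup.centralizer ({e} : Set P) ↔ e * b = b * e := by
    intro b
    rw [Subgroup.mem_centralizer_iff]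
    simp
  have hidx : (Subgroup.centralizer ({e} : Set P)).index = 2 := by
    rw [Subgroup.index_eq_two_iff]
    refine ⟨g₀, fun b => ?_⟩
    by_cases hb : b ∈ Subgroup.centralizer ({e} : Set P)
    · right
      refine ⟨hb, ?_⟩
      rw [hmemM] at hb ⊢
      intro h
      apply hz1
      have h1 : e * (b * g₀) = b * g₀ * e * z := by
        rw [← mul_assoc, hb, mul_assoc b, hg₀']; group
      rw [h] at h1
      exact (left_eq_mul.mp h1)
    · left
      refine ⟨?_, hb⟩
      rw [hmemM] at hb ⊢
      have h1 : e * b = b * e * z := by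
        have hgen : e * b = b * (b⁻¹ * e * b) := by group
        rcases hconj b with h | h
        · exfalso
          apply hb
          rw [h] at hgen
          exact hgen
        · rw [h, ← mul_assoc] at hgen
          exact hgen
      calc e * (b * g₀) = (e * b) * g₀ := by group
        _ = b * e * z * g₀ := by rw [h1]
        _ = b * (e * g₀) * z := by rw [mul_assoc (b * e), hzc g₀ |>.symm]; group
        _ = b * (g₀ * e * z) * z := by rw [hg₀']
        _ = b * g₀ * e * (z * z) := by group
        _ = b * g₀ * e := by rw [hz2, mul_one]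
  have hMn : (Subgroup.centralizer ({e} : Set P)).Normal := Subgroup.normal_of_index_eq_two hidx
  have hfP : fidx P ≤ 2 * fidx (Subgroup.centralizer ({e} : Set P)) := by
    have := fidx_le_index_mul hP (Subgroup.centralizer ({e} : Set P))
    rwa [hidx] at this
  -- the action of `e`
  have hee : ∀ v, φ e (φ e v) = v := by
    intro v
    have : φ e * φ e = 1 := by rw [← map_mul, he2, map_one]
    have := congrArg (fun f : MulAut V => f v) this
    simpa only [MulAut.mul_apply, MulAut.one_apply] using this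
  have hsplit := card_fixSub_mul_card_invSub hodd (φ e) hee
  have hrel : ∀ v : V, φ e (φ g₀ v) = φ g₀ (φ e v⁻¹) := by
    intro v
    have : φ e * φ g₀ = φ g₀ * φ e * φ z := by rw [← map_mul, ← map_mul, ← map_mul, hg₀']
    have := congrArg (fun f : MulAut V => f v) this
    simp only [MulAut.mul_apply] at this
    rw [this, hzinv]
  have hle1 : Nat.card (fixSub (φ e)) ≤ Nat.card (invSub (φ e)) := by
    refine Nat.card_le_card_of_injective
      (fun u : fixSub (φ e) => (⟨φ g₀ u, ?_⟩ : invSub (φ e))) ?_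
    · show φ e (φ g₀ u) = (φ g₀ u)⁻¹
      rw [hrel, map_inv, mem_fixSub.mp u.2, map_inv]
    · intro a b hab
      exact Subtype.ext ((φ g₀).injective (congrArg Subtype.val hab))
  have hle2 : Nat.card (invSub (φ e)) ≤ Nat.card (fixSub (φ e)) := by
    refine Nat.card_le_card_of_injective
      (fun u : invSub (φ e) => (⟨φ g₀ u, ?_⟩ : fixSub (φ e))) ?_
    · show φ e (φ g₀ u) = φ g₀ u
      rw [hrel, map_inv, mem_invSub.mp u.2, inv_inv]
    · intro a b hab
      exact Subtype.ext ((φ g₀).injective (congrArg Subtype.val hab))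
  have heq : Nat.card (invSub (φ e)) = Nat.card (fixSub (φ e)) := le_antisymm hle2 hle1
  obtain ⟨a, -, ha⟩ := exists_card_subgroup_eq q n hq.out hcard (fixSub (φ e))
  have hn2 : n = a + a := by
    rw [heq, ha, hcard, ← pow_add] at hsplit
    exact (Nat.pow_right_injective hq.out.two_le hsplit).symm
  -- `n ≥ 1`
  have hn0 : 0 < n := by
    rcases Nat.eq_zero_or_pos n with h0 | h0
    · exfalso
      rw [h0, pow_zero] at hcard
      have hsub : Subsingleton V := (Nat.card_eq_one_iff_unique.mp hcard).1
      apply hz1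
      apply hinj
      ext v
      exact Subsingleton.elim _ _
    · exact h0
  have ha0 : 0 < a := by omega
  have han : a < n := by omega
  -- the action of the centralizer
  have hinvM : ∀ x : Subgroup.centralizer ({e} : Set P), ∀ v ∈ fixSub (φ e),
      (φ.comp (Subgroup.centralizer ({e} : Set P)).subtype) x v ∈ fixSub (φ e) := by
    intro x v hv
    refine fixSub_invariant (φ e) (φ x) ?_ v hv
    rw [← map_mul, ← map_mul, ((hmemM x).mp x.2)]
  have hinjM : Function.Injective (φ.comp (Subgroup.centralizer ({e} : Set P)).subtype) :=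
    hinj.comp Subtype.val_injective
  have hPM : IsPGroup 2 (Subgroup.centralizer ({e} : Set P)) := hP.to_subgroup _
  have hfM := step_reducible q hq2 n IH V (Subgroup.centralizer ({e} : Set P))
    (φ.comp (Subgroup.centralizer ({e} : Set P)).subtype) hexp hcard hinjM hPM (fixSub (φ e))
    hinvM a ha ha0 han
  have hna : n - a = a := by omega
  rw [hna] at hfM
  by_cases hsp : q = 3 ∧ a = 1
  · -- the special case `|V| = 9`
    obtain ⟨rfl, rfl⟩ := hsp
    have hn : n = 2 := by omega
    subst hn
    rw [bnd_three_two]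
    have hc1 : Nat.card (fixSub (φ e)) = 3 := by rw [ha]; norm_num
    have hc2 : Nat.card (V ⧸ fixSub (φ e)) = 3 := by
      have := Subgroup.card_eq_card_quotient_mul_card_subgroup (fixSub (φ e))
      rw [hcard, hc1] at this
      omega
    have hM4 := card_le_of_invariant hodd hPM
      (φ.comp (Subgroup.centralizer ({e} : Set P)).subtype) hinjM (fixSub (φ e)) hinvM
    rw [card_mulAut_of_card_three hc1, card_mulAut_of_card_three hc2] at hM4
    have hP8 : Nat.card P ≤ 8 := by
      rw [← Subgroup.index_mul_card (Subgroup.centralizer ({e} : Set P)), hidx]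
      omega
    have hncP : ¬ ∀ x y : P, x * y = y * x := fun h => hg₀ (h g₀ e)
    have := two_mul_fidx_le_card_of_not_comm hP hncP
    norm_num
    omega
  · have hb := bnd_double q a ha0 hsp
    rw [hn2]
    calc fidx P ≤ 2 * fidx (Subgroup.centralizer ({e} : Set P)) := hfP
      _ ≤ 2 * 2 ^ (bnd q a + bnd q a) := Nat.mul_le_mul_left 2 hfM
      _ = 2 ^ (1 + (bnd q a + bnd q a)) := by rw [pow_add 2 1, pow_one]
      _ ≤ 2 ^ bnd q (a + a) := Nat.pow_le_pow_right (by norm_num) hb

end Cfsg.Agent.Helper62.TwoRank
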