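import Mathlib
import Cfsg.Agent.Lib.Helper62.TwoRankB
import Cfsg.Agent.Lib.Helper62.TwoRankE
import Cfsg.Agent.Lib.Helper53.UniqueInvol1
import Cfsg.Agent.Lib.Helper53.UniqueInvol2
import Cfsg.Agent.Lib.Helper3.MaxNormalAbelian

set_option autoImplicit false

/-!
# The rank bound for `2`-groups acting faithfully on elementary abelian groups of odd order
-/

namespace Cfsg.Agent.Helper62.TwoRank

open Subgroup

universe u w

theorem mem_zpowers_invol {P : Type*} [Group P] {z y : P} (hz : z * z = 1)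
    (hy : y ∈ Subgroup.zpowers z) : y = 1 ∨ y = z := by
  obtain ⟨k, rfl⟩ := Subgroup.mem_zpowers_iff.mp hy
  have hz2 : z ^ (2 : ℤ) = 1 := by
    rw [zpow_ofNat, pow_two]; exact hz
  obtain ⟨c, rfl | rfl⟩ := Int.even_or_odd' k
  · left
    rw [zpow_mul, hz2, one_zpow]
  · right
    rw [zpow_add, zpow_mul, hz2, one_zpow, one_mul, zpow_one]

/-- A `2`-group with a noncyclic normal abelian subgroup has a normal four-group; we record the
two generators. -/
theorem exists_fourgroup {P : Type w} [Group P] [Finite P] (hP : IsPGroup 2 P) (A : Subgroup P)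
    (hAn : A.Normal) (hAc : ∀ x ∈ A, ∀ y ∈ A, x * y = y * x) (hAnc : ¬ IsCyclic A) :
    ∃ z e : P, z ∈ Subgroup.center P ∧ z ≠ 1 ∧ z * z = 1 ∧ e * e = 1 ∧ e ≠ 1 ∧ e ≠ z ∧
      ∀ g : P, g⁻¹ * e * g = e ∨ g⁻¹ * e * g = e * z := by
  have h2p : Fact (Nat.Prime 2) := ⟨Nat.prime_two⟩
  -- two distinct involutions in `A`
  have hex : ∃ x y : A, orderOf x = 2 ∧ orderOf y = 2 ∧ x ≠ y := by
    by_contra hno
    push Not at hno
    apply hAnc
    apply Cfsg.Agent.Helper53.isCyclic_of_comm_of_unique_invol (hP.to_subgroup A)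
    · intro x y
      exact Subtype.ext (hAc x x.2 y y.2)
    · intro x y hx hy
      exact hno x y hx hy
  obtain ⟨x, y, hx, hy, hxy⟩ := hex
  -- the involutions of `A`
  let Ω : Subgroup P :=
    { carrier := {a | a ∈ A ∧ a * a = 1}
      mul_mem' := by
        rintro a b ⟨ha, ha2⟩ ⟨hb, hb2⟩
        refine ⟨A.mul_mem ha hb, ?_⟩
        calc a * b * (a * b) = a * (b * a) * b := by group
          _ = a * (a * b) * b := by rw [hAc b hb a ha]
          _ = (a * a) * (b * b) := by group
          _ = 1 := by rw [ha2, hb2, one_mul]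
      one_mem' := ⟨A.one_mem, one_mul 1⟩
      inv_mem' := by
        rintro a ⟨ha, ha2⟩
        refine ⟨A.inv_mem ha, ?_⟩
        rw [← mul_inv_rev, ha2, inv_one] }
  have hmemΩ : ∀ a : P, a ∈ Ω ↔ a ∈ A ∧ a * a = 1 := fun a => Iff.rfl
  have hΩn : Ω.Normal := by
    refine ⟨fun a ha g => ?_⟩
    rw [hmemΩ] at ha ⊢
    refine ⟨hAn.conj_mem a ha.1 g, ?_⟩
    calc g * a * g⁻¹ * (g * a * g⁻¹) = g * (a * a) * g⁻¹ := by group
      _ = 1 := by rw [ha.2]; group
  have hxΩ : (x : P) ∈ Ω := by
    rw [hmemΩ]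
    refine ⟨x.2, ?_⟩
    have : x ^ 2 = 1 := by rw [← hx]; exact pow_orderOf_eq_one x
    have := congrArg Subtype.val this
    simpa [pow_two] using this
  have hyΩ : (y : P) ∈ Ω := by
    rw [hmemΩ]
    refine ⟨y.2, ?_⟩
    have : y ^ 2 = 1 := by rw [← hy]; exact pow_orderOf_eq_one y
    have := congrArg Subtype.val this
    simpa [pow_two] using this
  have hx1 : (x : P) ≠ 1 := by
    intro h
    have : x = 1 := Subtype.ext h
    rw [this, orderOf_one] at hx
    omega
  have hy1 : (y : P) ≠ 1 := by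
    intro h
    have : y = 1 := Subtype.ext h
    rw [this, orderOf_one] at hy
    omega
  have hΩne : Ω ≠ ⊥ := by
    intro h
    rw [h, Subgroup.mem_bot] at hxΩ
    exact hx1 hxΩ
  obtain ⟨z, hzΩ, hz1, hzc⟩ := Cfsg.Agent.Helper53.exists_ne_one_mem_center_of_normal' hP Ω hΩne
  have hz2 : z * z = 1 := ((hmemΩ z).mp hzΩ).2
  have hZn : (Subgroup.zpowers z).Normal := by
    refine ⟨fun a ha g => ?_⟩
    have hac : a ∈ Subgroup.center P := (Subgroup.zpowers_le.mpr hzc) ha
    have : g * a * g⁻¹ = a := by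
      rw [Subgroup.mem_center_iff.mp hac g]; group
    rw [this]; exact ha
  have hZΩ : Subgroup.zpowers z ≤ Ω := Subgroup.zpowers_le.mpr hzΩ
  have hZne : Subgroup.zpowers z ≠ Ω := by
    intro h
    rw [← h] at hxΩ hyΩ
    rcases mem_zpowers_invol hz2 hxΩ with h1 | h1
    · exact hx1 h1
    rcases mem_zpowers_invol hz2 hyΩ with h2 | h2
    · exact hy1 h2
    exact hxy (Subtype.ext (h1.trans h2.symm))
  obtain ⟨B, hBn, hZB, hBΩ, hBcard, hBc⟩ :=
    Cfsg.Agent.Helper3.exists_central_step hP (Subgroup.zpowers z) Ω hZΩ hZne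
  have hZltB : Subgroup.zpowers z < B := by
    refine lt_of_le_of_ne hZB ?_
    intro h
    rw [← h] at hBcard
    have : 0 < Nat.card (Subgroup.zpowers z) := Nat.card_pos
    omega
  obtain ⟨e, heB, heZ⟩ := SetLike.exists_of_lt hZltB
  have heΩ := hBΩ heB
  refine ⟨z, e, hzc, hz1, hz2, ((hmemΩ e).mp heΩ).2, ?_, ?_, ?_⟩
  · intro h
    apply heZ
    rw [h]; exact Subgroup.one_mem _
  · intro h
    apply heZ
    rw [h]; exact Subgroup.mem_zpowers z
  · intro g
    have h := hBc g⁻¹ e heB
    rw [inv_inv] at h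
    rcases mem_zpowers_invol hz2 h with h1 | h1
    · left
      rw [mul_inv_eq_one] at h1
      exact h1
    · right
      rw [mul_inv_eq_iff_eq_mul] at h1
      rw [h1, Subgroup.mem_center_iff.mp hzc e]

/-- A `2`-group all of whose normal abelian subgroups are cyclic. -/
theorem step_cyclic {P : Type w} [Group P] [Finite P] (hP : IsPGroup 2 P)
    (hcyc : ∀ A : Subgroup P, A.Normal → (∀ x ∈ A, ∀ y ∈ A, x * y = y * x) → IsCyclic A) :
    ∃ (A : Subgroup P) (k : ℕ), A.Normal ∧ IsCyclic A ∧ Nat.card A = 2 ^ k ∧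
      A.index ≤ Nat.totient (2 ^ k) ∧ fidx P ≤ 8 := by
  have h2p : Fact (Nat.Prime 2) := ⟨Nat.prime_two⟩
  obtain ⟨A, hAn, hAc, hCA⟩ := Cfsg.Agent.Helper53.exists_normal_abelian_self_centralizing hP
  have hAcyc : IsCyclic A := hcyc A hAn hAc
  obtain ⟨k, hk⟩ := IsPGroup.iff_card.mp (hP.to_subgroup A)
  have hker : A ≤ (MulAut.conjNormal (H := A)).ker := by
    intro x hx
    rw [MonoidHom.mem_ker]
    ext a
    rw [MulAut.conjNormal_apply, MulAut.one_apply]
    rw [hAc x hx a a.2]; group
  have hinj : Function.Injective (QuotientGroup.lift A (MulAut.conjNormal (H := A)) hker) := by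
    rw [injective_iff_map_eq_one]
    intro a
    induction a using QuotientGroup.induction_on with | _ x => ?_
    intro h
    rw [QuotientGroup.lift_mk] at h
    rw [QuotientGroup.eq_one_iff]
    apply hCA
    rw [Subgroup.mem_centralizer_iff]
    intro a ha
    have := congrArg (fun f : MulAut A => ((f ⟨a, ha⟩ : A) : P)) h
    simp only [MulAut.conjNormal_apply, MulAut.one_apply] at this
    -- this : x * a * x⁻¹ = a
    calc a * x = (x * a * x⁻¹) * x := by rw [this]
      _ = x * a := by group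
  have h4 : fidx (P ⧸ A) ≤ 4 :=
    fidx_le_four_of_injective_mulAut k hk _ hinj (hP.to_quotient A)
  have h2 : fidx A ≤ 2 := fidx_le_of_isCyclic (hP.to_subgroup A)
  refine ⟨A, k, hAn, hAcyc, hk, ?_, ?_⟩
  · rw [Subgroup.index_eq_card, ← hk, ← IsCyclic.card_mulAut A]
    exact Nat.card_le_card_of_injective _ hinj
  · calc fidx P ≤ fidx (P ⧸ A) * fidx A := fidx_le_quotient_mul hP A
      _ ≤ 4 * 2 := Nat.mul_le_mul h4 h2
      _ = 8 := by norm_num

/-- A `2`-group acting faithfully on an elementary abelian group of order `9` has order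
at most `16`. -/
theorem card_le_sixteen {V : Type u} [CommGroup V] [Finite V] {P : Type w} [Group P] [Finite P]
    (φ : P →* MulAut V) (hcard : Nat.card V = 9) (hexp : ∀ v : V, v ^ 3 = 1)
    (hinj : Function.Injective φ) (hP : IsPGroup 2 P) : Nat.card P ≤ 16 := by
  have h3p : Fact (Nat.Prime 3) := ⟨Nat.prime_three⟩
  have hodd : Odd (Nat.card V) := by rw [hcard]; decide
  have hnt : Nontrivial V := by
    rw [← Finite.one_lt_card_iff_nontrivial, hcard]; norm_num
  obtain ⟨v, hv⟩ := exists_ne (1 : V)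
  let _ : MulAction P V := MulAction.compHom V φ
  have hsmul : ∀ (x : P) (w : V), x • w = φ x w := fun x w => rfl
  -- orbit bound
  have horb : (MulAction.orbit P v).ncard ≤ 8 := by
    have hsub : MulAction.orbit P v ⊆ ({1} : Set V)ᶜ := by
      rintro _ ⟨x, rfl⟩
      show x • v ≠ 1
      rw [hsmul]
      intro h
      apply hv
      exact (φ x).injective (h.trans (map_one (φ x)).symm)
    have := Set.ncard_le_ncard hsub (Set.toFinite _)
    rw [Set.ncard_compl, Set.ncard_singleton, hcard] at this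
    exact this
  -- stabilizer bound
  have hordv : orderOf v = 3 := orderOf_eq_prime (hexp v) hv
  have hV1 : Nat.card (Subgroup.zpowers v) = 3 := by rw [Nat.card_zpowers, hordv]
  have hinvS : ∀ x : MulAction.stabilizer P v, ∀ w ∈ Subgroup.zpowers v,
      (φ.comp (MulAction.stabilizer P v).subtype) x w ∈ Subgroup.zpowers v := by
    intro x w hw
    obtain ⟨k, rfl⟩ := Subgroup.mem_zpowers_iff.mp hw
    have hxv : φ x v = v := MulAction.mem_stabilizer_iff.mp x.2
    show φ x (v ^ k) ∈ Subgroup.zpowers v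
    rw [map_zpow, hxv]
    exact Subgroup.zpow_mem_zpowers v k
  have hPS : IsPGroup 2 (MulAction.stabilizer P v) := hP.to_subgroup _
  have hinjS : Function.Injective (φ.comp (MulAction.stabilizer P v).subtype) :=
    hinj.comp Subtype.val_injective
  have hKtop : (resHom (φ.comp (MulAction.stabilizer P v).subtype) (Subgroup.zpowers v) hinvS).ker
      = ⊤ := by
    rw [eq_top_iff]
    intro x _
    rw [MonoidHom.mem_ker]
    ext ⟨w, hw⟩
    obtain ⟨k, rfl⟩ := Subgroup.mem_zpowers_iff.mp hw
    have hxv : φ x v = v := MulAction.mem_stabilizer_iff.mp x.2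
    show φ x (v ^ k) = v ^ k
    rw [map_zpow, hxv]
  have hquo : Nat.card (V ⧸ Subgroup.zpowers v) = 3 := by
    have := Subgroup.card_eq_card_quotient_mul_card_subgroup (Subgroup.zpowers v)
    rw [hcard, hV1] at this
    omega
  have hS2 : Nat.card (MulAction.stabilizer P v) ≤ 2 := by
    have h1 := Nat.card_le_card_of_injective _
      (quoHom_injective_on_ker hodd hPS (φ.comp (MulAction.stabilizer P v).subtype) hinjS
        (Subgroup.zpowers v) hinvS)
    rw [card_mulAut_of_card_three hquo, hKtop, Subgroup.card_top] at h1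
    exact h1
  have hidx : (MulAction.stabilizer P v).index ≤ 8 := by
    rw [MulAction.index_stabilizer]; exact horb
  rw [← Subgroup.index_mul_card (MulAction.stabilizer P v)]
  calc (MulAction.stabilizer P v).index * Nat.card (MulAction.stabilizer P v) ≤ 8 * 2 :=
        Nat.mul_le_mul hidx hS2
    _ = 16 := by norm_num

/-- **Main bound**: a `2`-group acting faithfully on an elementary abelian `q`-group of order
`q ^ n` (`q` odd) has Frattini index at most `2 ^ bnd q n`. -/
theorem boundAt_all (q : ℕ) [hq : Fact q.Prime] (hq2 : q ≠ 2) (n : ℕ) : BoundAt.{u, w} q n := by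
  induction n using Nat.strong_induction_on with
  | _ n IH =>
  intro V _ _ P _ _ φ hexp hcard hinj hP
  have h2p : Fact (Nat.Prime 2) := ⟨Nat.prime_two⟩
  have hodd := odd_card_of_card_eq q n hq.out hq2 hcard
  rcases Nat.eq_zero_or_pos n with hn0 | hn0
  · subst hn0
    rw [pow_zero] at hcard
    have hsubV : Subsingleton V := (Nat.card_eq_one_iff_unique.mp hcard).1
    have hsubP : Subsingleton P :=
      ⟨fun a b => hinj (by ext v; exact Subsingleton.elim _ _)⟩
    have h1 : fidx P ≤ Nat.card P := fidx_le_card P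
    have h2 : Nat.card P ≤ 1 := Finite.card_le_one_iff_subsingleton.mpr hsubP
    have h3 : 0 < 2 ^ bnd q 0 := by positivity
    omega
  by_cases hirr : ∀ V₁ : Subgroup V, (∀ x : P, ∀ v ∈ V₁, φ x v ∈ V₁) → V₁ = ⊥ ∨ V₁ = ⊤
  swap
  · push Not at hirr
    obtain ⟨V₁, hinv, hb, ht⟩ := hirr
    obtain ⟨a, han, ha⟩ := exists_card_subgroup_eq q n hq.out hcard V₁
    have ha0 : 0 < a := by
      rcases Nat.eq_zero_or_pos a with h | h
      · exfalso
        apply hb
        rw [h, pow_zero] at ha
        exact Subgroup.card_eq_one.mp ha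
      · exact h
    have han' : a < n := by
      rcases Nat.lt_or_ge a n with h | h
      · exact h
      · exfalso
        apply ht
        have : a = n := le_antisymm han h
        rw [this, ← hcard] at ha
        exact (Subgroup.card_eq_iff_eq_top _).mp ha
    have h1 := step_reducible q hq2 n IH V P φ hexp hcard hinj hP V₁ hinv a ha ha0 han'
    refine h1.trans (Nat.pow_le_pow_right (by norm_num) ?_)
    have h2 := bnd_add_le q a (n - a) ha0 (by omega)
    rwa [show a + (n - a) = n by omega] at h2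
  by_cases hcyc : ∀ A : Subgroup P, A.Normal → (∀ x ∈ A, ∀ y ∈ A, x * y = y * x) → IsCyclic A
  · obtain ⟨A, k, hAn, hAcyc, hAk, hidx, h8⟩ := step_cyclic hP hcyc
    rcases Nat.lt_or_ge n 2 with hn1 | hn2
    · have hn : n = 1 := by omega
      subst hn
      rw [bnd_one, pow_one]
      have hVc : IsCyclic V := isCyclic_of_prime_card (p := q) (by rw [hcard, pow_one])
      have hPc : ∀ x y : P, x * y = y * x := fun x y =>
        hinj (by rw [map_mul, map_mul, mulAut_comm_of_cyclic])
      have hPcyc : IsCyclic P := by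
        have h := hcyc ⊤ inferInstance (fun x _ y _ => hPc x y)
        exact isCyclic_of_surjective (Subgroup.topEquiv : (⊤ : Subgroup P) ≃* P)
          Subgroup.topEquiv.surjective
      exact fidx_le_of_isCyclic hP
    by_cases hsp : q = 3 ∧ n = 2
    · obtain ⟨rfl, rfl⟩ := hsp
      rw [bnd_three_two]
      have hP16 : Nat.card P ≤ 16 :=
        card_le_sixteen φ (by rw [hcard]; norm_num) hexp hinj hP
      have hidx2 : A.index ≤ 2 := by
        rcases Nat.lt_or_ge k 3 with hk | hk
        · refine hidx.trans ?_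
          interval_cases k <;> decide
        · have h1 : A.index * Nat.card A = Nat.card P := Subgroup.index_mul_card A
          rw [hAk] at h1
          have h2 : 2 ^ 3 ≤ 2 ^ k := Nat.pow_le_pow_right (by norm_num) hk
          by_contra hcon
          push Not at hcon
          have : 3 * 2 ^ 3 ≤ A.index * 2 ^ k := Nat.mul_le_mul hcon h2
          omega
      have h1 := fidx_le_index_mul hP A
      have hA2 : fidx A ≤ 2 := fidx_le_of_isCyclic (hP.to_subgroup A)
      calc fidx P ≤ A.index * fidx A := h1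
        _ ≤ 2 * 2 := Nat.mul_le_mul hidx2 hA2
        _ = 2 ^ 2 := by norm_num
    · have h3 := three_le_bnd q n hn2 hsp
      calc fidx P ≤ 8 := h8
        _ = 2 ^ 3 := by norm_num
        _ ≤ 2 ^ bnd q n := Nat.pow_le_pow_right (by norm_num) h3
  · push Not at hcyc
    obtain ⟨A, hAn, hAc, hAnc⟩ := hcyc
    obtain ⟨z, e, hz, hz1, hz2, he2, he1, hez, hconj⟩ := exists_fourgroup hP A hAn hAc hAnc
    exact step_fourgroup q hq2 n IH V P φ hexp hcard hinj hP hirr z e hz hz1 hz2 he2 he1 hez hconj

end Cfsg.Agent.Helper62.TwoRank
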