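import Mathlib
import Cfsg.Agent.Lib.Helper98.WR0

/-!
# WR (W6) core for helper98's server (S2347): an intertwiner of the Weyl operators commutes with the
reflection `rOp`.  The pieces W2, W4, W4b, W5, W6a enter as hypotheses.
-/

set_option autoImplicit false

namespace Cfsg.Agent.Helper62.WR

open Matrix Cfsg.Agent.Helper98.SPE Cfsg.Agent.Helper98.WR

/-- algebraic heart: `R A R = μ A` with `μ² = 1`. -/
theorem h62_RAR {F : Type*} [Field F] {n : ℕ}
    (R A Ai : Module.End ℂ ((Fin n → F) → ℂ))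
    (W : (Fin n ⊕ Fin n → F) → Module.End ℂ ((Fin n → F) → ℂ))
    (g gi : Matrix (Fin n ⊕ Fin n) (Fin n ⊕ Fin n) F) (hggi : g * gi = 1)
    (hAAi : A * Ai = 1) (hAiA : Ai * A = 1)
    (heg : ∀ v, A * W v = W (g *ᵥ v) * A)
    (hW2 : ∀ B : Module.End ℂ ((Fin n → F) → ℂ), (∀ v, B * W v = W v * B) →
      ∃ c : ℂ, B = c • (1 : Module.End ℂ ((Fin n → F) → ℂ)))
    (hW4 : ∀ v, R * W v = W (-v) * R) (hW4b : R * R = 1) :
    ∃ μ : ℂ, μ * μ = 1 ∧ R * A * R = μ • A := by
  have hC : ∀ v, (R * A * R) * W v = W (g *ᵥ v) * (R * A * R) := by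
    intro v
    calc (R * A * R) * W v = R * A * (R * W v) := by simp only [mul_assoc]
      _ = R * A * (W (-v) * R) := by rw [hW4]
      _ = R * (A * W (-v)) * R := by simp only [mul_assoc]
      _ = R * (W (g *ᵥ (-v)) * A) * R := by rw [heg]
      _ = (R * W (-(g *ᵥ v))) * A * R := by rw [Matrix.mulVec_neg]; simp only [mul_assoc]
      _ = (W (g *ᵥ v) * R) * A * R := by rw [hW4, neg_neg]
      _ = W (g *ᵥ v) * (R * A * R) := by simp only [mul_assoc]
  have hAi : ∀ v, Ai * W (g *ᵥ v) = W v * Ai := by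
    intro v
    calc Ai * W (g *ᵥ v) = Ai * (W (g *ᵥ v) * A) * Ai := by
          rw [mul_assoc, mul_assoc, hAAi, mul_one]
      _ = Ai * (A * W v) * Ai := by rw [heg]
      _ = W v * Ai := by rw [← mul_assoc Ai A, hAiA, one_mul]
  have hB : ∀ v', (R * A * R * Ai) * W v' = W v' * (R * A * R * Ai) := by
    intro v'
    obtain ⟨v, rfl⟩ : ∃ v, v' = g *ᵥ v :=
      ⟨gi *ᵥ v', by rw [Matrix.mulVec_mulVec, hggi, Matrix.one_mulVec]⟩
    calc (R * A * R * Ai) * W (g *ᵥ v) = (R * A * R) * (Ai * W (g *ᵥ v)) := by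
          simp only [mul_assoc]
      _ = (R * A * R) * (W v * Ai) := by rw [hAi]
      _ = ((R * A * R) * W v) * Ai := by simp only [mul_assoc]
      _ = (W (g *ᵥ v) * (R * A * R)) * Ai := by rw [hC]
      _ = W (g *ᵥ v) * (R * A * R * Ai) := by simp only [mul_assoc]
  obtain ⟨μ, hμ⟩ := hW2 _ hB
  have hRAR : R * A * R = μ • A := by
    calc R * A * R = (R * A * R * Ai) * A := by rw [mul_assoc (R * A * R), hAiA, mul_one]
      _ = (μ • (1 : Module.End ℂ ((Fin n → F) → ℂ))) * A := by rw [hμ]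
      _ = μ • A := by rw [smul_mul_assoc, one_mul]
  refine ⟨μ, ?_, hRAR⟩
  have h0 : R * (R * A * R) * R = A := by
    have h : R * (R * A * R) * R = (R * R) * A * (R * R) := by simp only [mul_assoc]
    rw [h, hW4b, one_mul, mul_one]
  have h1 : R * (R * A * R) * R = (μ * μ) • A := by
    rw [hRAR, mul_smul_comm, smul_mul_assoc, hRAR, smul_smul]
  have h2 : A = (μ * μ) • A := h0.symm.trans h1
  have h3 : (1 : Module.End ℂ ((Fin n → F) → ℂ)) =
      (μ * μ) • (1 : Module.End ℂ ((Fin n → F) → ℂ)) := by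
    calc (1 : Module.End ℂ ((Fin n → F) → ℂ)) = A * Ai := hAAi.symm
      _ = ((μ * μ) • A) * Ai := congrArg (· * Ai) h2
      _ = (μ * μ) • 1 := by rw [smul_mul_assoc, hAAi]
  have h4 := congrFun (LinearMap.congr_fun h3 (fun _ => (1 : ℂ))) (0 : Fin n → F)
  simp only [Module.End.one_apply, LinearMap.smul_apply, Pi.smul_apply, smul_eq_mul,
    mul_one] at h4
  exact h4.symm

/-- (W6) with the pieces W2, W4, W4b, W5, W6a as hypotheses. -/
theorem h62_comm_rOp_core {F : Type*} [Field F] [Fintype F] {n : ℕ} (ψ : AddChar F ℂ)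
    (hW2 : ∀ B : Module.End ℂ ((Fin n → F) → ℂ),
      (∀ v : Fin n ⊕ Fin n → F, B * wOp ψ v = wOp ψ v * B) →
      ∃ c : ℂ, B = c • (1 : Module.End ℂ ((Fin n → F) → ℂ)))
    (hW4 : ∀ v : Fin n ⊕ Fin n → F, rOp F n * wOp ψ v = wOp ψ (-v) * rOp F n)
    (hW4b : rOp F n * rOp F n = 1)
    (hW5 : 2 * Module.finrank ℂ ↥(oddSub F n) + 1 = Fintype.card F ^ n)
    (hW6a : IsCompl (evenSub F n) (oddSub F n))
    (e : ↥(Matrix.symplecticGroup (Fin n) F) × (Module.End ℂ ((Fin n → F) → ℂ))ˣ)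
    (he : e ∈ EGrp ψ n) :
    ((e.2 : (Module.End ℂ ((Fin n → F) → ℂ))ˣ) : Module.End ℂ ((Fin n → F) → ℂ)) * rOp F n =
      rOp F n * ((e.2 : (Module.End ℂ ((Fin n → F) → ℂ))ˣ) : Module.End ℂ ((Fin n → F) → ℂ)) := by
  classical
  have hAAi : ((e.2 : (Module.End ℂ ((Fin n → F) → ℂ))ˣ) : Module.End ℂ ((Fin n → F) → ℂ)) *
      ((e.2⁻¹ : (Module.End ℂ ((Fin n → F) → ℂ))ˣ) : Module.End ℂ ((Fin n → F) → ℂ)) = 1 := by
    rw [← Units.val_mul, mul_inv_cancel, Units.val_one]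
  have hAiA : ((e.2⁻¹ : (Module.End ℂ ((Fin n → F) → ℂ))ˣ) : Module.End ℂ ((Fin n → F) → ℂ)) *
      ((e.2 : (Module.End ℂ ((Fin n → F) → ℂ))ˣ) : Module.End ℂ ((Fin n → F) → ℂ)) = 1 := by
    rw [← Units.val_mul, inv_mul_cancel, Units.val_one]
  have hggi : (e.1 : Matrix (Fin n ⊕ Fin n) (Fin n ⊕ Fin n) F) *
      ((e.1⁻¹ : ↥(Matrix.symplecticGroup (Fin n) F)) :
        Matrix (Fin n ⊕ Fin n) (Fin n ⊕ Fin n) F) = 1 := by
    have h3 : (e.1 * e.1⁻¹ : ↥(Matrix.symplecticGroup (Fin n) F)) = 1 := mul_inv_cancel e.1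
    exact congrArg Subtype.val h3
  obtain ⟨μ, hμ2, hRAR⟩ := h62_RAR (rOp F n)
    ((e.2 : (Module.End ℂ ((Fin n → F) → ℂ))ˣ) : Module.End ℂ ((Fin n → F) → ℂ))
    ((e.2⁻¹ : (Module.End ℂ ((Fin n → F) → ℂ))ˣ) : Module.End ℂ ((Fin n → F) → ℂ))
    (wOp ψ) (e.1 : Matrix (Fin n ⊕ Fin n) (Fin n ⊕ Fin n) F)
    ((e.1⁻¹ : ↥(Matrix.symplecticGroup (Fin n) F)) :
      Matrix (Fin n ⊕ Fin n) (Fin n ⊕ Fin n) F) hggi hAAi hAiA ((mem_EGrp ψ n e).mp he)
    hW2 hW4 hW4b
  generalize hA : ((e.2 : (Module.End ℂ ((Fin n → F) → ℂ))ˣ) :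
    Module.End ℂ ((Fin n → F) → ℂ)) = A at *
  generalize hAi : ((e.2⁻¹ : (Module.End ℂ ((Fin n → F) → ℂ))ˣ) :
    Module.End ℂ ((Fin n → F) → ℂ)) = Ai at *
  rcases mul_self_eq_one_iff.mp hμ2 with hμ1 | hμ1
  · rw [hμ1, one_smul] at hRAR
    calc A * rOp F n = (rOp F n * rOp F n) * A * rOp F n := by rw [hW4b, one_mul]
      _ = rOp F n * (rOp F n * A * rOp F n) := by simp only [mul_assoc]
      _ = rOp F n * A := by rw [hRAR]
  · exfalso
    rw [hμ1] at hRAR
    have hRA : rOp F n * A = -(A * rOp F n) := by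
      calc rOp F n * A = (rOp F n * A * rOp F n) * rOp F n := by
            rw [mul_assoc (rOp F n * A), hW4b, mul_one]
        _ = ((-1 : ℂ) • A) * rOp F n := by rw [hRAR]
        _ = -(A * rOp F n) := by
          rw [smul_mul_assoc]
          exact neg_one_smul ℂ (A * rOp F n)
    have hleft : ∀ f, Ai (A f) = f := fun f => by
      have h := LinearMap.congr_fun hAiA f
      simpa using h
    have hinj : Function.Injective A := fun f f' hff' => by
      have h := congrArg Ai hff'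
      rwa [hleft, hleft] at h
    have hkey : ∀ (f : (Fin n → F) → ℂ) (x : Fin n → F),
        (A f) (-x) = -(A (rOp F n f)) x := by
      intro f x
      have h := congrFun (LinearMap.congr_fun hRA f) x
      simpa [rOp_apply] using h
    have heo : (evenSub F n).map A ≤ oddSub F n := by
      rintro _ ⟨f, hf, rfl⟩
      rw [mem_oddSub]
      intro x
      have hRf : rOp F n f = f := by
        funext y
        exact hf y
      rw [hkey f x, hRf]
    have hoe : (oddSub F n).map A ≤ evenSub F n := by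
      rintro _ ⟨f, hf, rfl⟩
      rw [mem_evenSub]
      intro x
      have hRf : rOp F n f = -f := by
        funext y
        exact hf y
      rw [hkey f x, hRf, map_neg]
      simp
    have h1 : Module.finrank ℂ ↥(evenSub F n) ≤ Module.finrank ℂ ↥(oddSub F n) := by
      rw [(Submodule.equivMapOfInjective A hinj (evenSub F n)).finrank_eq]
      exact Submodule.finrank_mono heo
    have h2 : Module.finrank ℂ ↥(oddSub F n) ≤ Module.finrank ℂ ↥(evenSub F n) := by
      rw [(Submodule.equivMapOfInjective A hinj (oddSub F n)).finrank_eq]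
      exact Submodule.finrank_mono hoe
    have h3 := Submodule.finrank_add_eq_of_isCompl hW6a
    have h4 : Module.finrank ℂ ((Fin n → F) → ℂ) = Fintype.card F ^ n := by
      rw [Module.finrank_fintype_fun_eq_card, Fintype.card_fun, Fintype.card_fin]
    omega

end Cfsg.Agent.Helper62.WR
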