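import Mathlib
import Cfsg.Agent.Lib.Helper98.WR0
import Cfsg.Agent.Lib.Helper62.WRW6Core
import Cfsg.Agent.Lib.Helper34.WRW2
import Cfsg.Agent.Lib.Helper25.WRW5

/-!
# WR (W6) for helper98's server (S2347): every intertwiner in `EGrp ψ n` commutes with `rOp`.
Own copies of the easy pieces W4, W4b, W6a are included (prefixed `h62_`), W2 and W5 are imported.
-/

set_option autoImplicit false

namespace Cfsg.Agent.Helper62.WR

open Matrix Cfsg.Agent.Helper98.SPE Cfsg.Agent.Helper98.WR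

universe u v

section WEYL

variable {F : Type*} [Field F] {n : ℕ} (ψ : AddChar F ℂ)

/-- own copy of W4 -/
theorem h62_rOp_mul_wOp (v : Fin n ⊕ Fin n → F) :
    rOp F n * wOp ψ v = wOp ψ (-v) * rOp F n := by
  refine LinearMap.ext fun f => funext fun x => ?_
  show ψ ((v ∘ Sum.inl) ⬝ᵥ (-x) + (v ∘ Sum.inl) ⬝ᵥ (v ∘ Sum.inr) / 2) * f (-x + v ∘ Sum.inr) =
    ψ (((-v) ∘ Sum.inl) ⬝ᵥ x + ((-v) ∘ Sum.inl) ⬝ᵥ ((-v) ∘ Sum.inr) / 2) *
      f (-(x + (-v) ∘ Sum.inr))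
  have e1 : (-v) ∘ Sum.inl = -(v ∘ Sum.inl) := rfl
  have e2 : (-v) ∘ Sum.inr = -(v ∘ Sum.inr) := rfl
  rw [e1, e2, neg_dotProduct, neg_dotProduct, dotProduct_neg, dotProduct_neg, neg_neg, neg_add,
    neg_neg]

/-- own copy of W4b -/
theorem h62_rOp_mul_rOp : rOp F n * rOp F n = 1 := by
  refine LinearMap.ext fun f => funext fun x => ?_
  show f (- -x) = f x
  rw [neg_neg]

/-- own copy of W6a -/
theorem h62_isCompl_evenSub_oddSub (F : Type*) [Field F] (n : ℕ) :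
    IsCompl (evenSub F n) (oddSub F n) := by
  refine IsCompl.of_eq ?_ ?_
  · rw [Submodule.eq_bot_iff]
    rintro f ⟨h1, h2⟩
    funext x
    have h3 : f (-x) = f x := h1 x
    have h4 : f (-x) = -f x := h2 x
    have h5 : f x = -f x := h3.symm.trans h4
    show f x = 0
    linear_combination (1 / 2 : ℂ) * h5
  · rw [Submodule.eq_top_iff']
    intro f
    rw [Submodule.mem_sup]
    refine ⟨fun x => (f x + f (-x)) / 2, ?_, fun x => (f x - f (-x)) / 2, ?_, ?_⟩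
    · intro x
      show (f (-x) + f (- -x)) / 2 = (f x + f (-x)) / 2
      rw [neg_neg, add_comm]
    · intro x
      show (f (-x) - f (- -x)) / 2 = -((f x - f (-x)) / 2)
      rw [neg_neg]
      ring
    · funext x
      show (f x + f (-x)) / 2 + (f x - f (-x)) / 2 = f x
      ring

variable [Fintype F]

/-- piece W6 [MED-HARD] (uses W2, W4, W4b, W5, W6a). -/
theorem comm_rOp_of_mem (hψ : ψ 1 ≠ 1) (hodd : Odd (Fintype.card F))
    (e : ↥(Matrix.symplecticGroup (Fin n) F) × (Module.End ℂ ((Fin n → F) → ℂ))ˣ)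
    (he : e ∈ EGrp ψ n) :
    ((e.2 : (Module.End ℂ ((Fin n → F) → ℂ))ˣ) : Module.End ℂ ((Fin n → F) → ℂ)) * rOp F n =
      rOp F n * ((e.2 : (Module.End ℂ ((Fin n → F) → ℂ))ˣ) : Module.End ℂ ((Fin n → F) → ℂ)) :=
  h62_comm_rOp_core ψ (fun B hB => Cfsg.Agent.Helper34.WR.commutant_scalar ψ hψ B hB)
    (h62_rOp_mul_wOp ψ) h62_rOp_mul_rOp (Cfsg.Agent.Helper25.WR.finrank_oddSub hodd)
    (h62_isCompl_evenSub_oddSub F n) e he

end WEYL

end Cfsg.Agent.Helper62.WR
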