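import Mathlib

/-!
# Arithmetic for the insoluble sharply doubly transitive groups
-/

set_option autoImplicit false

namespace Cfsg.Agent.Helper62.Zass

theorem not_prime_pow_119 (p k : ℕ) (hp : p.Prime) (h : p ^ k = 119) : False := by
  have hk : k ≠ 0 := by
    rintro rfl
    simp at h
  have h7 : (7 : ℕ) ∣ p ^ k := by rw [h]; norm_num
  have h17 : (17 : ℕ) ∣ p ^ k := by rw [h]; norm_num
  have e7 : p = 7 := ((Nat.prime_dvd_prime_iff_eq (by norm_num) hp).mp
    ((by norm_num : Nat.Prime 7).dvd_of_dvd_pow h7)).symm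
  have e17 : p = 17 := ((Nat.prime_dvd_prime_iff_eq (by norm_num) hp).mp
    ((by norm_num : Nat.Prime 17).dvd_of_dvd_pow h17)).symm
  omega

theorem solve (p k m ε Q : ℕ) (hp : p.Prime) (hQ : Q = p ^ k) (hε : ε = 1 ∨ ε = 2)
    (hm : Nat.Coprime m 30) (hm0 : 0 < m) (hcard : Q ^ 2 - 1 = 120 * ε * m)
    (hdvd : 2 * m ∣ Q - 1) :
    ε = 1 ∧ ((Q = 11 ∧ m = 1) ∨ (Q = 29 ∧ m = 7) ∨ (Q = 59 ∧ m = 29)) := by
  have hQ1 : 1 ≤ Q := by rw [hQ]; exact Nat.one_le_pow _ _ hp.pos
  obtain ⟨d, hd⟩ := hdvd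
  have hQ2 : Q = 2 * m * d + 1 := by omega
  have hfac : Q ^ 2 - 1 = (Q - 1) * (Q + 1) := by
    have : Q ^ 2 = (Q - 1) * (Q + 1) + 1 := by
      obtain ⟨t, rfl⟩ : ∃ t, Q = t + 1 := ⟨Q - 1, by omega⟩
      simp only [Nat.add_sub_cancel]
      ring
    omega
  rw [hfac, hd] at hcard
  have hkey : d * (Q + 1) = 60 * ε := by
    have h1 : (2 * m) * (d * (Q + 1)) = (2 * m) * (60 * ε) := by
      calc (2 * m) * (d * (Q + 1)) = 2 * m * d * (Q + 1) := by ring
        _ = 120 * ε * m := hcard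
        _ = (2 * m) * (60 * ε) := by ring
    exact Nat.eq_of_mul_eq_mul_left (by omega) h1
  have hd0 : d ≠ 0 := by
    rintro rfl
    rcases hε with rfl | rfl <;> omega
  have hQle : Q + 1 ≤ 120 := by
    have h2 : Q + 1 ∣ 60 * ε := ⟨d, by rw [← hkey]; ring⟩
    have h3 : 60 * ε ≤ 120 := by rcases hε with rfl | rfl <;> omega
    exact le_trans (Nat.le_of_dvd (by rcases hε with rfl | rfl <;> omega) h2) h3
  have hdle : d ≤ 120 := by
    have h2 : d ∣ 60 * ε := ⟨Q + 1, hkey.symm⟩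
    have h3 : 60 * ε ≤ 120 := by rcases hε with rfl | rfl <;> omega
    exact le_trans (Nat.le_of_dvd (by rcases hε with rfl | rfl <;> omega) h2) h3
  have hmle : m ≤ 60 := by
    have : 2 * m * d ≤ 119 := by omega
    have : 2 * m * 1 ≤ 2 * m * d := Nat.mul_le_mul_left _ (by omega)
    omega
  -- finite search
  clear hfac hcard
  rcases hε with rfl | rfl
  · -- ε = 1 : d * (Q + 1) = 60
    refine ⟨rfl, ?_⟩
    have hd60 : d ≤ 60 := by
      have h2 : d ∣ 60 := ⟨Q + 1, by omega⟩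
      exact Nat.le_of_dvd (by norm_num) h2
    have hd1 : 1 ≤ d := by omega
    interval_cases d
    all_goals first
      | omega
      | (have hm3 : m = 3 := by omega
         subst hm3
         exact absurd hm (by decide))
  · -- ε = 2 : d * (Q + 1) = 120
    exfalso
    have hd1 : 1 ≤ d := by omega
    interval_cases d
    all_goals first
      | omega
      | exact not_prime_pow_119 p k hp (by omega)

end Cfsg.Agent.Helper62.Zass
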