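import Mathlib
import Cfsg.Agent.Lib.Helper62.ZassArith

/-!
# Insoluble sharply doubly transitive groups: the counting core

`H ≤ GL(V)` regular on `V ∖ 0`, containing `i, j` with `i² = j² = -1`, `ji = -ij`, and a subgroup `M`
centralising `i, j`, of order prime to `30`, with `|H| = ε · 120 · |M|`, `ε ∈ {1, 2}`.  Then `ε = 1`
and `(|V|, |M|) ∈ {(11², 1), (29², 7), (59², 29)}`.
-/

set_option autoImplicit false
set_option linter.unusedSectionVars false
set_option linter.unusedVariables false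

namespace Cfsg.Agent.Helper62.Zass

/-- a finite group acting freely on a finite set: its order divides the cardinality of the set -/
theorem card_dvd_of_free {G X : Type*} [Group G] [MulAction G X] [Finite G] [Finite X]
    (hfree : ∀ (g : G) (x : X), g • x = x → g = 1) : Nat.card G ∣ Nat.card X := by
  classical
  have : Fintype G := Fintype.ofFinite G
  have : Fintype X := Fintype.ofFinite X
  have h := MulAction.sum_card_fixedBy_eq_card_orbits_mul_card_group G X
  have h1 : ∑ g : G, Fintype.card (MulAction.fixedBy X g) = Fintype.card X := by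
    rw [Finset.sum_eq_single (1 : G)]
    · apply Fintype.card_congr
      exact Equiv.subtypeUnivEquiv (fun x => by simp)
    · intro g _ hg
      rw [Fintype.card_eq_zero_iff]
      exact ⟨fun x => hg (hfree g x.1 x.2)⟩
    · intro h0
      exact absurd (Finset.mem_univ _) h0
  rw [h1] at h
  rw [Nat.card_eq_fintype_card, Nat.card_eq_fintype_card, h]
  exact dvd_mul_left _ _

section Core

variable {p : ℕ} [hp : Fact p.Prime] {V : Type*} [AddCommGroup V] [Module (ZMod p) V] [Finite V]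

theorem exists_card_eq_pow (W : Submodule (ZMod p) V) : ∃ k, Nat.card W = p ^ k := by
  classical
  have : Fintype W := Fintype.ofFinite W
  refine ⟨Module.finrank (ZMod p) W, ?_⟩
  rw [Nat.card_eq_fintype_card, Module.card_eq_pow_finrank (K := ZMod p) (V := W), ZMod.card]

theorem fpf_of_reg (H : Subgroup (V ≃ₗ[ZMod p] V))
    (hreg : ∀ v w : V, v ≠ 0 → w ≠ 0 → ∃! h : H, (h : V ≃ₗ[ZMod p] V) v = w)
    (h : V ≃ₗ[ZMod p] V) (hh : h ∈ H) (v : V) (hv : v ≠ 0) (hfix : h v = v) : h = 1 := by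
  have := (hreg v v hv hv).unique (y₁ := ⟨h, hh⟩) (y₂ := 1) hfix rfl
  exact congrArg Subtype.val this

theorem card_add_one (H : Subgroup (V ≃ₗ[ZMod p] V))
    (hreg : ∀ v w : V, v ≠ 0 → w ≠ 0 → ∃! h : H, (h : V ≃ₗ[ZMod p] V) v = w) [Nontrivial V] :
    Nat.card H + 1 = Nat.card V := by
  classical
  obtain ⟨v₀, hv₀⟩ := exists_ne (0 : V)
  have e : H ≃ {w : V // w ≠ 0} := by
    refine Equiv.ofBijective (fun h => ⟨(h : V ≃ₗ[ZMod p] V) v₀, fun h0 =>
      hv₀ ((LinearEquiv.map_eq_zero_iff _).mp h0)⟩) ⟨?_, ?_⟩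
    · intro a b hab
      have h1 : (a : V ≃ₗ[ZMod p] V) v₀ = (b : V ≃ₗ[ZMod p] V) v₀ := congrArg Subtype.val hab
      have hne : (b : V ≃ₗ[ZMod p] V) v₀ ≠ 0 := fun h0 =>
        hv₀ ((LinearEquiv.map_eq_zero_iff _).mp h0)
      exact (hreg v₀ _ hv₀ hne).unique h1 rfl
    · rintro ⟨w, hw⟩
      obtain ⟨h, hh, -⟩ := hreg v₀ w hv₀ hw
      exact ⟨h, Subtype.ext hh⟩
  rw [Nat.card_congr e, ← Nat.card_congr (Equiv.optionSubtypeNe (0 : V)), Finite.card_option]

theorem core (H : Subgroup (V ≃ₗ[ZMod p] V))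
    (hreg : ∀ v w : V, v ≠ 0 → w ≠ 0 → ∃! h : H, (h : V ≃ₗ[ZMod p] V) v = w)
    [Nontrivial V]
    (i j : V ≃ₗ[ZMod p] V) (hi : i ∈ H) (hj : j ∈ H)
    (hii : ∀ v, i (i v) = -v) (hjj : ∀ v, j (j v) = -v) (hji : ∀ v, j (i v) = -(i (j v)))
    (M : Subgroup (V ≃ₗ[ZMod p] V)) (hMH : M ≤ H)
    (hMi : ∀ m ∈ M, ∀ v, m (i v) = i (m v)) (hMj : ∀ m ∈ M, ∀ v, m (j v) = j (m v))
    (hMcop : (Nat.card M).Coprime 30) (ε : ℕ) (hε : ε = 1 ∨ ε = 2)
    (hcard : Nat.card H = ε * (120 * Nat.card M)) :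
    ε = 1 ∧ ((Nat.card V = 121 ∧ Nat.card M = 1) ∨ (Nat.card V = 841 ∧ Nat.card M = 7) ∨
      (Nat.card V = 3481 ∧ Nat.card M = 29)) := by
  classical
  have hHV := card_add_one H hreg
  have hMfin : Finite M := Finite.of_injective (fun m : M => ((m : V ≃ₗ[ZMod p] V) : V → V))
    (fun a b h => Subtype.ext (DFunLike.coe_injective h))
  have hM0 : 0 < Nat.card M := Nat.card_pos
  -- `p` is odd
  obtain ⟨n, hn⟩ := exists_card_eq_pow (p := p) (⊤ : Submodule (ZMod p) V)
  have hVn : Nat.card V = p ^ n := by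
    rw [← hn]
    exact Nat.card_congr (Submodule.topEquiv (R := ZMod p) (M := V)).symm.toEquiv
  have hn0 : n ≠ 0 := by
    rintro rfl
    rw [pow_zero] at hVn
    have : Subsingleton V := (Nat.card_eq_one_iff_unique.mp hVn).1
    exact not_subsingleton V this
  have hpV : p ∣ Nat.card V := by rw [hVn]; exact dvd_pow_self p hn0
  have hp2 : p ≠ 2 := by
    rintro rfl
    have h2 : 2 ∣ Nat.card H := by rw [hcard]; exact ⟨ε * (60 * Nat.card M), by ring⟩
    omega
  have h2ne : (2 : ZMod p) ≠ 0 := by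
    intro h0
    have h3 : ((2 : ℕ) : ZMod p) = 0 := by exact_mod_cast h0
    rw [ZMod.natCast_eq_zero_iff] at h3
    exact hp2 ((Nat.prime_dvd_prime_iff_eq hp.out Nat.prime_two).mp h3)
  -- the involution `g`
  obtain ⟨α, β, hαβ⟩ := ZMod.sq_add_sq p (-1)
  let g : V →ₗ[ZMod p] V := α • i.toLinearMap + β • j.toLinearMap
  have hg : ∀ v, g v = α • i v + β • j v := fun v => rfl
  have hgg : ∀ v, g (g v) = v := by
    intro v
    rw [hg (g v), hg v, map_add, map_add, map_smul, map_smul, map_smul, map_smul, hii, hjj, hji]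
    have h1 : α • (α • -v + β • i (j v)) + β • (α • -(i (j v)) + β • -v) =
        (-(α ^ 2 + β ^ 2)) • v := by
      module
    rw [h1, hαβ, neg_neg, one_smul]
  have hjij : ∀ v, j (i (j v)) = i v := by
    intro v
    rw [hji, hjj, map_neg, neg_neg]
  have hkk : ∀ v, i (j (i (j v))) = -v := by
    intro v
    rw [hjij, hii]
  have hgk : ∀ v, g (i (j v)) = -(i (j (g v))) := by
    intro v
    have e1 : g (i (j v)) = α • (-(j v)) + β • i v := by rw [hg, hii, hjij]
    have e2 : i (j (g v)) = α • j v - β • i v := by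
      rw [hg, map_add, map_smul, map_smul, map_add, map_smul, map_smul, hji, hjj, map_neg,
        map_neg, hii]
      module
    rw [e1, e2]
    module
  have hMg : ∀ m ∈ M, ∀ v, m (g v) = g (m v) := by
    intro m hm v
    rw [hg, hg, map_add, map_smul, map_smul, hMi m hm, hMj m hm]
  -- the eigenspaces
  let Vp : Submodule (ZMod p) V := LinearMap.ker (g - 1)
  let Vm : Submodule (ZMod p) V := LinearMap.ker (g + 1)
  have hVp : ∀ v, v ∈ Vp ↔ g v = v := by
    intro v
    show (g - 1) v = 0 ↔ _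
    rw [LinearMap.sub_apply, Module.End.one_apply, sub_eq_zero]
  have hVm : ∀ v, v ∈ Vm ↔ g v = -v := by
    intro v
    show (g + 1) v = 0 ↔ _
    rw [LinearMap.add_apply, Module.End.one_apply, add_eq_zero_iff_eq_neg]
  -- `V ≃ Vp × Vm`
  have e1 : (Vp × Vm) ≃ V := by
    refine ⟨fun x => (x.1 : V) + (x.2 : V), fun v =>
      (⟨(2 : ZMod p)⁻¹ • (v + g v), ?_⟩, ⟨(2 : ZMod p)⁻¹ • (v - g v), ?_⟩), ?_, ?_⟩
    · rw [hVp, map_smul, map_add, hgg, add_comm]
    · rw [hVm, map_smul, map_sub, hgg, ← smul_neg, neg_sub]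
    · rintro ⟨⟨a, ha⟩, ⟨b, hb⟩⟩
      rw [hVp] at ha
      rw [hVm] at hb
      refine Prod.ext (Subtype.ext ?_) (Subtype.ext ?_)
      · show (2 : ZMod p)⁻¹ • (a + b + g (a + b)) = a
        rw [map_add, ha, hb]
        have : a + b + (a + -b) = (2 : ZMod p) • a := by module
        rw [this, smul_smul, inv_mul_cancel₀ h2ne, one_smul]
      · show (2 : ZMod p)⁻¹ • (a + b - g (a + b)) = b
        rw [map_add, ha, hb]
        have : a + b - (a + -b) = (2 : ZMod p) • b := by module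
        rw [this, smul_smul, inv_mul_cancel₀ h2ne, one_smul]
    · intro v
      show (2 : ZMod p)⁻¹ • (v + g v) + (2 : ZMod p)⁻¹ • (v - g v) = v
      have : (2 : ZMod p)⁻¹ • (v + g v) + (2 : ZMod p)⁻¹ • (v - g v) =
          ((2 : ZMod p)⁻¹ * 2) • v := by module
      rw [this, inv_mul_cancel₀ h2ne, one_smul]
  -- `Vp ≃ Vm`
  have e2 : Vp ≃ Vm := by
    refine ⟨fun x => ⟨i (j (x : V)), ?_⟩, fun y => ⟨-(i (j (y : V))), ?_⟩, ?_, ?_⟩
    · rw [hVm, hgk, (hVp _).mp x.2]
    · rw [hVp, map_neg, hgk, (hVm _).mp y.2, map_neg, map_neg, neg_neg]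
    · intro x
      apply Subtype.ext
      show -(i (j (i (j (x : V))))) = x
      rw [hkk, neg_neg]
    · intro y
      apply Subtype.ext
      show i (j (-(i (j (y : V))))) = y
      rw [map_neg, map_neg, hkk, neg_neg]
  set Q := Nat.card Vp with hQ
  have hVQ : Nat.card V = Q ^ 2 := by
    rw [← Nat.card_congr e1, Nat.card_prod, ← Nat.card_congr e2, sq]
  obtain ⟨k, hk⟩ := exists_card_eq_pow Vp
  have hQ1 : 1 ≤ Q := by rw [hQ, hk]; exact Nat.one_le_pow _ _ hp.out.pos
  -- `M` acts freely on the nonzero vectors of `Vp`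
  let X := {v : V // g v = v ∧ v ≠ 0}
  let actM : MulAction M X :=
    { smul := fun m x => ⟨(m : V ≃ₗ[ZMod p] V) x.1, by
        refine ⟨?_, fun h0 => x.2.2 ((LinearEquiv.map_eq_zero_iff _).mp h0)⟩
        rw [← hMg m.1 m.2, x.2.1]⟩
      one_smul := fun x => Subtype.ext rfl
      mul_smul := fun a b x => Subtype.ext rfl }
  have hXcard : Nat.card X + 1 = Q := by
    have e3 : X ≃ {w : Vp // w ≠ 0} :=
      { toFun := fun x => ⟨⟨x.1, (hVp _).mpr x.2.1⟩, fun h0 => x.2.2 (congrArg Subtype.val h0)⟩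
        invFun := fun w => ⟨w.1.1, (hVp _).mp w.1.2, fun h0 => w.2 (Subtype.ext h0)⟩
        left_inv := fun x => rfl
        right_inv := fun w => rfl }
    rw [hQ, Nat.card_congr e3, ← Nat.card_congr (Equiv.optionSubtypeNe (0 : Vp)),
      Finite.card_option]
  have hMdvd : Nat.card M ∣ Nat.card X := by
    apply @card_dvd_of_free M X _ actM _ _
    intro m x hmx
    have h1 : (m : V ≃ₗ[ZMod p] V) x.1 = x.1 := congrArg Subtype.val hmx
    exact Subtype.ext (fpf_of_reg H hreg m.1 (hMH m.2) x.1 x.2.2 h1)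
  -- parity
  have hQodd : Odd Q := by
    rw [hQ, hk]
    exact Odd.pow (hp.out.odd_of_ne_two hp2)
  have h2dvd : 2 ∣ Nat.card X := by
    obtain ⟨t, ht⟩ := hQodd
    exact ⟨t, by omega⟩
  have hMcop2 : Nat.Coprime 2 (Nat.card M) := by
    have : Nat.Coprime (Nat.card M) 2 := Nat.Coprime.coprime_dvd_right (by norm_num) hMcop
    exact this.symm
  have hdvd : 2 * Nat.card M ∣ Q - 1 := by
    have h3 := Nat.Coprime.mul_dvd_of_dvd_of_dvd hMcop2 h2dvd hMdvd
    have : Q - 1 = Nat.card X := by omega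
    rw [this]
    exact h3
  have hcard' : Q ^ 2 - 1 = 120 * ε * Nat.card M := by
    rw [← hVQ, ← hHV, hcard]
    simp only [Nat.add_sub_cancel]
    ring
  obtain ⟨hε1, hsol⟩ := solve p k (Nat.card M) ε Q hp.out (by rw [hQ, hk]) hε hMcop hM0 hcard' hdvd
  refine ⟨hε1, ?_⟩
  rcases hsol with ⟨h1, h2⟩ | ⟨h1, h2⟩ | ⟨h1, h2⟩
  · left; exact ⟨by rw [hVQ, h1]; norm_num, h2⟩
  · right; left; exact ⟨by rw [hVQ, h1]; norm_num, h2⟩
  · right; right; exact ⟨by rw [hVQ, h1]; norm_num, h2⟩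

end Core

end Cfsg.Agent.Helper62.Zass
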