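import Mathlib
import Cfsg.Prelude.Def_Solvable
import Cfsg.Agent.Lib.Helper62.ZassCore
import Cfsg.Agent.Lib.Helper56.SL25Mat
import Cfsg.Agent.Lib.Helper71.FrobeniusSmall

/-!
# Insoluble sharply doubly transitive groups from the structure of insoluble Frobenius complements
-/

set_option autoImplicit false
set_option linter.unusedSectionVars false
set_option linter.unusedVariables false

namespace Cfsg.Agent.Helper62.Zass

open Matrix

/-- three explicit elements of `SL(2,5)` generating a quaternion group -/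
def mI : Matrix.SpecialLinearGroup (Fin 2) (ZMod 5) := ⟨!![2, 0; 0, 3], by decide⟩
/-- second generator -/
def mJ : Matrix.SpecialLinearGroup (Fin 2) (ZMod 5) := ⟨!![0, 1; 4, 0], by decide⟩
/-- the central involution -/
def mZ : Matrix.SpecialLinearGroup (Fin 2) (ZMod 5) := ⟨!![4, 0; 0, 4], by decide⟩

theorem mI_sq : mI * mI = mZ := by decide
theorem mJ_sq : mJ * mJ = mZ := by decide
theorem mJ_mI : mJ * mI = mZ * (mI * mJ) := by decide
theorem mZ_sq : mZ * mZ = 1 := by decide
theorem mZ_ne : mZ ≠ 1 := by decide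

section Main

variable {p : ℕ} [hp : Fact p.Prime] {V : Type*} [AddCommGroup V] [Module (ZMod p) V] [Finite V]

/-- the group is a Frobenius complement -/
theorem hFC_of_reg (H : Subgroup (V ≃ₗ[ZMod p] V))
    (hreg : ∀ v w : V, v ≠ 0 → w ≠ 0 → ∃! h : H, (h : V ≃ₗ[ZMod p] V) v = w)
    [Nontrivial V] [Nontrivial H] :
    ∃ (L : Type) (_ : Group L) (_ : Finite L) (C : Subgroup L),
      Cfsg.IsFrobeniusComplement C ∧ Nonempty (H ≃* C) := by
  have hfin : Finite H := Finite.of_injective (fun m : H => ((m : V ≃ₗ[ZMod p] V) : V → V))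
    (fun a b h => Subtype.ext (DFunLike.coe_injective h))
  apply Cfsg.Agent.Helper71.exists_frobenius_of_distribMulAction' (V := V) (H := H)
  intro h hh v hv
  by_contra hv0
  apply hh
  exact Subtype.ext (fpf_of_reg H hreg h.1 h.2 v hv0 hv)

theorem main (H : Subgroup (V ≃ₗ[ZMod p] V))
    (hreg : ∀ v w : V, v ≠ 0 → w ≠ 0 → ∃! h : H, (h : V ≃ₗ[ZMod p] V) v = w)
    [Nontrivial V]
    (h3359 : ∃ G₀ : Subgroup H, G₀.Normal ∧ (G₀.index = 1 ∨ G₀.index = 2) ∧
      ∃ S M : Subgroup H, S ⊔ M = G₀ ∧ S ⊓ M = ⊥ ∧ (∀ s ∈ S, ∀ x ∈ M, s * x = x * s) ∧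
        Nonempty (S ≃* Matrix.SpecialLinearGroup (Fin 2) (ZMod 5)) ∧
        (∀ (p : ℕ) [Fact p.Prime] (P : Sylow p M), IsCyclic P) ∧ (Nat.card M).Coprime 30) :
    (Nat.card V = 121 ∧ Nonempty (H ≃* Matrix.SpecialLinearGroup (Fin 2) (ZMod 5))) ∨
    (Nat.card V = 841 ∧
      Nonempty (H ≃* Matrix.SpecialLinearGroup (Fin 2) (ZMod 5) × Multiplicative (ZMod 7))) ∨
    (Nat.card V = 3481 ∧
      Nonempty (H ≃* Matrix.SpecialLinearGroup (Fin 2) (ZMod 5) × Multiplicative (ZMod 29))) := by
  classical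
  have hfin : Finite H := Finite.of_injective (fun m : H => ((m : V ≃ₗ[ZMod p] V) : V → V))
    (fun a b h => Subtype.ext (DFunLike.coe_injective h))
  obtain ⟨G₀, hG₀n, hidx, S, M, hSM, hdisj, hcomm, ⟨ψ⟩, -, hcop⟩ := h3359
  -- the quaternion elements
  set iS : S := ψ.symm mI with hiS
  set jS : S := ψ.symm mJ with hjS
  set zS : S := ψ.symm mZ with hzS
  have hiiS : iS * iS = zS := by rw [hiS, hzS, ← map_mul, mI_sq]
  have hjjS : jS * jS = zS := by rw [hjS, hzS, ← map_mul, mJ_sq]
  have hjiS : jS * iS = zS * (iS * jS) := by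
    rw [hiS, hjS, hzS, ← map_mul, ← map_mul, ← map_mul, mJ_mI]
  have hzzS : zS * zS = 1 := by rw [hzS, ← map_mul, mZ_sq, map_one]
  have hzneS : zS ≠ 1 := by
    intro h
    apply mZ_ne
    have := congrArg ψ h
    rwa [hzS, MulEquiv.apply_symm_apply, map_one] at this
  -- as linear maps
  set i : V ≃ₗ[ZMod p] V := ((iS : H) : V ≃ₗ[ZMod p] V) with hi
  set j : V ≃ₗ[ZMod p] V := ((jS : H) : V ≃ₗ[ZMod p] V) with hj
  set z : V ≃ₗ[ZMod p] V := ((zS : H) : V ≃ₗ[ZMod p] V) with hz
  have hii' : i * i = z := by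
    rw [hi, hz, ← hiiS]; rfl
  have hjj' : j * j = z := by
    rw [hj, hz, ← hjjS]; rfl
  have hji' : j * i = z * (i * j) := by
    rw [hi, hj, hz]
    have := congrArg (fun s : S => ((s : H) : V ≃ₗ[ZMod p] V)) hjiS
    exact this
  have hzz' : z * z = 1 := by
    have := congrArg (fun s : S => ((s : H) : V ≃ₗ[ZMod p] V)) hzzS
    exact this
  have hzne' : z ≠ 1 := by
    intro h
    apply hzneS
    apply Subtype.ext
    apply Subtype.ext
    exact h
  have hzH : z ∈ H := (zS : H).2
  have hzv : ∀ v, z v = -v := by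
    intro v
    by_contra hne
    have hw : v + z v ≠ 0 := fun h0 => hne (eq_neg_of_add_eq_zero_right h0)
    apply hzne'
    apply fpf_of_reg H hreg z hzH (v + z v) hw
    rw [map_add]
    have : z (z v) = v := by
      have := LinearEquiv.congr_fun hzz' v
      exact this
    rw [this, add_comm]
  have hii : ∀ v, i (i v) = -v := by
    intro v
    have := LinearEquiv.congr_fun hii' v
    rw [← hzv]
    exact this
  have hjj : ∀ v, j (j v) = -v := by
    intro v
    have := LinearEquiv.congr_fun hjj' v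
    rw [← hzv]
    exact this
  have hji : ∀ v, j (i v) = -(i (j v)) := by
    intro v
    have := LinearEquiv.congr_fun hji' v
    rw [← hzv]
    exact this
  -- the group `M` inside `GL(V)`
  set M' : Subgroup (V ≃ₗ[ZMod p] V) := M.map H.subtype with hM'
  have hM'H : M' ≤ H := by
    rintro _ ⟨m, -, rfl⟩
    exact m.2
  have hM'card : Nat.card M' = Nat.card M := Subgroup.card_subtype H M
  have hM'i : ∀ m ∈ M', ∀ v, m (i v) = i (m v) := by
    rintro _ ⟨m, hm, rfl⟩ v
    have h1 := hcomm (iS : H) iS.2 m hm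
    have h2 := congrArg (fun s : H => (s : V ≃ₗ[ZMod p] V)) h1
    have h3 := LinearEquiv.congr_fun h2 v
    exact h3.symm
  have hM'j : ∀ m ∈ M', ∀ v, m (j v) = j (m v) := by
    rintro _ ⟨m, hm, rfl⟩ v
    have h1 := hcomm (jS : H) jS.2 m hm
    have h2 := congrArg (fun s : H => (s : V ≃ₗ[ZMod p] V)) h1
    have h3 := LinearEquiv.congr_fun h2 v
    exact h3.symm
  -- the internal direct product
  let φ : S × M →* H := MonoidHom.noncommCoprod S.subtype M.subtype
    (fun s m => hcomm s.1 s.2 m.1 m.2)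
  have hφinj : Function.Injective φ := by
    apply (MonoidHom.noncommCoprod_injective _ _ _).mpr
    refine ⟨S.subtype_injective, M.subtype_injective, ?_⟩
    rw [Subgroup.range_subtype, Subgroup.range_subtype, disjoint_iff, hdisj]
  have hφrange : φ.range = G₀ := by
    have := MonoidHom.noncommCoprod_range S.subtype M.subtype
      (fun s m => hcomm s.1 s.2 m.1 m.2)
    rw [Subgroup.range_subtype, Subgroup.range_subtype, hSM] at this
    exact this
  have hScard : Nat.card S = 120 := by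
    rw [Nat.card_congr ψ.toEquiv, Cfsg.Agent.Helper56.card_SL25]
  have hG₀card : Nat.card G₀ = 120 * Nat.card M := by
    rw [← hφrange, ← Nat.card_congr (MonoidHom.ofInjective hφinj).toEquiv, Nat.card_prod, hScard]
  have hcard : Nat.card H = G₀.index * (120 * Nat.card M) := by
    rw [← hG₀card, mul_comm]
    exact (Subgroup.card_mul_index G₀).symm
  obtain ⟨hε, hcases⟩ := core H hreg i j (iS : H).2 (jS : H).2 hii hjj hji M' hM'H hM'i hM'j
    (by rw [hM'card]; exact hcop) G₀.index hidx (by rw [hM'card]; exact hcard)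
  rw [hM'card] at hcases
  have hG₀top : G₀ = ⊤ := Subgroup.index_eq_one.mp hε
  have hφsurj : Function.Surjective φ := by
    rw [← MonoidHom.range_eq_top, hφrange, hG₀top]
  let e : S × M ≃* H := MulEquiv.ofBijective φ ⟨hφinj, hφsurj⟩
  rcases hcases with ⟨hV, hM1⟩ | ⟨hV, hM7⟩ | ⟨hV, hM29⟩
  · left
    refine ⟨hV, ⟨?_⟩⟩
    have hMfin : Finite M := inferInstance
    have hMsub : Subsingleton M := (Nat.card_eq_one_iff_unique.mp hM1).1
    let hMuniq : Unique M := ⟨⟨1⟩, fun a => Subsingleton.elim _ _⟩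
    exact (e.symm.trans (MulEquiv.prodUnique)).trans ψ
  · right; left
    refine ⟨hV, ⟨?_⟩⟩
    have h7 : Fact (Nat.Prime 7) := ⟨by norm_num⟩
    have eM : M ≃* Multiplicative (ZMod 7) :=
      mulEquivOfPrimeCardEq (p := 7) hM7 (by rw [Nat.card_eq_fintype_card]; rfl)
    exact e.symm.trans (MulEquiv.prodCongr ψ eM)
  · right; right
    refine ⟨hV, ⟨?_⟩⟩
    have h29 : Fact (Nat.Prime 29) := ⟨by norm_num⟩
    have eM : M ≃* Multiplicative (ZMod 29) :=
      mulEquivOfPrimeCardEq (p := 29) hM29 (by rw [Nat.card_eq_fintype_card]; rfl)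
    exact e.symm.trans (MulEquiv.prodCongr ψ eM)

end Main

end Cfsg.Agent.Helper62.Zass
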